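import Groth.Prelude.Def_W4bk4goldsch23FF
import Mathlib.RingTheory.DiscreteValuationRing.Basic
import Mathlib.RingTheory.Valuation.Integral

/-! Basic API for places of `K/k`. -/

namespace Groth.Agent.Lib.FunFld.Place

open WithZero IsLocalRing

universe u v
variable {k : Type u} {K : Type v} [Field k] [Field K] [Algebra k K]

theorem val_algebraMap (P : _root_.FunFld.Place k K) {c : k} (hc : c ≠ 0) :
    P.1 (algebraMap k K c) = 1 := by
  refine le_antisymm (P.2.1 c) ?_
  have h := P.2.1 c⁻¹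
  rw [map_inv₀, map_inv₀] at h
  have h0 : P.1 (algebraMap k K c) ≠ 0 := by simpa using hc
  exact (inv_le_one₀ (zero_lt_iff.mpr h0)).mp h

theorem val_algebraMap_le (P : _root_.FunFld.Place k K) (c : k) : P.1 (algebraMap k K c) ≤ 1 :=
  P.2.1 c

theorem ord_def (P : _root_.FunFld.Place k K) (x : K) : P.ord x = -WithZero.log (P.1 x) := rfl

theorem val_eq_exp (P : _root_.FunFld.Place k K) {x : K} (hx : x ≠ 0) :
    P.1 x = exp (-P.ord x) := by
  rw [ord_def, neg_neg, exp_log]
  simpa using hx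

@[simp] theorem ord_zero (P : _root_.FunFld.Place k K) : P.ord 0 = 0 := by simp [ord_def]

@[simp] theorem ord_one (P : _root_.FunFld.Place k K) : P.ord 1 = 0 := by simp [ord_def]

theorem ord_algebraMap (P : _root_.FunFld.Place k K) (c : k) : P.ord (algebraMap k K c) = 0 := by
  rcases eq_or_ne c 0 with rfl | hc
  · simp
  · simp [ord_def, val_algebraMap P hc]

theorem ord_mul (P : _root_.FunFld.Place k K) {x y : K} (hx : x ≠ 0) (hy : y ≠ 0) :
    P.ord (x * y) = P.ord x + P.ord y := by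
  rw [ord_def, ord_def, ord_def, map_mul, log_mul (by simpa using hx) (by simpa using hy)]
  ring

theorem ord_inv (P : _root_.FunFld.Place k K) (x : K) : P.ord x⁻¹ = -P.ord x := by
  rw [ord_def, ord_def, map_inv₀, log_inv]

theorem ord_div (P : _root_.FunFld.Place k K) {x y : K} (hx : x ≠ 0) (hy : y ≠ 0) :
    P.ord (x / y) = P.ord x - P.ord y := by
  rw [div_eq_mul_inv, ord_mul P hx (inv_ne_zero hy), ord_inv]; ring

theorem ord_pow (P : _root_.FunFld.Place k K) (x : K) (n : ℕ) : P.ord (x ^ n) = n * P.ord x := by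
  rw [ord_def, ord_def, map_pow, log_pow, nsmul_eq_mul]; ring

theorem ord_zpow (P : _root_.FunFld.Place k K) (x : K) (n : ℤ) : P.ord (x ^ n) = n * P.ord x := by
  rw [ord_def, ord_def, map_zpow₀, log_zpow, zsmul_eq_mul]; simp

theorem ord_smul (P : _root_.FunFld.Place k K) {c : k} (hc : c ≠ 0) (x : K) :
    P.ord (c • x) = P.ord x := by
  rw [ord_def, ord_def, Algebra.smul_def, map_mul, val_algebraMap P hc, one_mul]

theorem ord_neg (P : _root_.FunFld.Place k K) (x : K) : P.ord (-x) = P.ord x := by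
  rw [ord_def, ord_def, Valuation.map_neg]

theorem val_le_exp_iff (P : _root_.FunFld.Place k K) {x : K} {n : ℤ} :
    P.1 x ≤ exp n ↔ x = 0 ∨ -n ≤ P.ord x := by
  rcases eq_or_ne x 0 with rfl | hx
  · simp
  · rw [val_eq_exp P hx, exp_le_exp]
    simp [hx]; omega

theorem val_le_one_iff (P : _root_.FunFld.Place k K) {x : K} :
    P.1 x ≤ 1 ↔ 0 ≤ P.ord x := by
  rcases eq_or_ne x 0 with rfl | hx
  · simp
  · rw [val_eq_exp P hx, ← exp_zero, exp_le_exp]; omega

theorem one_lt_val_iff (P : _root_.FunFld.Place k K) {x : K} :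
    1 < P.1 x ↔ P.ord x < 0 := by
  rw [← not_le, val_le_one_iff, not_le]

theorem val_lt_one_iff (P : _root_.FunFld.Place k K) {x : K} :
    P.1 x < 1 ↔ x = 0 ∨ 0 < P.ord x := by
  rcases eq_or_ne x 0 with rfl | hx
  · simp
  · rw [val_eq_exp P hx, ← exp_zero, exp_lt_exp]
    simp [hx]

theorem ord_pos_iff (P : _root_.FunFld.Place k K) {x : K} :
    0 < P.ord x ↔ x ≠ 0 ∧ P.1 x < 1 := by
  rcases eq_or_ne x 0 with rfl | hx
  · simp
  · rw [val_lt_one_iff]; simp [hx]

theorem ord_eq_of_val_eq_exp (P : _root_.FunFld.Place k K) {x : K} {n : ℤ} (h : P.1 x = exp n) :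
    P.ord x = -n := by
  rw [ord_def, h, log_exp]

theorem exists_val_eq_exp (P : _root_.FunFld.Place k K) (n : ℤ) : ∃ x : K, P.1 x = exp n :=
  P.2.2 _

theorem exists_uniformizer (P : _root_.FunFld.Place k K) :
    ∃ t : K, t ≠ 0 ∧ P.1 t = exp (-1) := by
  obtain ⟨t, ht⟩ := P.2.2 (exp (-1))
  refine ⟨t, ?_, ht⟩
  rintro rfl
  exact exp_ne_zero ((map_zero P.1).symm.trans ht).symm

/-- A chosen uniformizer at `P`. -/
noncomputable def unif (P : _root_.FunFld.Place k K) : K := (exists_uniformizer P).choose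

theorem unif_ne_zero (P : _root_.FunFld.Place k K) : unif P ≠ 0 :=
  (exists_uniformizer P).choose_spec.1

@[simp] theorem val_unif (P : _root_.FunFld.Place k K) : P.1 (unif P) = exp (-1) :=
  (exists_uniformizer P).choose_spec.2

@[simp] theorem val_unif_zpow (P : _root_.FunFld.Place k K) (n : ℤ) :
    P.1 (unif P ^ n) = exp (-n) := by
  rw [map_zpow₀, val_unif, ← exp_zsmul]; simp

theorem mem_O_iff (P : _root_.FunFld.Place k K) {x : K} : x ∈ P.O ↔ P.1 x ≤ 1 := Iff.rfl

theorem mem_maximalIdeal_iff (P : _root_.FunFld.Place k K) (z : P.O) :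
    z ∈ maximalIdeal P.O ↔ P.1 z.1 < 1 := by
  rw [mem_maximalIdeal, mem_nonunits_iff, (Valuation.valuationSubring.integers P.1).isUnit_iff_valuation_eq_one]
  change ¬ P.1 z.1 = 1 ↔ _
  exact ⟨fun h => lt_of_le_of_ne z.2 h, ne_of_lt⟩

theorem res_eq_zero_iff (P : _root_.FunFld.Place k K) (z : P.O) :
    residue P.O z = 0 ↔ P.1 z.1 < 1 := by
  rw [IsLocalRing.residue_eq_zero_iff, mem_maximalIdeal_iff]

@[simp] theorem coe_algebraMap_O (P : _root_.FunFld.Place k K) (c : k) :
    ((algebraMap k P.O c : P.O) : K) = algebraMap k K c := rfl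

theorem algebraMap_residue (P : _root_.FunFld.Place k K) (c : k) :
    algebraMap k (ResidueField P.O) c = residue P.O (algebraMap k P.O c) := rfl

instance isScalarTower_O (P : _root_.FunFld.Place k K) : IsScalarTower k P.O K :=
  IsScalarTower.of_algebraMap_eq fun _ => rfl

/-- The residue map `O_P → κ(P)` as a `k`-linear map. -/
noncomputable def resLin (P : _root_.FunFld.Place k K) : P.O →ₗ[k] ResidueField P.O where
  toFun := residue P.O
  map_add' := map_add _
  map_smul' c z := by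
    rw [RingHom.id_apply, Algebra.smul_def c z, map_mul]
    exact (Algebra.smul_def c (residue P.O z)).symm

@[simp] theorem resLin_apply (P : _root_.FunFld.Place k K) (z : P.O) :
    resLin P z = residue P.O z := rfl

theorem place_ext_of_le_iff {P Q : _root_.FunFld.Place k K}
    (h : ∀ x, P.1 x ≤ 1 ↔ Q.1 x ≤ 1) : P = Q := by
  have hlt : ∀ x, P.1 x < 1 ↔ Q.1 x < 1 := by
    intro x
    rcases eq_or_ne x 0 with rfl | hx
    · simp
    have h' := h x⁻¹
    rw [map_inv₀, map_inv₀, inv_le_one₀ (zero_lt_iff.mpr (by simpa using hx)),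
      inv_le_one₀ (zero_lt_iff.mpr (by simpa using hx))] at h'
    rw [← not_le, ← not_le, h']
  have hQt : Q.1 (unif P) < 1 := by
    rw [← hlt, val_unif, ← exp_zero, exp_lt_exp]; norm_num
  obtain ⟨e, he⟩ : ∃ e : ℤ, Q.1 (unif P) = exp e :=
    ⟨_, val_eq_exp Q (unif_ne_zero P)⟩
  have key : ∀ x, x ≠ 0 → Q.1 x = exp (P.ord x * e) := by
    intro x hx
    have h1 : P.1 (x * unif P ^ (-P.ord x)) = 1 := by
      rw [map_mul, val_unif_zpow, val_eq_exp P hx, ← exp_add, ← exp_zero]; congr 1; ring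
    have h2 : Q.1 (x * unif P ^ (-P.ord x)) = 1 := by
      refine le_antisymm ((h _).mp h1.le) (not_lt.mp fun hh => ?_)
      exact ne_of_lt ((hlt _).mpr hh) h1
    rw [map_mul, map_zpow₀, he, ← exp_zsmul, zsmul_eq_mul] at h2
    have h3 : Q.1 x = (exp ((((-P.ord x : ℤ)) : ℤ) * e))⁻¹ := by
      exact eq_inv_of_mul_eq_one_left (by simpa using h2)
    rw [h3, ← exp_neg]; congr 1; ring
  obtain ⟨s, hs⟩ := Q.2.2 (exp (-1))
  have hs0 : s ≠ 0 := by
    rintro rfl; exact exp_ne_zero ((map_zero Q.1).symm.trans hs).symm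
  have h4 := key s hs0
  rw [hs, exp_inj] at h4
  have he1 : e = -1 := by
    have hneg : e < 0 := by rwa [he, ← exp_zero, exp_lt_exp] at hQt
    have hdvd : e ∣ (1 : ℤ) := by
      refine ⟨-P.ord s, ?_⟩
      linarith [h4]
    rcases Int.isUnit_iff.mp (isUnit_of_dvd_one hdvd) with h5 | h5 <;> omega
  refine Subtype.ext (Valuation.ext fun x => ?_)
  rcases eq_or_ne x 0 with rfl | hx
  · simp
  · rw [key x hx, he1, val_eq_exp P hx]; congr 1; ring

theorem place_ext {P Q : _root_.FunFld.Place k K} (h : P.O = Q.O) : P = Q :=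
  place_ext_of_le_iff fun x => by
    have := SetLike.ext_iff.mp h x
    exact this

theorem place_eq_of_O_le {P Q : _root_.FunFld.Place k K} (h : P.O ≤ Q.O) : P = Q := by
  refine place_ext_of_le_iff fun x => ⟨fun hx => h hx, fun hx => ?_⟩
  by_contra hP
  rw [not_le, one_lt_val_iff] at hP
  obtain ⟨y, hy⟩ := exists_val_eq_exp Q 1
  have hy0 : y ≠ 0 := by
    rintro rfl; exact exp_ne_zero ((map_zero Q.1).symm.trans hy).symm
  have hx0 : x ≠ 0 := by rintro rfl; simp at hP
  obtain ⟨N, hN⟩ : ∃ N : ℕ, -P.ord y ≤ N := ⟨(-P.ord y).toNat, Int.self_le_toNat _⟩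
  have h1 : P.1 (y * (x⁻¹) ^ N) ≤ 1 := by
    rw [val_le_one_iff, ord_mul P hy0 (pow_ne_zero _ (inv_ne_zero hx0)), ord_pow, ord_inv]
    have : (N : ℤ) * 1 ≤ (N : ℤ) * (-P.ord x) :=
      mul_le_mul_of_nonneg_left (by omega) (Int.natCast_nonneg N)
    linarith
  have h2 : Q.1 (y * (x⁻¹) ^ N) ≤ 1 := h h1
  have h3 : Q.1 (y * (x⁻¹) ^ N * x ^ N) ≤ 1 := by
    rw [map_mul, map_pow Q.1 x]
    exact mul_le_one' h2 (pow_le_one' hx N)
  rw [mul_assoc, ← mul_pow, inv_mul_cancel₀ hx0, one_pow, mul_one, hy, ← exp_zero, exp_le_exp] at h3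
  norm_num at h3

end Groth.Agent.Lib.FunFld.Place
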