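import Groth.Agent.Lib.FunFld.Weil
import Mathlib.FieldTheory.IsAlgClosed.Basic

/-! Degree-one places, rational function fields, algebraically closed constants. -/

namespace Groth.Agent.Lib.FunFld.Rational

open WithZero IntermediateField
open Groth.Agent.Lib.FunFld.Place Groth.Agent.Lib.FunFld.Bound Groth.Agent.Lib.FunFld.Existence
open Groth.Agent.Lib.FunFld.Degree Groth.Agent.Lib.FunFld.Riemann Groth.Agent.Lib.FunFld.Weil

universe u v
variable {k : Type u} {K : Type v} [Field k] [Field K] [Algebra k K]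

local notation "Pl" => _root_.FunFld.Place k K
local notation "Dv" => _root_.FunFld.Divisor k K

theorem transcendental_of_adjoin_eq_top (hK : FunFld.IsFunctionField k K) {x : K}
    (h : adjoin k ({x} : Set K) = ⊤) : Transcendental k x := by
  intro hx
  obtain ⟨y, hy⟩ := exists_transcendental hK
  obtain ⟨c, rfl⟩ := hK.2 x hx
  have hbot : adjoin k ({algebraMap k K c} : Set K) = ⊥ :=
    adjoin_simple_eq_bot_iff.mpr (IntermediateField.algebraMap_mem _ _)
  rw [hbot] at h
  have hy' : y ∈ (⊥ : IntermediateField k K) := h ▸ mem_top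
  exact not_mem_range_of_transcendental hy (IntermediateField.mem_bot.mp hy')

theorem genus_eq_zero_of_adjoin_eq_top (hK : FunFld.IsFunctionField k K) {x : K}
    (h : adjoin k ({x} : Set K) = ⊤) : _root_.FunFld.genus k K = 0 := by
  have hx := transcendental_of_adjoin_eq_top hK h
  obtain ⟨N, hN⟩ := exists_bound_delta_eq hK
  have hdeg : (poleDiv (k := k) x).deg = 1 := by
    rw [deg_poleDiv hK hx, h, IntermediateField.finrank_top]; rfl
  let l : ℕ := N.toNat
  let D : Dv := (l : ℤ) • poleDiv x
  have hD : D.deg = l := by rw [deg_smul, hdeg, mul_one]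
  have := finiteDimensional_L hK D
  let v : Fin (l + 1) → _root_.FunFld.L D := fun j => ⟨x ^ (j : ℕ), by
    rw [mem_L_iff_ord]
    refine Or.inr fun P => ?_
    simp only [D, Finsupp.smul_apply, poleDiv_apply hK, smul_eq_mul, ord_pow]
    have hj : ((j : ℕ) : ℤ) ≤ l := by exact_mod_cast Fin.is_le j
    rcases le_total (P.ord x) 0 with h | h
    · rw [max_eq_left (by omega), mul_neg, neg_neg]
      exact mul_le_mul_of_nonpos_right hj h
    · rw [max_eq_right (by omega)]; simpa using mul_nonneg (Int.natCast_nonneg j.1) h⟩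
  have hli : LinearIndependent k v := by
    refine LinearIndependent.of_comp (Submodule.subtype _) ?_
    rw [Fintype.linearIndependent_iff]
    intro c hc j
    have h0 : (∑ i : Fin (l + 1), Polynomial.monomial (i : ℕ) (c i)) = 0 := by
      by_contra h0
      refine hx ⟨_, h0, ?_⟩
      rw [map_sum]
      simpa [v, Polynomial.aeval_monomial, Algebra.smul_def] using hc
    have := congrArg (fun p : Polynomial k => p.coeff (j : ℕ)) h0
    simpa [Polynomial.finsetSum_coeff, Polynomial.coeff_monomial, Fin.val_inj] using this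
  have h1 : (l + 1 : ℕ) ≤ _root_.FunFld.ell D := by
    simpa [_root_.FunFld.ell] using hli.fintype_card_le_finrank
  have h2 := hN D (by omega)
  simp only [delta] at h2
  omega

theorem adjoin_eq_top_of_deg_poleDiv (hK : FunFld.IsFunctionField k K) {x : K}
    (hx : Transcendental k x) (h : (poleDiv (k := k) x).deg = 1) :
    adjoin k ({x} : Set K) = ⊤ := by
  rw [deg_poleDiv hK hx] at h
  exact finrank_eq_one_iff_eq_top.mp (by exact_mod_cast h)

theorem eq_single_of_deg_eq_one (hK : FunFld.IsFunctionField k K) {D : Dv} (h0 : 0 ≤ D)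
    (h : D.deg = 1) : ∃ P : Pl, P.deg = 1 ∧ D = Finsupp.single P 1 := by
  have hne : D ≠ 0 := by rintro rfl; simp at h
  obtain ⟨P, hP⟩ := Finsupp.ne_iff.mp hne
  have hP1 : (1 : ℤ) ≤ D P := by
    have := Finsupp.le_def.mp h0 P
    simp only [Finsupp.coe_zero, Pi.zero_apply] at this hP
    omega
  have hle : Finsupp.single P 1 ≤ D := by
    refine Finsupp.le_def.mpr fun Q => ?_
    rcases eq_or_ne Q P with rfl | hQ
    · rwa [Finsupp.single_eq_same]
    · rw [Finsupp.single_eq_of_ne hQ]; exact Finsupp.le_def.mp h0 Q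
  have h1 := deg_mono hle
  rw [deg_single, h] at h1
  have h2 := deg_pos hK P
  refine ⟨P, by omega, le_antisymm (Finsupp.le_def.mpr fun Q => ?_) hle⟩
  by_contra hlt
  have hle2 : Finsupp.single P 1 + Finsupp.single Q 1 ≤ D := by
    classical
    refine Finsupp.le_def.mpr fun R => ?_
    have a1 := Finsupp.le_def.mp hle R
    have a2 := Finsupp.le_def.mp h0 R
    rcases eq_or_ne R Q with rfl | hR
    · simp only [Finsupp.add_apply, Finsupp.single_eq_same] at *; omega
    · simpa [Finsupp.single_eq_of_ne hR] using a1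
  have h3 := deg_mono hle2
  rw [deg_add, deg_single, deg_single, h] at h3
  have := deg_pos hK Q
  omega

theorem exists_place_deg_one_of_adjoin_eq_top (hK : FunFld.IsFunctionField k K) {x : K}
    (h : adjoin k ({x} : Set K) = ⊤) :
    ∃ P : Pl, P.deg = 1 ∧ P.ord x = -1 ∧ ∀ Q : Pl, Q ≠ P → 0 ≤ Q.ord x := by
  have hx := transcendental_of_adjoin_eq_top hK h
  have hdeg : (poleDiv (k := k) x).deg = 1 := by
    rw [deg_poleDiv hK hx, h, IntermediateField.finrank_top]; rfl
  obtain ⟨P, hP, hPD⟩ := eq_single_of_deg_eq_one hK (show 0 ≤ poleDiv (k := k) x from negPart_nonneg _) hdeg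
  refine ⟨P, hP, ?_, fun Q hQ => ?_⟩
  · have := DFunLike.congr_fun hPD P
    rw [poleDiv_apply hK, Finsupp.single_eq_same] at this
    omega
  · have := DFunLike.congr_fun hPD Q
    rw [poleDiv_apply hK, Finsupp.single_eq_of_ne hQ] at this
    omega

theorem adjoin_eq_top_of_simple_pole (hK : FunFld.IsFunctionField k K) {x : K} {P : Pl}
    (hP : P.deg = 1) (h1 : P.ord x = -1) (h2 : ∀ Q : Pl, Q ≠ P → 0 ≤ Q.ord x) :
    adjoin k ({x} : Set K) = ⊤ := by
  classical
  have hx := transcendental_of_ord_ne_zero hK P (x := x) (by omega)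
  refine adjoin_eq_top_of_deg_poleDiv hK hx ?_
  have : poleDiv (k := k) x = Finsupp.single P 1 := by
    ext Q
    rw [poleDiv_apply hK]
    rcases eq_or_ne Q P with rfl | hQ
    · rw [h1, Finsupp.single_eq_same]; rfl
    · rw [Finsupp.single_eq_of_ne hQ]; have := h2 Q hQ; omega
  rw [this, deg_single, hP]; rfl

theorem exists_simple_pole_of_ell_single (hK : FunFld.IsFunctionField k K) {P : Pl}
    (hell : 1 < _root_.FunFld.ell (Finsupp.single P (1 : ℤ))) :
    ∃ x : K, P.ord x = -1 ∧ ∀ Q : Pl, Q ≠ P → 0 ≤ Q.ord x := by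
  have := finiteDimensional_L hK (Finsupp.single P (1 : ℤ))
  obtain ⟨x, hx, hxr⟩ : ∃ x ∈ _root_.FunFld.L (Finsupp.single P (1 : ℤ)),
      x ∉ _root_.FunFld.L (0 : Dv) := by
    by_contra hc
    simp only [not_exists, not_and, not_not] at hc
    have h0 := ell_zero hK
    simp only [_root_.FunFld.ell] at hell h0
    have := finiteDimensional_L_zero hK
    have h3 : Module.finrank k (_root_.FunFld.L (Finsupp.single P (1 : ℤ))) ≤
        Module.finrank k (_root_.FunFld.L (0 : Dv)) := Submodule.finrank_mono hc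
    omega
  have hx0 : x ≠ 0 := fun h0 => hxr (h0 ▸ zero_mem _)
  rw [mem_L_iff_ord, or_iff_right hx0] at hx hxr
  have hQ : ∀ Q : Pl, Q ≠ P → 0 ≤ Q.ord x := fun Q hQ => by
    have := hx Q; rw [Finsupp.single_eq_of_ne hQ] at this; omega
  refine ⟨x, ?_, hQ⟩
  have := hx P
  rw [Finsupp.single_eq_same] at this
  by_contra hne
  refine hxr fun Q => ?_
  simp only [Finsupp.coe_zero, Pi.zero_apply, neg_zero]
  rcases eq_or_ne Q P with rfl | h
  · omega
  · exact hQ Q h

theorem ell_single_one_eq_one (hK : FunFld.IsFunctionField k K) (hg : 0 < _root_.FunFld.genus k K)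
    {P : Pl} (hP : P.deg = 1) : _root_.FunFld.ell (Finsupp.single P (1 : ℤ)) = 1 := by
  refine le_antisymm (not_lt.mp fun hlt => ?_) ?_
  · obtain ⟨x, h1, h2⟩ := exists_simple_pole_of_ell_single hK hlt
    have := genus_eq_zero_of_adjoin_eq_top hK (adjoin_eq_top_of_simple_pole hK hP h1 h2)
    omega
  · have := finiteDimensional_L hK (Finsupp.single P (1 : ℤ))
    rw [← ell_zero hK]
    exact Submodule.finrank_mono (L_mono (Finsupp.single_nonneg.mpr zero_le_one))

theorem deg_eq_one (hK : FunFld.IsFunctionField k K) [IsAlgClosed k] (P : Pl) : P.deg = 1 := by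
  have := finiteDimensional_residueField hK P
  have : Algebra.IsIntegral k (IsLocalRing.ResidueField P.O) :=
    @Algebra.IsIntegral.of_finite k (IsLocalRing.ResidueField P.O) _ _ _ this
  have hb : Function.Bijective (algebraMap k (IsLocalRing.ResidueField P.O)) :=
    IsAlgClosed.algebraMap_bijective_of_isIntegral
  exact (LinearEquiv.finrank_eq
    (LinearEquiv.ofBijective (Algebra.linearMap k (IsLocalRing.ResidueField P.O)) hb)).symm.trans
    (Module.finrank_self k)

end Groth.Agent.Lib.FunFld.Rational
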