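import Groth.Agent.Lib.FunFld.Gen.Degree
import Groth.Agent.Lib.FunFld.Rational
import Groth.Prelude.Def_W4bk4goldsch23Ext
import Mathlib.RingTheory.Algebraic.Integral

/-! Finite extensions of function fields: places below and above, `∑ e f = n`, conorm. -/

namespace Groth.Agent.Lib.FunFld.Ext

open WithZero IntermediateField
open Groth.Agent.Lib.FunFld.Place Groth.Agent.Lib.FunFld.Gen.Bound
open Groth.Agent.Lib.FunFld.Bound (transcendental_inv ne_zero_of_transcendental)

universe u v w
variable {k : Type u} {K : Type v} {K' : Type w} [Field k] [Field K] [Field K']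
  [Algebra k K] [Algebra K K'] [Algebra k K']

local notation "PlK" => _root_.FunFld.Place k K
local notation "PlK'" => _root_.FunFld.Place k K'

theorem transcendental_map [IsScalarTower k K K'] {x : K} (hx : Transcendental k x) :
    Transcendental k (algebraMap K K' x) :=
  (transcendental_algebraMap_iff (algebraMap K K').injective).mpr hx

theorem finrank_adjoin_map [IsScalarTower k K K'] (x : K) :
    Module.finrank (adjoin k ({algebraMap K K' x} : Set K')) K' =
      Module.finrank (adjoin k ({x} : Set K)) K * Module.finrank K K' := by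
  rw [Module.finrank_mul_finrank]
  let E : IntermediateField k K := adjoin k ({x} : Set K)
  have hmap : E.map (IsScalarTower.toAlgHom k K K') = adjoin k ({algebraMap K K' x} : Set K') := by
    rw [adjoin_map]; simp
  rw [← hmap]
  exact (Algebra.finrank_eq_of_equiv_equiv (IntermediateField.equivMap E _).toRingEquiv
    (RingEquiv.refl K') (RingHom.ext fun e => by
      simp [IntermediateField.algebraMap_apply, IsScalarTower.algebraMap_apply E K K'])).symm

theorem isFF (hK : FunFld.IsFunctionField k K) : IsFF k K := hK.1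

variable [IsScalarTower k K K'] [FiniteDimensional K K']

theorem isFF_of_finite (hK : FunFld.IsFunctionField k K) : IsFF k K' := by
  obtain ⟨x, hx, hfin⟩ := hK.1
  refine ⟨algebraMap K K' x, transcendental_map hx, Module.finite_of_finrank_pos ?_⟩
  rw [finrank_adjoin_map]
  exact Nat.mul_pos Module.finrank_pos Module.finrank_pos

theorem exists_place_below' (hK : IsFF k K) (Q : PlK') :
    ∃ (P : PlK) (e : ℕ), 0 < e ∧ FunFld.IsOverWith Q P e := by
  let V : ValuationSubring K := Q.O.comap (algebraMap K K')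
  have hk : ∀ c : k, algebraMap k K c ∈ V := fun c => by
    change Q.1 (algebraMap K K' (algebraMap k K c)) ≤ 1
    rw [← IsScalarTower.algebraMap_apply]
    exact Q.2.1 c
  have hV : V ≠ ⊤ := by
    intro h
    obtain ⟨y, hy⟩ := exists_val_eq_exp Q 1
    let ak : K →+* Q.O := (algebraMap K K').codRestrict Q.O fun a => by
      have : a ∈ V := h ▸ ValuationSubring.mem_top a
      exact this
    let _ : Algebra K Q.O := ak.toAlgebra
    have : IsScalarTower K Q.O K' := IsScalarTower.of_algebraMap_eq fun _ => rfl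
    have hint : IsIntegral Q.O y := (Algebra.IsIntegral.isIntegral (R := K) y).tower_top
    obtain ⟨z, hz⟩ := IsIntegrallyClosed.algebraMap_eq_of_integral hint
    have : Q.1 y ≤ 1 := by rw [← hz]; exact z.2
    rw [hy, ← exp_zero, exp_le_exp] at this
    norm_num at this
  obtain ⟨P, hP⟩ := Groth.Agent.Lib.FunFld.Gen.Existence.exists_place_of_valuationSubring hK V hk hV
  have hle : ∀ a : K, P.1 a ≤ 1 ↔ Q.1 (algebraMap K K' a) ≤ 1 := fun a => SetLike.ext_iff.mp hP a
  have hlt : ∀ a : K, a ≠ 0 → (P.1 a < 1 ↔ Q.1 (algebraMap K K' a) < 1) := by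
    intro a ha
    have h1 := hle a⁻¹
    rw [map_inv₀, map_inv₀, map_inv₀, inv_le_one₀ (zero_lt_iff.mpr (by simpa using ha)),
      inv_le_one₀ (zero_lt_iff.mpr (by simpa using ha))] at h1
    rw [← not_le, ← not_le, h1]
  have ht0 : algebraMap K K' (unif P) ≠ 0 := by simpa using unif_ne_zero P
  have he0 : 0 < Q.ord (algebraMap K K' (unif P)) := by
    rw [ord_pos_iff]
    exact ⟨ht0, (hlt _ (unif_ne_zero P)).mp (by rw [val_unif, ← exp_zero, exp_lt_exp]; norm_num)⟩
  refine ⟨P, (Q.ord (algebraMap K K' (unif P))).toNat, by omega, fun a => ?_⟩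
  rcases eq_or_ne a 0 with rfl | ha
  · simp [zero_pow (by omega : (Q.ord (algebraMap K K' (unif P))).toNat ≠ 0)]
  set u := a * unif P ^ (-P.ord a) with hu
  have hu0 : u ≠ 0 := mul_ne_zero ha (zpow_ne_zero _ (unif_ne_zero P))
  have hu1 : P.1 u = 1 := by
    rw [hu, map_mul, val_unif_zpow, val_eq_exp P ha, ← exp_add, ← exp_zero]; congr 1; ring
  have hQu : Q.1 (algebraMap K K' u) = 1 :=
    le_antisymm ((hle u).mp hu1.le) (not_lt.mp fun h => ne_of_lt ((hlt u hu0).mpr h) hu1)
  have hau : algebraMap K K' a = algebraMap K K' u * algebraMap K K' (unif P) ^ (P.ord a) := by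
    rw [← map_zpow₀, ← map_mul, hu, mul_assoc, ← zpow_add₀ (unif_ne_zero P), neg_add_cancel,
      zpow_zero, mul_one]
  rw [hau, map_mul, hQu, one_mul, map_zpow₀, val_eq_exp Q ht0, val_eq_exp P ha, ← exp_zsmul,
    ← exp_nsmul]
  congr 1
  simp only [zsmul_eq_mul, nsmul_eq_mul, Int.cast_id]
  rw [Int.toNat_of_nonneg he0.le]
  ring

theorem exists_place_below (hK : FunFld.IsFunctionField k K) (Q : PlK') :
    ∃ (P : PlK) (e : ℕ), 0 < e ∧ FunFld.IsOverWith Q P e :=
  exists_place_below' (isFF hK) Q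

omit [IsScalarTower k K K'] [FiniteDimensional K K'] in
theorem pos_of_isOverWith {Q : PlK'} {P : PlK} {e : ℕ} (h : FunFld.IsOverWith Q P e) : 0 < e := by
  rcases Nat.eq_zero_or_pos e with rfl | he
  · have := h 0; simp at this
  · exact he

omit [IsScalarTower k K K'] [FiniteDimensional K K'] in
theorem ord_map {Q : PlK'} {P : PlK} {e : ℕ} (h : FunFld.IsOverWith Q P e) (x : K) :
    Q.ord (algebraMap K K' x) = e * P.ord x := by
  rw [ord_def, ord_def, h x, log_pow, nsmul_eq_mul]; ring

omit [IsScalarTower k K K'] [FiniteDimensional K K'] in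
theorem place_below_unique {Q : PlK'} {P P₂ : PlK} {e e₂ : ℕ} (h : FunFld.IsOverWith Q P e)
    (h₂ : FunFld.IsOverWith Q P₂ e₂) : P = P₂ ∧ e = e₂ := by
  have hP : P = P₂ := place_ext_of_le_iff fun x => by
    have h1 := ord_map h x
    have h2 := ord_map h₂ x
    have he : (0 : ℤ) < e := by exact_mod_cast pos_of_isOverWith h
    have he₂ : (0 : ℤ) < e₂ := by exact_mod_cast pos_of_isOverWith h₂
    rw [val_le_one_iff, val_le_one_iff, ← mul_nonneg_iff_of_pos_left he, ← h1, h2,
      mul_nonneg_iff_of_pos_left he₂]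
  subst hP
  refine ⟨rfl, ?_⟩
  have h1 := ord_map h (unif P)
  rw [ord_map h₂, ord_eq_of_val_eq_exp P (val_unif P)] at h1
  omega

omit [IsScalarTower k K K'] [FiniteDimensional K K'] in
theorem ramIdx_eq {Q : PlK'} {P : PlK} {e : ℕ} (h : FunFld.IsOverWith Q P e) :
    FunFld.ramIdx Q P = e := by
  classical
  rw [FunFld.ramIdx, dif_pos ⟨e, h⟩]
  exact (place_below_unique (Nat.find_spec (⟨e, h⟩ : FunFld.IsOver Q P)) h).2

omit [IsScalarTower k K K'] [FiniteDimensional K K'] in
theorem isOverWith_ramIdx {Q : PlK'} {P : PlK} (h : FunFld.IsOver Q P) :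
    FunFld.IsOverWith Q P (FunFld.ramIdx Q P) := by
  obtain ⟨e, he⟩ := h
  rwa [ramIdx_eq he]

omit [IsScalarTower k K K'] [FiniteDimensional K K'] in
theorem isOver_unique {Q : PlK'} {P P₂ : PlK} (h : FunFld.IsOver Q P) (h₂ : FunFld.IsOver Q P₂) :
    P = P₂ := by
  obtain ⟨e, he⟩ := h
  obtain ⟨e₂, he₂⟩ := h₂
  exact (place_below_unique he he₂).1

/-- An element whose only zero is `P`. -/
theorem exists_only_zero (hK : FunFld.IsFunctionField k K) (P : PlK) :
    ∃ z : K, Transcendental k z ∧ 0 < P.ord z ∧ ∀ R : PlK, R ≠ P → R.ord z ≤ 0 := by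
  obtain ⟨N, hN⟩ : ∃ N : ℤ, N = _root_.FunFld.genus k K + 1 := ⟨_, rfl⟩
  have hP : (1 : ℤ) ≤ P.deg := by exact_mod_cast Existence.deg_pos hK P
  have hr := Riemann.riemann hK (Finsupp.single P N)
  rw [Degree.deg_single] at hr
  have hNd : N * 1 ≤ N * (P.deg : ℤ) := mul_le_mul_of_nonneg_left hP (by omega)
  obtain ⟨x, hx, hx0⟩ : ∃ x ∈ _root_.FunFld.L (Finsupp.single P N), x ∉ _root_.FunFld.L (0 : _root_.FunFld.Divisor k K) := by
    by_contra hc
    simp only [not_exists, not_and, not_not] at hc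
    have := Degree.finiteDimensional_L_zero hK
    have h3 : _root_.FunFld.ell (Finsupp.single P N) ≤ _root_.FunFld.ell (0 : _root_.FunFld.Divisor k K) :=
      Submodule.finrank_mono hc
    rw [Degree.ell_zero hK] at h3
    omega
  have hne : x ≠ 0 := fun h => hx0 (h ▸ zero_mem _)
  rw [Degree.mem_L_iff_ord, or_iff_right hne] at hx hx0
  have hQ : ∀ Q : PlK, Q ≠ P → 0 ≤ Q.ord x := fun Q hQ => by
    have := hx Q; rw [Finsupp.single_eq_of_ne hQ] at this; omega
  have hneg : P.ord x < 0 := by
    by_contra hge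
    refine hx0 fun Q => ?_
    simp only [Finsupp.coe_zero, Pi.zero_apply, neg_zero]
    rcases eq_or_ne Q P with rfl | h
    · omega
    · exact hQ Q h
  refine ⟨x⁻¹, transcendental_inv (Existence.transcendental_of_ord_ne_zero hK P (by omega)),
    by rw [ord_inv]; omega, fun R hR => ?_⟩
  rw [ord_inv]
  have := hQ R hR
  omega

theorem sum_ramIdx_mul_deg (hK : FunFld.IsFunctionField k K) (P : PlK) :
    ∃ hfin : {Q : PlK' | FunFld.IsOver Q P}.Finite,
      ∑ Q ∈ hfin.toFinset, FunFld.ramIdx Q P * Q.deg = Module.finrank K K' * P.deg := by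
  classical
  obtain ⟨z, hz, hPz, hother⟩ := exists_only_zero hK P
  have hK' : IsFF k K' := isFF_of_finite hK
  have hz' : Transcendental k (algebraMap K K' z) := transcendental_map hz
  have hiff : ∀ Q : PlK', FunFld.IsOver Q P ↔ 0 < Q.ord (algebraMap K K' z) := by
    intro Q
    refine ⟨fun ⟨e, he⟩ => ?_, fun hQ => ?_⟩
    · rw [ord_map he]
      exact mul_pos (by exact_mod_cast pos_of_isOverWith he) hPz
    · obtain ⟨R, e, he0, he⟩ := exists_place_below hK Q
      rw [ord_map he] at hQ
      rcases eq_or_ne R P with rfl | hR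
      · exact ⟨e, he⟩
      · have := mul_nonpos_of_nonneg_of_nonpos (Int.natCast_nonneg e) (hother R hR)
        omega
  have hfin : {Q : PlK' | FunFld.IsOver Q P}.Finite :=
    (Gen.Degree.finite_zeros hK' (algebraMap K K' z)).subset fun Q hQ => (hiff Q).mp hQ
  refine ⟨hfin, ?_⟩
  have hdeg' := Gen.Degree.deg_zeroDiv hK' hz'
  rw [finrank_adjoin_map] at hdeg'
  have hdegK := Degree.deg_zeroDiv hK hz
  have hzD : Degree.zeroDiv (k := k) z = Finsupp.single P (P.ord z) := by
    ext R
    rw [Degree.zeroDiv_apply hK]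
    rcases eq_or_ne R P with rfl | hR
    · rw [Finsupp.single_eq_same, max_eq_left hPz.le]
    · rw [Finsupp.single_eq_of_ne hR, max_eq_right (hother R hR)]
  rw [hzD, Degree.deg_single] at hdegK
  have hsum : (Degree.zeroDiv (k := k) (algebraMap K K' z)).deg =
      ∑ Q ∈ hfin.toFinset, ((FunFld.ramIdx Q P : ℤ) * P.ord z) * (Q.deg : ℤ) := by
    have hsupp : (Degree.zeroDiv (k := k) (algebraMap K K' z)).support = hfin.toFinset := by
      ext Q
      rw [Finsupp.mem_support_iff, Gen.Degree.zeroDiv_apply hK', Set.Finite.mem_toFinset]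
      change _ ↔ FunFld.IsOver Q P
      rw [hiff]
      omega
    rw [_root_.FunFld.Divisor.deg, Finsupp.sum, hsupp]
    refine Finset.sum_congr rfl fun Q hQ => ?_
    rw [Set.Finite.mem_toFinset] at hQ
    rw [Gen.Degree.zeroDiv_apply hK', max_eq_left ((hiff Q).mp hQ).le,
      ord_map (isOverWith_ramIdx hQ)]
  rw [hdeg'] at hsum
  push_cast at hsum
  rw [← hdegK] at hsum
  have key : (P.ord z) * (Module.finrank K K' * P.deg : ℕ) =
      (P.ord z) * ((∑ Q ∈ hfin.toFinset, FunFld.ramIdx Q P * Q.deg : ℕ) : ℤ) := by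
    push_cast
    rw [Finset.mul_sum]
    rw [show P.ord z * ((Module.finrank K K' : ℤ) * P.deg) =
      P.ord z * (P.deg : ℤ) * Module.finrank K K' by ring, hsum]
    exact Finset.sum_congr rfl fun Q _ => by ring
  exact (Nat.cast_injective (mul_left_cancel₀ (ne_of_gt hPz) key)).symm

theorem finite_over (hK : FunFld.IsFunctionField k K) (P : PlK) :
    {Q : PlK' | FunFld.IsOver Q P}.Finite :=
  (sum_ramIdx_mul_deg hK P).1

theorem exists_over (hK : FunFld.IsFunctionField k K) (P : PlK) :
    ∃ Q : PlK', FunFld.IsOver Q P := by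
  obtain ⟨hfin, h⟩ := sum_ramIdx_mul_deg (K' := K') hK P
  by_contra hne
  rw [Finset.sum_eq_zero (fun Q hQ => absurd (hfin.mem_toFinset.mp hQ) (fun hh => hne ⟨Q, hh⟩))] at h
  exact absurd h.symm (Nat.mul_pos Module.finrank_pos (Existence.deg_pos hK P)).ne'

omit [IsScalarTower k K K'] [FiniteDimensional K K'] in
theorem conorm_apply' (hfin : ∀ R : PlK, {Q : PlK' | FunFld.IsOver Q R}.Finite)
    (D : _root_.FunFld.Divisor k K) {Q : PlK'} {P : PlK} {e : ℕ} (h : FunFld.IsOverWith Q P e) :
    FunFld.conorm K' D Q = e * D P := by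
  classical
  rw [FunFld.conorm, Finsupp.sum, Finsupp.finsetSum_apply]
  have hterm : ∀ R : PlK,
      (D R • if h : {Q : PlK' | FunFld.IsOver Q R}.Finite then
        h.toFinset.sum (fun Q => (FunFld.ramIdx Q R : ℤ) • Finsupp.single Q (1 : ℤ)) else 0) Q =
      if R = P then (e : ℤ) * D P else 0 := by
    intro R
    rw [dif_pos (hfin R), Finsupp.smul_apply, Finsupp.finsetSum_apply]
    by_cases hR : R = P
    · subst hR
      rw [if_pos rfl, Finset.sum_eq_single Q, Finsupp.smul_apply, Finsupp.single_eq_same, ramIdx_eq h]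
      · simp only [smul_eq_mul, mul_one]; ring
      · intro Q' _ hne; rw [Finsupp.smul_apply, Finsupp.single_eq_of_ne hne.symm]; simp
      · intro hQ; exact absurd ((hfin R).mem_toFinset.mpr ⟨e, h⟩) hQ
    · rw [if_neg hR, Finset.sum_eq_zero, smul_zero]
      intro Q' hQ'
      have hne : Q ≠ Q' := by
        rintro rfl
        exact hR (isOver_unique ((hfin R).mem_toFinset.mp hQ') ⟨e, h⟩)
      rw [Finsupp.smul_apply, Finsupp.single_eq_of_ne hne]; simp
  rw [Finset.sum_congr rfl fun R _ => hterm R, Finset.sum_ite_eq']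
  split_ifs with hm
  · rfl
  · rw [Finsupp.notMem_support_iff.mp hm, mul_zero]

theorem conorm_apply (hK : FunFld.IsFunctionField k K) (D : _root_.FunFld.Divisor k K)
    {Q : PlK'} {P : PlK} {e : ℕ} (h : FunFld.IsOverWith Q P e) :
    FunFld.conorm K' D Q = e * D P :=
  conorm_apply' (finite_over hK) D h

theorem div_map (hK : FunFld.IsFunctionField k K) (x : K) :
    FunFld.div k (algebraMap K K' x) = FunFld.conorm K' (FunFld.div k x) := by
  ext Q
  obtain ⟨P, e, -, he⟩ := exists_place_below hK Q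
  rw [conorm_apply hK _ he, Gen.Degree.div_apply (isFF_of_finite hK), Degree.div_apply hK, ord_map he]

theorem deg_conorm (hK : FunFld.IsFunctionField k K) (D : _root_.FunFld.Divisor k K) :
    (FunFld.conorm K' D).deg = Module.finrank K K' * D.deg := by
  classical
  let H : _root_.FunFld.Divisor k K' →+ ℤ :=
    Finsupp.liftAddHom fun Q : PlK' => AddMonoidHom.mulRight (Q.deg : ℤ)
  have hH : ∀ E, H E = _root_.FunFld.Divisor.deg E := fun E => rfl
  rw [← hH, FunFld.conorm, Finsupp.sum, map_sum]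
  conv_rhs => rw [_root_.FunFld.Divisor.deg, Finsupp.sum, Finset.mul_sum]
  refine Finset.sum_congr rfl fun R _ => ?_
  obtain ⟨hfin, hsum⟩ := sum_ramIdx_mul_deg (K' := K') hK R
  rw [dif_pos hfin, map_zsmul, map_sum]
  have : ∑ Q ∈ hfin.toFinset, H ((FunFld.ramIdx Q R : ℤ) • Finsupp.single Q (1 : ℤ)) =
      ((Module.finrank K K' * R.deg : ℕ) : ℤ) := by
    rw [← hsum]; push_cast
    exact Finset.sum_congr rfl fun Q _ => by
      rw [map_zsmul, hH, Degree.deg_single, smul_eq_mul, one_mul]
  rw [this, smul_eq_mul]; push_cast; ring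

end Groth.Agent.Lib.FunFld.Ext
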