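import Groth.Agent.Lib.FunFld.Degree
import Mathlib.Order.Lattice.Nat

/-! Riemann's inequality, the genus, and adele quotients. -/

namespace Groth.Agent.Lib.FunFld.Riemann

open WithZero IntermediateField
open Groth.Agent.Lib.FunFld.Place Groth.Agent.Lib.FunFld.Bound Groth.Agent.Lib.FunFld.Existence
open Groth.Agent.Lib.FunFld.Approx Groth.Agent.Lib.FunFld.Degree

universe u v
variable {k : Type u} {K : Type v} [Field k] [Field K] [Algebra k K]

local notation "Pl" => _root_.FunFld.Place k K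
local notation "Dv" => _root_.FunFld.Divisor k K

/-- `δ(D) = deg D + 1 - ℓ(D)`. -/
noncomputable def delta (D : Dv) : ℤ := D.deg + 1 - (_root_.FunFld.ell D : ℤ)

theorem delta_mono (hK : FunFld.IsFunctionField k K) {D E : Dv} (h : D ≤ E) :
    delta D ≤ delta E := by
  have := ell_sub_ell_le hK h
  simp only [delta]; omega

theorem delta_zero (hK : FunFld.IsFunctionField k K) : delta (0 : Dv) = 0 := by
  simp [delta, ell_zero hK]

theorem L_mul_iff (hK : FunFld.IsFunctionField k K) (D : Dv) {x : K} (hx : x ≠ 0) (y : K) :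
    x * y ∈ _root_.FunFld.L D ↔ y ∈ _root_.FunFld.L (D + _root_.FunFld.div k x) := by
  rcases eq_or_ne y 0 with rfl | hy
  · simp
  simp only [mem_L_iff_ord, mul_ne_zero hx hy, hy, false_or, Finsupp.add_apply, div_apply hK]
  refine forall_congr' fun P => ?_
  rw [ord_mul P hx hy]; omega

theorem ell_add_div (hK : FunFld.IsFunctionField k K) (D : Dv) {x : K} (hx : x ≠ 0) :
    _root_.FunFld.ell (D + _root_.FunFld.div k x) = _root_.FunFld.ell D := by
  refine LinearEquiv.finrank_eq
    { toFun := fun y => (⟨x * y, (L_mul_iff hK D hx _).mpr y.2⟩ : _root_.FunFld.L D)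
      invFun := fun y => ⟨x⁻¹ * y, (L_mul_iff hK D hx _).mp (by
        rw [mul_inv_cancel_left₀ hx]; exact y.2)⟩
      map_add' := fun _ _ => Subtype.ext (mul_add _ _ _)
      map_smul' := fun c y => Subtype.ext (by simp)
      left_inv := fun y => Subtype.ext (inv_mul_cancel_left₀ hx _)
      right_inv := fun y => Subtype.ext (mul_inv_cancel_left₀ hx _) }

theorem delta_add_div (hK : FunFld.IsFunctionField k K) (D : Dv) {x : K} (hx : x ≠ 0) :
    delta (D + _root_.FunFld.div k x) = delta D := by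
  simp [delta, ell_add_div hK D hx, deg_add, deg_div hK]

theorem exists_transcendental (hK : FunFld.IsFunctionField k K) : ∃ x : K, Transcendental k x := by
  obtain ⟨⟨x, hx, -⟩, -⟩ := hK; exact ⟨x, hx⟩

theorem nonempty_place (hK : FunFld.IsFunctionField k K) : Nonempty Pl := by
  obtain ⟨x, hx⟩ := exists_transcendental hK
  exact ⟨(exists_zero hK hx).choose⟩

theorem exists_ne_zero_of_ell_pos {D : Dv} (h : 0 < _root_.FunFld.ell D) :
    ∃ z : K, z ≠ 0 ∧ z ∈ _root_.FunFld.L D := by
  have := Module.nontrivial_of_finrank_pos h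
  obtain ⟨z, hz⟩ := exists_ne (0 : _root_.FunFld.L D)
  exact ⟨z, fun h0 => hz (Subtype.ext h0), z.2⟩

theorem delta_le_of_ell_sub_pos (hK : FunFld.IsFunctionField k K) {A B : Dv}
    (h : 0 < _root_.FunFld.ell (B - A)) : delta A ≤ delta B := by
  obtain ⟨z, hz0, hz⟩ := exists_ne_zero_of_ell_pos h
  have h' := ((mem_L_iff_div hK).mp hz).resolve_left hz0
  rw [← delta_add_div hK B hz0]
  refine delta_mono hK (sub_nonneg.mp ?_)
  convert h' using 1; abel

theorem exists_delta_bound (hK : FunFld.IsFunctionField k K) : ∃ γ : ℤ, ∀ D : Dv, delta D ≤ γ := by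
  obtain ⟨x, hx⟩ := exists_transcendental hK
  obtain ⟨C, hC, hl⟩ := exists_finrank_mul_le_ell hK hx
  have := finiteDimensional_adjoin_transcendental hK hx
  have hn : 0 < Module.finrank (adjoin k ({x} : Set K)) K := Module.finrank_pos
  have hdeg := deg_poleDiv hK hx
  set n := Module.finrank (adjoin k ({x} : Set K)) K
  set B : Dv := poleDiv x
  have hlower : ∀ l : ℕ, ((l : ℤ) + 1) * n - C.deg ≤ _root_.FunFld.ell ((l : ℤ) • B) := fun l => by
    have h1 : ((l : ℤ) + 1) * n ≤ _root_.FunFld.ell ((l : ℤ) • B + C) := by exact_mod_cast hl l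
    have h2 := ell_sub_ell_le hK (le_add_of_nonneg_right hC : (l : ℤ) • B ≤ (l : ℤ) • B + C)
    rw [deg_add] at h2
    linarith
  refine ⟨1 - n + C.deg, fun D => ?_⟩
  obtain ⟨A, hDA, hA0⟩ : ∃ A : Dv, D ≤ A ∧ 0 ≤ A := ⟨D ⊔ 0, le_sup_left, le_sup_right⟩
  refine (delta_mono hK hDA).trans ?_
  have hA := deg_nonneg hA0
  let l : ℕ := (A.deg + C.deg).toNat
  have hlA : (l : ℤ) = A.deg + C.deg := Int.toNat_of_nonneg (by have := deg_nonneg hC; omega)
  have h1 := hlower l
  have h2 := ell_sub_ell_le hK (sub_le_self ((l : ℤ) • B) hA0)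
  rw [deg_sub] at h2
  have hn1 : (1 : ℤ) ≤ n := by exact_mod_cast hn
  have h3 : (l : ℤ) * 1 ≤ (l : ℤ) * n := mul_le_mul_of_nonneg_left hn1 (Int.natCast_nonneg l)
  have hpos : (1 : ℤ) ≤ _root_.FunFld.ell ((l : ℤ) • B - A) := by
    nlinarith
  refine (delta_le_of_ell_sub_pos hK (by omega)).trans (?_ : delta ((l : ℤ) • B) ≤ _)
  simp only [delta, deg_smul, hdeg]
  linarith

theorem bddAbove_range (hK : FunFld.IsFunctionField k K) :
    BddAbove (Set.range fun D : Dv => (D.deg + 1 - (_root_.FunFld.ell D : ℤ)).toNat) := by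
  obtain ⟨γ, hγ⟩ := exists_delta_bound hK
  exact ⟨γ.toNat, by rintro _ ⟨D, rfl⟩; exact Int.toNat_le_toNat (hγ D)⟩

theorem delta_le_genus (hK : FunFld.IsFunctionField k K) (D : Dv) :
    delta D ≤ _root_.FunFld.genus k K :=
  (Int.self_le_toNat _).trans (Int.ofNat_le.mpr (le_csSup (bddAbove_range hK) ⟨D, rfl⟩))

theorem exists_delta_eq_genus (hK : FunFld.IsFunctionField k K) :
    ∃ D : Dv, delta D = _root_.FunFld.genus k K := by
  obtain ⟨D, hD⟩ := Nat.sSup_mem (Set.range_nonempty _) (bddAbove_range hK)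
  change (delta D).toNat = _root_.FunFld.genus k K at hD
  rcases le_total 0 (delta D) with h | h
  · exact ⟨D, by omega⟩
  · exact ⟨0, by rw [delta_zero hK]; omega⟩

theorem riemann (hK : FunFld.IsFunctionField k K) (D : Dv) :
    D.deg + 1 - _root_.FunFld.genus k K ≤ _root_.FunFld.ell D := by
  have := delta_le_genus hK D; simp only [delta] at this; omega

theorem exists_bound_delta_eq (hK : FunFld.IsFunctionField k K) :
    ∃ N : ℤ, ∀ D : Dv, N ≤ D.deg → delta D = _root_.FunFld.genus k K := by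
  obtain ⟨D₀, hD₀⟩ := exists_delta_eq_genus hK
  refine ⟨D₀.deg + _root_.FunFld.genus k K, fun D hD => le_antisymm (delta_le_genus hK D) ?_⟩
  rw [← hD₀]
  refine delta_le_of_ell_sub_pos hK ?_
  have := riemann hK (D - D₀)
  rw [deg_sub] at this
  omega

theorem AD_mono {D E : Dv} (h : D ≤ E) : _root_.FunFld.AD D ≤ _root_.FunFld.AD E :=
  fun _ ha P => (ha P).trans (exp_le_exp.mpr (Finsupp.le_def.mp h P))

theorem AD_le_adele (D : Dv) : _root_.FunFld.AD D ≤ _root_.FunFld.adele k K := by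
  intro a ha
  refine Filter.mem_cofinite.mpr (D.hasFiniteSupport.subset fun P hP h0 => hP ?_)
  have := ha P
  rw [h0] at this
  exact this

theorem diag_mem_adele (hK : FunFld.IsFunctionField k K) (x : K) :
    _root_.FunFld.diag k K x ∈ _root_.FunFld.adele k K := by
  refine Filter.mem_cofinite.mpr ((finite_support_ord hK x).subset fun P hP h0 => hP ?_)
  change P.1 x ≤ 1
  rw [val_le_one_iff]
  exact le_of_eq h0.symm

theorem sup_range_le_adele (hK : FunFld.IsFunctionField k K) (D : Dv) :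
    _root_.FunFld.AD D ⊔ LinearMap.range (_root_.FunFld.diag k K) ≤ _root_.FunFld.adele k K :=
  sup_le (AD_le_adele D) (by rintro _ ⟨x, rfl⟩; exact diag_mem_adele hK x)

theorem smul_mem_adele (hK : FunFld.IsFunctionField k K) (x : K) :
    ∀ a ∈ _root_.FunFld.adele k K, x • a ∈ _root_.FunFld.adele k K := by
  intro a ha
  refine Filter.mem_cofinite.mpr
    (((finite_support_ord hK x).union (Filter.mem_cofinite.mp ha)).subset fun P hP => ?_)
  by_contra hc
  rw [Set.mem_union, not_or, Function.mem_support, not_not, Set.notMem_compl_iff] at hc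
  apply hP
  change P.1 (x * a P) ≤ 1
  rw [map_mul]
  exact mul_le_one' ((val_le_one_iff P).mpr hc.1.ge) hc.2

theorem exists_AD_quot (hK : FunFld.IsFunctionField k K) {D₁ D₂ : Dv} (h : D₁ ≤ D₂) :
    ∃ (V : Type (max u v)) (_ : AddCommGroup V) (_ : Module k V) (f : _root_.FunFld.AD D₂ →ₗ[k] V),
      FiniteDimensional k V ∧ Function.Surjective f ∧ (∀ a, f a = 0 ↔ (a : Pl → K) ∈ _root_.FunFld.AD D₁) ∧
      (Module.finrank k V : ℤ) = D₂.deg - D₁.deg := by
  classical
  have hd : ∀ P : Pl, 0 ≤ D₂ P - D₁ P := fun P => by have := Finsupp.le_def.mp h P; omega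
  have hd' : ∀ P : Pl, D₁ P + ((D₂ P - D₁ P).toNat : ℤ) = D₂ P := fun P => by
    have := hd P; omega
  choose f hfs hf using fun P : Pl => exists_map_ball hK P (D₁ P) (D₂ P - D₁ P).toNat
  let S := (D₂ - D₁).support
  let F : _root_.FunFld.AD D₂ →ₗ[k] ((P : S) → Fin ((D₂ P.1 - D₁ P.1).toNat * P.1.deg) → k) :=
    LinearMap.pi fun P => f P.1 ∘ₗ LinearMap.proj P.1 ∘ₗ (_root_.FunFld.AD D₂).subtype
  refine ⟨ULift.{max u v} ((P : S) → Fin ((D₂ P.1 - D₁ P.1).toNat * P.1.deg) → k), inferInstance,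
    inferInstance, ULift.moduleEquiv.symm.toLinearMap ∘ₗ F, inferInstance, ?_, ?_, ?_⟩
  · refine ULift.moduleEquiv.symm.surjective.comp ?_
    intro y
    choose w hw using fun P : S => hfs P.1 (y P)
    refine ⟨⟨fun P => if hP : P ∈ S then (w ⟨P, hP⟩ : K) else 0, fun P => ?_⟩, funext fun P => ?_⟩
    · dsimp only
      split_ifs with hP
      · exact ball_mono P (hd' P).le (w ⟨P, hP⟩).2
      · simp
    · change f P.1 (if hP : P.1 ∈ S then (w ⟨P.1, hP⟩ : K) else 0) = y P
      rw [dif_pos P.2]; exact hw P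
  · intro a
    simp only [LinearMap.comp_apply, LinearEquiv.coe_coe, LinearEquiv.map_eq_zero_iff]
    have hab : ∀ P : Pl, (a : Pl → K) P ∈ ball P (D₁ P + (D₂ P - D₁ P).toNat) := fun P =>
      ball_mono P (hd' P).ge (a.2 P)
    constructor
    · intro h0 P
      by_cases hP : P ∈ S
      · exact (hf P _ (hab P)).mp (congrFun h0 ⟨P, hP⟩)
      · have : D₁ P = D₂ P := by
          simp only [S, Finsupp.mem_support_iff, Finsupp.sub_apply, not_not] at hP; omega
        rw [this]; exact a.2 P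
    · intro h0
      funext P
      exact (hf P.1 _ (hab P.1)).mpr (h0 P.1)
  · rw [LinearEquiv.finrank_eq ULift.moduleEquiv, Module.finrank_pi_fintype, ← deg_sub]
    simp only [Module.finrank_pi, Fintype.card_fin]
    rw [Finset.sum_coe_sort S (fun P : Pl => (D₂ P - D₁ P).toNat * P.deg)]
    push_cast
    refine Finset.sum_congr rfl fun P _ => ?_
    rw [Int.toNat_of_nonneg (hd P)]; rfl

theorem finrank_AD_quot (hK : FunFld.IsFunctionField k K) {D₁ D₂ : Dv} (h : D₁ ≤ D₂) :
    FiniteDimensional k (_root_.FunFld.AD D₂ ⧸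
        Submodule.comap (_root_.FunFld.AD D₂).subtype (_root_.FunFld.AD D₁)) ∧
    (Module.finrank k (_root_.FunFld.AD D₂ ⧸
        Submodule.comap (_root_.FunFld.AD D₂).subtype (_root_.FunFld.AD D₁)) : ℤ) =
      D₂.deg - D₁.deg := by
  obtain ⟨V, _, _, f, hfin, hsurj, hker, hrank⟩ := exists_AD_quot hK h
  have hk : Submodule.comap (_root_.FunFld.AD D₂).subtype (_root_.FunFld.AD D₁) = f.ker :=
    Submodule.ext fun a => (hker a).symm
  rw [hk]
  let e := f.quotKerEquivOfSurjective hsurj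
  exact ⟨e.symm.finiteDimensional, by rw [e.finrank_eq]; exact hrank⟩

theorem finrank_sup_quot (hK : FunFld.IsFunctionField k K) {D₁ D₂ : Dv} (h : D₁ ≤ D₂) :
    FiniteDimensional k (↥(_root_.FunFld.AD D₂ ⊔ LinearMap.range (_root_.FunFld.diag k K)) ⧸
        Submodule.comap (_root_.FunFld.AD D₂ ⊔ LinearMap.range (_root_.FunFld.diag k K)).subtype
          (_root_.FunFld.AD D₁ ⊔ LinearMap.range (_root_.FunFld.diag k K))) ∧
    (Module.finrank k (↥(_root_.FunFld.AD D₂ ⊔ LinearMap.range (_root_.FunFld.diag k K)) ⧸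
        Submodule.comap (_root_.FunFld.AD D₂ ⊔ LinearMap.range (_root_.FunFld.diag k K)).subtype
          (_root_.FunFld.AD D₁ ⊔ LinearMap.range (_root_.FunFld.diag k K))) : ℤ) =
      delta D₂ - delta D₁ := by
  obtain ⟨hVfin, hVrank⟩ := finrank_AD_quot hK h
  have := hVfin
  set R := LinearMap.range (_root_.FunFld.diag k K)
  set T₁ := Submodule.comap (_root_.FunFld.AD D₂).subtype (_root_.FunFld.AD D₁)
  set T := Submodule.comap (_root_.FunFld.AD D₂ ⊔ R).subtype (_root_.FunFld.AD D₁ ⊔ R)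
  let g : _root_.FunFld.AD D₂ →ₗ[k] (↥(_root_.FunFld.AD D₂ ⊔ R) ⧸ T) :=
    T.mkQ ∘ₗ Submodule.inclusion le_sup_left
  have hg1 : T₁ ≤ g.ker := fun a ha =>
    (Submodule.Quotient.mk_eq_zero T).mpr (Submodule.mem_sup_left (T := R) ha)
  let q := T₁.liftQ g hg1
  have hqs : Function.Surjective q := by
    intro w
    obtain ⟨⟨w, hw⟩, rfl⟩ := T.mkQ_surjective w
    obtain ⟨a, ha, c, hc, hac⟩ := Submodule.mem_sup.mp hw
    refine ⟨T₁.mkQ ⟨a, ha⟩, (Submodule.Quotient.eq T).mpr ?_⟩
    change a - w ∈ _root_.FunFld.AD D₁ ⊔ R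
    have : a - w = -c := by rw [← hac]; abel
    rw [this]
    exact Submodule.mem_sup_right (Submodule.neg_mem _ hc)
  let ι : _root_.FunFld.L D₂ →ₗ[k] (_root_.FunFld.AD D₂ ⧸ T₁) :=
    T₁.mkQ ∘ₗ LinearMap.codRestrict (_root_.FunFld.AD D₂)
      (_root_.FunFld.diag k K ∘ₗ (_root_.FunFld.L D₂).subtype) (fun z P => z.2 P)
  have hι : ι.ker = (_root_.FunFld.L D₁).comap (_root_.FunFld.L D₂).subtype := by
    ext z
    refine (Submodule.Quotient.mk_eq_zero T₁).trans ?_
    exact ⟨fun hz P => hz P, fun hz P => hz P⟩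
  have hr : ι.range = q.ker := by
    ext w
    constructor
    · rintro ⟨z, rfl⟩
      exact (Submodule.Quotient.mk_eq_zero T).mpr (Submodule.mem_sup_right (S := _root_.FunFld.AD D₁) ⟨z, rfl⟩)
    · intro hw
      obtain ⟨⟨a, ha⟩, rfl⟩ := T₁.mkQ_surjective w
      have hw' : a ∈ _root_.FunFld.AD D₁ ⊔ R := (Submodule.Quotient.mk_eq_zero T).mp hw
      obtain ⟨b, hb, _, ⟨x, rfl⟩, hbx⟩ := Submodule.mem_sup.mp hw'
      have hx : x ∈ _root_.FunFld.L D₂ := fun P => by
        have : x = a P - b P := by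
          rw [← hbx]; simp [_root_.FunFld.diag]
        rw [this]
        exact (P.1.map_sub _ _).trans (max_le (ha P) (AD_mono h hb P))
      refine ⟨⟨x, hx⟩, (Submodule.Quotient.eq T₁).mpr ?_⟩
      change _root_.FunFld.diag k K x - a ∈ _root_.FunFld.AD D₁
      have : _root_.FunFld.diag k K x - a = -b := by rw [← hbx]; abel
      rw [this]; exact Submodule.neg_mem _ hb
  let e := q.quotKerEquivOfSurjective hqs
  have := finiteDimensional_L hK D₂
  refine ⟨e.finiteDimensional, ?_⟩
  have h1 := q.finrank_range_add_finrank_ker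
  rw [LinearMap.range_eq_top.mpr hqs, finrank_top, ← hr] at h1
  have h2 := ι.finrank_range_add_finrank_ker
  have h3 : Module.finrank k ι.ker = _root_.FunFld.ell D₁ := by
    rw [hι]; exact (Submodule.comapSubtypeEquivOfLe (L_mono h)).finrank_eq
  rw [h3] at h2
  simp only [delta, _root_.FunFld.ell] at h2 ⊢
  omega

theorem exists_le_mem_AD {a : Pl → K} (ha : a ∈ _root_.FunFld.adele k K) (D : Dv) :
    ∃ E : Dv, D ≤ E ∧ a ∈ _root_.FunFld.AD E := by
  classical
  have hfin : (Function.support fun P : Pl => max (D P) (if P.1 (a P) ≤ 1 then 0 else -P.ord (a P))).Finite := by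
    refine (D.hasFiniteSupport.union (Filter.mem_cofinite.mp ha)).subset fun P hP => ?_
    by_contra hc
    rw [Set.mem_union, not_or, Set.notMem_compl_iff] at hc
    have h1 : D P = 0 := Finsupp.notMem_support_iff.mp (by simpa using hc.1)
    exact hP (by dsimp only; rw [if_pos (show P.1 (a P) ≤ 1 from hc.2), h1, max_self])
  refine ⟨Finsupp.ofSupportFinite _ hfin, Finsupp.le_def.mpr fun P => le_max_left _ _, fun P => ?_⟩
  change P.1 (a P) ≤ exp (max (D P) (if P.1 (a P) ≤ 1 then 0 else -P.ord (a P)))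
  split_ifs with h
  · exact h.trans (by rw [← exp_zero]; exact exp_le_exp.mpr (le_max_right _ _))
  · rcases eq_or_ne (a P) 0 with h0 | h0
    · simp [h0]
    · rw [val_eq_exp P h0]; exact exp_le_exp.mpr (le_max_right _ _)

theorem adele_eq_of_delta_eq (hK : FunFld.IsFunctionField k K) {D : Dv}
    (hD : delta D = _root_.FunFld.genus k K) :
    _root_.FunFld.adele k K = _root_.FunFld.AD D ⊔ LinearMap.range (_root_.FunFld.diag k K) := by
  refine le_antisymm (fun a ha => ?_) (sup_range_le_adele hK D)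
  obtain ⟨E, hDE, haE⟩ := exists_le_mem_AD ha D
  obtain ⟨hfin, hrank⟩ := finrank_sup_quot hK hDE
  have h0 : delta E - delta D = 0 := by
    have := delta_mono hK hDE; have := delta_le_genus hK E; omega
  rw [h0, Nat.cast_eq_zero, Module.finrank_zero_iff, Submodule.Quotient.subsingleton_iff] at hrank
  have hmem : (⟨a, Submodule.mem_sup_left haE⟩ :
      ↥(_root_.FunFld.AD E ⊔ LinearMap.range (_root_.FunFld.diag k K))) ∈ _ :=
    (Submodule.eq_top_iff'.mp hrank) _
  exact hmem

theorem finrank_adele_quot (hK : FunFld.IsFunctionField k K) (D : Dv) :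
    FiniteDimensional k (↥(_root_.FunFld.adele k K) ⧸ _root_.FunFld.ADK D) ∧
    (Module.finrank k (↥(_root_.FunFld.adele k K) ⧸ _root_.FunFld.ADK D) : ℤ) =
      _root_.FunFld.genus k K - delta D := by
  classical
  obtain ⟨D₀, hD₀⟩ := exists_delta_eq_genus hK
  have hE : delta (D ⊔ D₀) = _root_.FunFld.genus k K :=
    le_antisymm (delta_le_genus hK _) (hD₀ ▸ delta_mono hK le_sup_right)
  suffices H : ∀ W : Submodule k (Pl → K),
      W = _root_.FunFld.AD (D ⊔ D₀) ⊔ LinearMap.range (_root_.FunFld.diag k K) →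
      FiniteDimensional k (W ⧸ Submodule.comap W.subtype
          (_root_.FunFld.AD D ⊔ LinearMap.range (_root_.FunFld.diag k K))) ∧
      (Module.finrank k (W ⧸ Submodule.comap W.subtype
          (_root_.FunFld.AD D ⊔ LinearMap.range (_root_.FunFld.diag k K))) : ℤ) =
        delta (D ⊔ D₀) - delta D from
    hE ▸ H _ (adele_eq_of_delta_eq hK hE)
  rintro W rfl
  exact finrank_sup_quot hK le_sup_left

theorem finrank_WD (hK : FunFld.IsFunctionField k K) (D : Dv) :
    FiniteDimensional k (_root_.FunFld.WD D) ∧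
    (Module.finrank k (_root_.FunFld.WD D) : ℤ) = _root_.FunFld.genus k K - delta D := by
  obtain ⟨hfin, hrank⟩ := finrank_adele_quot hK D
  have := hfin
  let e := (_root_.FunFld.ADK D).dualQuotEquivDualAnnihilator
  exact ⟨e.finiteDimensional, by
    rw [_root_.FunFld.WD, ← e.finrank_eq, Subspace.dual_finrank_eq]; exact hrank⟩

end Groth.Agent.Lib.FunFld.Riemann
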