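import Groth.Agent.Lib.FunFld.Riemann

/-! Weil differentials, canonical divisors and the Riemann–Roch theorem. -/

namespace Groth.Agent.Lib.FunFld.Weil

open WithZero
open Groth.Agent.Lib.FunFld.Place Groth.Agent.Lib.FunFld.Bound Groth.Agent.Lib.FunFld.Existence
open Groth.Agent.Lib.FunFld.Degree Groth.Agent.Lib.FunFld.Riemann

universe u v
variable {k : Type u} {K : Type v} [Field k] [Field K] [Algebra k K]

local notation "Pl" => _root_.FunFld.Place k K
local notation "Dv" => _root_.FunFld.Divisor k K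
local notation "Om" => Module.Dual k (_root_.FunFld.adele k K)

theorem mem_WD_iff {D : Dv} {ω : Om} :
    ω ∈ _root_.FunFld.WD D ↔ ∀ a ∈ _root_.FunFld.ADK D, ω a = 0 :=
  Submodule.mem_dualAnnihilator _

theorem WD_anti {D E : Dv} (h : D ≤ E) : _root_.FunFld.WD E ≤ _root_.FunFld.WD D :=
  Submodule.dualAnnihilator_anti (Submodule.comap_mono (sup_le_sup_right (AD_mono h) _))

theorem AD_sup_le (D E : Dv) :
    _root_.FunFld.AD (D ⊔ E) ≤ _root_.FunFld.AD D ⊔ _root_.FunFld.AD E := by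
  classical
  intro a ha
  refine Submodule.mem_sup.mpr ⟨fun P => if E P ≤ D P then a P else 0, fun P => ?_,
    fun P => if E P ≤ D P then 0 else a P, fun P => ?_, funext fun P => ?_⟩
  · have h : P.1 (a P) ≤ exp ((D ⊔ E) P) := ha P
    simp only [Finsupp.sup_apply] at h
    dsimp only
    split_ifs with hle
    · rwa [max_eq_left hle] at h
    · simp
  · have h : P.1 (a P) ≤ exp ((D ⊔ E) P) := ha P
    simp only [Finsupp.sup_apply] at h
    dsimp only
    split_ifs with hle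
    · simp
    · rwa [max_eq_right (not_le.mp hle).le] at h
  · simp only [Pi.add_apply]; split_ifs <;> simp

theorem mem_WD_sup {D E : Dv} {ω : Om} (hD : ω ∈ _root_.FunFld.WD D)
    (hE : ω ∈ _root_.FunFld.WD E) : ω ∈ _root_.FunFld.WD (D ⊔ E) := by
  rw [mem_WD_iff] at hD hE ⊢
  rintro ⟨a, ha⟩ haDE
  obtain ⟨b, hb, c, hc, hbc⟩ := Submodule.mem_sup.mp haDE
  obtain ⟨b₁, hb₁, b₂, hb₂, hb12⟩ := Submodule.mem_sup.mp (AD_sup_le D E hb)
  have h1 : b₁ ∈ _root_.FunFld.adele k K := AD_le_adele D hb₁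
  have h2 : b₂ + c ∈ _root_.FunFld.adele k K := by
    have : b₂ + c = a - b₁ := by
      have hbc' : b + c = a := hbc
      rw [← hbc', ← hb12]; abel
    rw [this]; exact sub_mem ha h1
  have e : (⟨a, ha⟩ : _root_.FunFld.adele k K) = ⟨b₁, h1⟩ + ⟨b₂ + c, h2⟩ := by
    refine Subtype.ext ?_
    change a = b₁ + (b₂ + c)
    have hbc' : b + c = a := hbc
    rw [← hbc', ← hb12, add_assoc]
  rw [e, map_add, hD _ (Submodule.mem_sup_left hb₁),
    hE _ (Submodule.mem_sup.mpr ⟨b₂, hb₂, c, hc, rfl⟩), add_zero]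

theorem exists_bound_deg (hK : FunFld.IsFunctionField k K) :
    ∃ N : ℤ, ∀ E : Dv, N ≤ E.deg → _root_.FunFld.WD E = ⊥ := by
  obtain ⟨N, hN⟩ := exists_bound_delta_eq hK
  refine ⟨N, fun E hE => ?_⟩
  obtain ⟨hfin, hrank⟩ := finrank_WD hK E
  have := hfin
  refine Submodule.finrank_eq_zero.mp ?_
  have := hN E hE
  omega

theorem exists_isDivOf (hK : FunFld.IsFunctionField k K) {ω : Om} (hω : _root_.FunFld.IsWeil ω)
    (h0 : ω ≠ 0) : ∃ C : Dv, _root_.FunFld.IsDivOf ω C := by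
  obtain ⟨D₀, hD₀⟩ := hω
  obtain ⟨N, hN⟩ := exists_bound_deg hK
  obtain ⟨m, ⟨C, hC, rfl⟩, hmax⟩ := Int.exists_greatest_of_bdd
    (P := fun n => ∃ E : Dv, ω ∈ _root_.FunFld.WD E ∧ E.deg = n)
    ⟨N, by
      rintro _ ⟨E, hE, rfl⟩
      by_contra hlt
      rw [hN E (by omega), Submodule.mem_bot] at hE
      exact h0 hE⟩
    ⟨_, D₀, hD₀, rfl⟩
  refine ⟨C, fun E => ⟨fun hE => ?_, fun h => WD_anti h hC⟩⟩
  have hdeg := hmax _ ⟨C ⊔ E, mem_WD_sup hC hE, rfl⟩
  refine (le_sup_right : E ≤ C ⊔ E).trans (Finsupp.le_def.mpr fun P => ?_)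
  by_contra hlt
  have hle : C + Finsupp.single P 1 ≤ C ⊔ E := by
    refine Finsupp.le_def.mpr fun Q => ?_
    rcases eq_or_ne Q P with rfl | hQ
    · simp only [Finsupp.add_apply, Finsupp.single_eq_same]; omega
    · simp [Finsupp.single_eq_of_ne hQ]
  have := deg_mono hle
  rw [deg_add, deg_single] at this
  have := deg_pos hK P
  omega

theorem mulW_apply (x : K) (hx : ∀ a ∈ _root_.FunFld.adele k K, x • a ∈ _root_.FunFld.adele k K)
    (ω : Om) (a : _root_.FunFld.adele k K) :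
    _root_.FunFld.mulW x hx ω a = ω ⟨x • (a : Pl → K), hx a a.2⟩ := rfl

/-- `x ↦ x ω` as a linear map. -/
noncomputable def mulLin (hK : FunFld.IsFunctionField k K) (ω : Om) : K →ₗ[k] Om where
  toFun x := _root_.FunFld.mulW x (smul_mem_adele hK x) ω
  map_add' x y := LinearMap.ext fun a => by
    simp only [mulW_apply, LinearMap.add_apply, ← map_add]
    exact congrArg ω (Subtype.ext (add_smul x y _))
  map_smul' c x := LinearMap.ext fun a => by
    simp only [mulW_apply, LinearMap.smul_apply, RingHom.id_apply, ← map_smul]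
    exact congrArg ω (Subtype.ext (smul_assoc c x _))

theorem mulLin_apply (hK : FunFld.IsFunctionField k K) (ω : Om) (x : K)
    (a : _root_.FunFld.adele k K) :
    mulLin hK ω x a = ω ⟨x • (a : Pl → K), smul_mem_adele hK x a a.2⟩ := rfl

theorem mulLin_eq (hK : FunFld.IsFunctionField k K) (ω : Om) (x : K)
    (hx : ∀ a ∈ _root_.FunFld.adele k K, x • a ∈ _root_.FunFld.adele k K) :
    mulLin hK ω x = _root_.FunFld.mulW x hx ω := rfl

theorem mulLin_mulLin (hK : FunFld.IsFunctionField k K) (ω : Om) (x y : K) :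
    mulLin hK (mulLin hK ω x) y = mulLin hK ω (x * y) :=
  LinearMap.ext fun a => congrArg ω (Subtype.ext (smul_smul x y (a : Pl → K)))

theorem mulLin_one (hK : FunFld.IsFunctionField k K) (ω : Om) : mulLin hK ω 1 = ω :=
  LinearMap.ext fun a => congrArg ω (Subtype.ext (one_smul K (a : Pl → K)))

theorem mulLin_ne_zero (hK : FunFld.IsFunctionField k K) {ω : Om} (hω : ω ≠ 0) {x : K}
    (hx : x ≠ 0) : mulLin hK ω x ≠ 0 := by
  intro h
  apply hω
  calc ω = mulLin hK ω (x * x⁻¹) := by rw [mul_inv_cancel₀ hx, mulLin_one]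
    _ = mulLin hK (mulLin hK ω x) x⁻¹ := (mulLin_mulLin hK ω x x⁻¹).symm
    _ = 0 := by rw [h]; exact LinearMap.ext fun a => rfl

theorem mulLin_injective (hK : FunFld.IsFunctionField k K) {ω : Om} (hω : ω ≠ 0) :
    Function.Injective (mulLin hK ω) := by
  rw [injective_iff_map_eq_zero]
  exact fun x hx => by_contra fun h => mulLin_ne_zero hK hω h hx

theorem mulLin_mem_WD (hK : FunFld.IsFunctionField k K) {C D : Dv} {x : K}
    (hx : x ∈ _root_.FunFld.L D) {ω : Om} (hω : ω ∈ _root_.FunFld.WD C) :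
    mulLin hK ω x ∈ _root_.FunFld.WD (C - D) := by
  rw [mem_WD_iff] at hω ⊢
  intro a ha
  rw [mulLin_apply]
  refine hω _ ?_
  obtain ⟨b, hb, c, hc, hbc⟩ := Submodule.mem_sup.mp ha
  refine Submodule.mem_sup.mpr ⟨x • b, fun P => ?_, x • c, ?_, ?_⟩
  · have h1 := hb P
    rw [Finsupp.sub_apply] at h1
    rw [Pi.smul_apply, smul_eq_mul, map_mul]
    refine (mul_le_mul' (hx P) h1).trans (le_of_eq ?_)
    rw [← exp_add]; congr 1; omega
  · obtain ⟨d, rfl⟩ := hc
    exact ⟨x * d, rfl⟩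
  · rw [← smul_add, hbc]; rfl

theorem mem_L_neg_div (hK : FunFld.IsFunctionField k K) (x : K) :
    x ∈ _root_.FunFld.L (-_root_.FunFld.div k x) :=
  (mem_L_iff_div hK).mpr (Or.inr (by simp))

theorem isDivOf_mulLin (hK : FunFld.IsFunctionField k K) {ω : Om} {C : Dv}
    (hω : _root_.FunFld.IsDivOf ω C) {x : K} (hx : x ≠ 0) :
    _root_.FunFld.IsDivOf (mulLin hK ω x) (C + _root_.FunFld.div k x) := by
  intro E
  constructor
  · intro h
    have h' := mulLin_mem_WD hK (mem_L_neg_div hK x⁻¹) h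
    rw [mulLin_mulLin, mul_inv_cancel₀ hx, mulLin_one, hω, div_inv hK, neg_neg, sub_le_iff_le_add] at h'
    exact h'
  · intro h
    have h' := mulLin_mem_WD hK (mem_L_neg_div hK x) ((hω C).mpr le_rfl)
    rw [sub_neg_eq_add] at h'
    exact WD_anti h h'

theorem isDivOf_unique {ω : Om} {C C' : Dv} (h : _root_.FunFld.IsDivOf ω C)
    (h' : _root_.FunFld.IsDivOf ω C') : C = C' :=
  le_antisymm ((h' C).mp ((h C).mpr le_rfl)) ((h C').mp ((h' C').mpr le_rfl))

theorem exists_mulLin_eq (hK : FunFld.IsFunctionField k K) {ω₁ ω₂ : Om}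
    (h₁ : _root_.FunFld.IsWeil ω₁) (h0 : ω₁ ≠ 0) (h₂ : _root_.FunFld.IsWeil ω₂) :
    ∃ x : K, mulLin hK ω₁ x = ω₂ := by
  rcases eq_or_ne ω₂ 0 with rfl | h0'
  · exact ⟨0, map_zero _⟩
  obtain ⟨C₁, hC₁⟩ := exists_isDivOf hK h₁ h0
  obtain ⟨C₂, hC₂⟩ := exists_isDivOf hK h₂ h0'
  obtain ⟨P⟩ := nonempty_place hK
  set g := _root_.FunFld.genus k K with hg
  let n : ℕ := (3 * (g : ℤ) + |C₁.deg| + |C₂.deg| + 3).toNat
  have hn : (n : ℤ) = 3 * (g : ℤ) + |C₁.deg| + |C₂.deg| + 3 :=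
    Int.toNat_of_nonneg (by have := abs_nonneg C₁.deg; have := abs_nonneg C₂.deg; omega)
  have hP1 : (1 : ℤ) ≤ P.deg := by exact_mod_cast deg_pos hK P
  let D : Dv := Finsupp.single P (n : ℤ)
  have hD : (n : ℤ) ≤ D.deg := by
    rw [deg_single]; exact le_mul_of_one_le_right (Int.natCast_nonneg n) hP1
  obtain ⟨a₁, ha₁⟩ : ∃ a, a = |C₁.deg| := ⟨_, rfl⟩
  obtain ⟨a₂, ha₂⟩ : ∃ a, a = |C₂.deg| := ⟨_, rfl⟩
  have ha₁' : 0 ≤ a₁ ∧ -a₁ ≤ C₁.deg := ha₁ ▸ ⟨abs_nonneg _, neg_abs_le _⟩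
  have ha₂' : 0 ≤ a₂ ∧ -a₂ ≤ C₂.deg := ha₂ ▸ ⟨abs_nonneg _, neg_abs_le _⟩
  rw [← ha₁, ← ha₂] at hn
  obtain ⟨hWfin, hW⟩ := finrank_WD hK (-D)
  have hWf : FiniteDimensional k (_root_.FunFld.WD (-D)) := hWfin
  have hLD : _root_.FunFld.ell (-D) = 0 := by
    rw [_root_.FunFld.ell, L_eq_bot_of_deg_neg hK (by rw [deg_neg]; omega), finrank_bot]
  have hU : ∀ (ω : Om) (C : Dv), _root_.FunFld.IsDivOf ω C → ω ≠ 0 →
      ∃ U : Submodule k Om, U ≤ _root_.FunFld.WD (-D) ∧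
        U = (_root_.FunFld.L (D + C)).map (mulLin hK ω) ∧
        D.deg + C.deg + 1 - g ≤ Module.finrank k U := by
    intro ω C hC hne
    refine ⟨_, ?_, rfl, ?_⟩
    · rintro _ ⟨x, hx, rfl⟩
      have := mulLin_mem_WD hK hx ((hC C).mpr le_rfl)
      rwa [sub_add_cancel_right] at this
    · rw [← LinearEquiv.finrank_eq (Submodule.equivMapOfInjective _ (mulLin_injective hK hne) _)]
      have := riemann hK (D + C)
      rw [deg_add] at this
      exact this
  obtain ⟨U₁, hU₁, hU₁', hr₁⟩ := hU ω₁ C₁ hC₁ h0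
  obtain ⟨U₂, hU₂, hU₂', hr₂⟩ := hU ω₂ C₂ hC₂ h0'
  have : FiniteDimensional k U₁ := Submodule.finiteDimensional_of_le hU₁
  have : FiniteDimensional k U₂ := Submodule.finiteDimensional_of_le hU₂
  have hne : U₁ ⊓ U₂ ≠ ⊥ := by
    intro hbot
    have hs := Submodule.finrank_sup_add_finrank_inf_eq U₁ U₂
    rw [hbot, finrank_bot, add_zero] at hs
    have hle := Submodule.finrank_mono (sup_le hU₁ hU₂)
    simp only [delta, hLD, deg_neg] at hW
    omega
  obtain ⟨w, hw, hw0⟩ := Submodule.exists_mem_ne_zero_of_ne_bot hne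
  obtain ⟨hw1, hw2⟩ := hw
  rw [hU₁'] at hw1
  rw [hU₂'] at hw2
  obtain ⟨x₁, -, hx₁⟩ := hw1
  obtain ⟨x₂, -, hx₂⟩ := hw2
  have hx20 : x₂ ≠ 0 := by
    rintro rfl; exact hw0 (hx₂.symm.trans (map_zero _))
  refine ⟨x₁ * x₂⁻¹, ?_⟩
  rw [← mulLin_mulLin, hx₁, ← hx₂, mulLin_mulLin, mul_inv_cancel₀ hx20, mulLin_one]

theorem exists_weil (hK : FunFld.IsFunctionField k K) :
    ∃ ω : Om, _root_.FunFld.IsWeil ω ∧ ω ≠ 0 := by
  obtain ⟨P⟩ := nonempty_place hK
  let D : Dv := -Finsupp.single P 2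
  obtain ⟨hfin, hW⟩ := finrank_WD hK D
  have hD : D.deg = -2 * (P.deg : ℤ) := by rw [deg_neg, deg_single]; ring
  have hP1 : (1 : ℤ) ≤ P.deg := by exact_mod_cast deg_pos hK P
  have hne : _root_.FunFld.WD D ≠ ⊥ := fun h => by
    rw [h, finrank_bot] at hW
    simp only [delta, hD] at hW
    omega
  obtain ⟨ω, hω, h0⟩ := Submodule.exists_mem_ne_zero_of_ne_bot hne
  exact ⟨ω, ⟨D, hω⟩, h0⟩

theorem exists_isCanonical (hK : FunFld.IsFunctionField k K) :
    ∃ C : Dv, _root_.FunFld.IsCanonical k K C := by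
  obtain ⟨ω, hω, h0⟩ := exists_weil hK
  obtain ⟨C, hC⟩ := exists_isDivOf hK hω h0
  exact ⟨C, ω, h0, hC⟩

theorem isWeil_of_isDivOf {ω : Om} {C : Dv} (h : _root_.FunFld.IsDivOf ω C) :
    _root_.FunFld.IsWeil ω := ⟨C, (h C).mpr le_rfl⟩

theorem map_L_eq_WD (hK : FunFld.IsFunctionField k K) {ω : Om} {C : Dv}
    (hω : _root_.FunFld.IsDivOf ω C) (h0 : ω ≠ 0) (D : Dv) :
    (_root_.FunFld.L (C - D)).map (mulLin hK ω) = _root_.FunFld.WD D := by
  refine le_antisymm ?_ fun ω' hω' => ?_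
  · rintro _ ⟨x, hx, rfl⟩
    have := mulLin_mem_WD hK hx ((hω C).mpr le_rfl)
    rwa [sub_sub_cancel] at this
  · obtain ⟨x, hx⟩ := exists_mulLin_eq hK (isWeil_of_isDivOf hω) h0 ⟨D, hω'⟩
    refine ⟨x, (mem_L_iff_div hK).mpr ?_, hx⟩
    rcases eq_or_ne x 0 with hx0 | hx0
    · exact Or.inl hx0
    right
    have := (isDivOf_mulLin hK hω hx0 D).mp (hx ▸ hω')
    have h2 := sub_nonneg.mpr this
    convert h2 using 1; abel

theorem finrank_WD_eq_ell (hK : FunFld.IsFunctionField k K) {C : Dv}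
    (hC : _root_.FunFld.IsCanonical k K C) (D : Dv) :
    Module.finrank k (_root_.FunFld.WD D) = _root_.FunFld.ell (C - D) := by
  obtain ⟨ω, h0, hω⟩ := hC
  rw [← map_L_eq_WD hK hω h0 D]
  exact ((Submodule.equivMapOfInjective _ (mulLin_injective hK h0) _).finrank_eq).symm

theorem riemann_roch (hK : FunFld.IsFunctionField k K) {C : Dv}
    (hC : _root_.FunFld.IsCanonical k K C) (D : Dv) :
    (_root_.FunFld.ell D : ℤ) =
      D.deg + 1 - _root_.FunFld.genus k K + _root_.FunFld.ell (C - D) := by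
  have h := (finrank_WD hK D).2
  rw [finrank_WD_eq_ell hK hC D] at h
  simp only [delta] at h
  omega

theorem ell_canonical (hK : FunFld.IsFunctionField k K) {C : Dv}
    (hC : _root_.FunFld.IsCanonical k K C) : _root_.FunFld.ell C = _root_.FunFld.genus k K := by
  have := riemann_roch hK hC 0
  rw [ell_zero hK, deg_zero, sub_zero] at this
  omega

theorem deg_canonical (hK : FunFld.IsFunctionField k K) {C : Dv}
    (hC : _root_.FunFld.IsCanonical k K C) : C.deg = 2 * (_root_.FunFld.genus k K : ℤ) - 2 := by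
  have := riemann_roch hK hC C
  rw [sub_self, ell_zero hK, ell_canonical hK hC] at this
  omega

theorem ell_eq_of_deg_ge (hK : FunFld.IsFunctionField k K) {D : Dv}
    (h : 2 * (_root_.FunFld.genus k K : ℤ) - 1 ≤ D.deg) :
    (_root_.FunFld.ell D : ℤ) = D.deg + 1 - _root_.FunFld.genus k K := by
  obtain ⟨C, hC⟩ := exists_isCanonical hK
  have := riemann_roch hK hC D
  have hneg : (C - D).deg < 0 := by rw [deg_sub, deg_canonical hK hC]; omega
  have h0 : _root_.FunFld.ell (C - D) = 0 := by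
    rw [_root_.FunFld.ell, L_eq_bot_of_deg_neg hK hneg, finrank_bot]
  omega

theorem ell_eq_zero_of_deg_neg (hK : FunFld.IsFunctionField k K) {D : Dv} (h : D.deg < 0) :
    _root_.FunFld.ell D = 0 := by
  rw [_root_.FunFld.ell, L_eq_bot_of_deg_neg hK h, finrank_bot]

theorem isCanonical_add_div (hK : FunFld.IsFunctionField k K) {C : Dv}
    (hC : _root_.FunFld.IsCanonical k K C) {x : K} (hx : x ≠ 0) :
    _root_.FunFld.IsCanonical k K (C + _root_.FunFld.div k x) := by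
  obtain ⟨ω, h0, hω⟩ := hC
  exact ⟨_, mulLin_ne_zero hK h0 hx, isDivOf_mulLin hK hω hx⟩

theorem exists_eq_add_div (hK : FunFld.IsFunctionField k K) {C₁ C₂ : Dv}
    (h₁ : _root_.FunFld.IsCanonical k K C₁) (h₂ : _root_.FunFld.IsCanonical k K C₂) :
    ∃ x : K, x ≠ 0 ∧ C₂ = C₁ + _root_.FunFld.div k x := by
  obtain ⟨ω₁, h01, hω₁⟩ := h₁
  obtain ⟨ω₂, h02, hω₂⟩ := h₂
  obtain ⟨x, hx⟩ := exists_mulLin_eq hK (isWeil_of_isDivOf hω₁) h01 (isWeil_of_isDivOf hω₂)
  have hx0 : x ≠ 0 := by rintro rfl; exact h02 (hx.symm.trans (map_zero _))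
  exact ⟨x, hx0, isDivOf_unique hω₂ (hx ▸ isDivOf_mulLin hK hω₁ hx0)⟩

theorem isCanonical_iff (hK : FunFld.IsFunctionField k K) (C : Dv) :
    _root_.FunFld.IsCanonical k K C ↔
      _root_.FunFld.ell C = _root_.FunFld.genus k K ∧
        C.deg = 2 * (_root_.FunFld.genus k K : ℤ) - 2 := by
  refine ⟨fun h => ⟨ell_canonical hK h, deg_canonical hK h⟩, fun ⟨h1, h2⟩ => ?_⟩
  obtain ⟨W, hW⟩ := exists_isCanonical hK
  have := riemann_roch hK hW C
  have hpos : 0 < _root_.FunFld.ell (W - C) := by omega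
  obtain ⟨z, hz0, hz⟩ := exists_ne_zero_of_ell_pos hpos
  have h' := ((mem_L_iff_div hK).mp hz).resolve_left hz0
  have hdeg : (_root_.FunFld.div k z + (W - C)).deg = 0 := by
    rw [deg_add, deg_div hK, deg_sub, deg_canonical hK hW]; omega
  have heq : _root_.FunFld.div k z + (W - C) = 0 := by
    refine le_antisymm (Finsupp.le_def.mpr fun P => ?_) h'
    by_contra hlt
    simp only [Finsupp.coe_zero, Pi.zero_apply] at hlt
    have hle : Finsupp.single P 1 ≤ _root_.FunFld.div k z + (W - C) := by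
      refine Finsupp.le_def.mpr fun Q => ?_
      rcases eq_or_ne Q P with rfl | hQ
      · rw [Finsupp.single_eq_same]; omega
      · rw [Finsupp.single_eq_of_ne hQ]; exact Finsupp.le_def.mp h' Q
    have := deg_mono hle
    rw [deg_single, hdeg] at this
    have := deg_pos hK P
    omega
  have : C = W + _root_.FunFld.div k z := by
    rw [← sub_eq_zero, ← neg_eq_zero, ← heq]; abel
  exact this ▸ isCanonical_add_div hK hW hz0

end Groth.Agent.Lib.FunFld.Weil
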