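import Groth.Agent.Lib.FunFld.LinSer.Basic
import Groth.Agent.Lib.FunFld.Weil

/-! Linear equivalence in low degree, and low genus consequences of Riemann-Roch. -/

namespace Groth.Agent.Lib.FunFld.SmallGenus

open WithZero
open Groth.Agent.Lib.FunFld.Place Groth.Agent.Lib.FunFld.Degree Groth.Agent.Lib.FunFld.Existence
open Groth.Agent.Lib.FunFld.Riemann

variable {k K : Type*} [Field k] [Field K] [Algebra k K]

local notation "Pl" => _root_.FunFld.Place k K
local notation "Dv" => _root_.FunFld.Divisor k K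

/-- An effective divisor of degree zero is zero. -/
theorem eq_zero_of_nonneg (hK : FunFld.IsFunctionField k K) {E : Dv} (h : 0 ≤ E) (hd : E.deg = 0) :
    E = 0 := by
  refine le_antisymm (Finsupp.le_def.mpr fun P => ?_) h
  by_contra hlt
  simp only [Finsupp.coe_zero, Pi.zero_apply] at hlt
  have hle : Finsupp.single P 1 ≤ E := by
    refine Finsupp.le_def.mpr fun Q => ?_
    rcases eq_or_ne Q P with rfl | hQ
    · rw [Finsupp.single_eq_same]; omega
    · rw [Finsupp.single_eq_of_ne hQ]; exact Finsupp.le_def.mp h Q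
  have := deg_mono hle
  rw [deg_single, hd] at this
  have := deg_pos hK P
  omega

/-- A divisor with sections is linearly equivalent to an effective one. -/
theorem exists_nonneg (hK : FunFld.IsFunctionField k K) {E : Dv} (h : 0 < _root_.FunFld.ell E) :
    ∃ (F : Dv) (x : K), 0 ≤ F ∧ x ≠ 0 ∧ E = F + _root_.FunFld.div k x ∧ F.deg = E.deg := by
  obtain ⟨z, hz0, hz⟩ := exists_ne_zero_of_ell_pos h
  have h' := ((mem_L_iff_div hK).mp hz).resolve_left hz0
  refine ⟨_root_.FunFld.div k z + E, z⁻¹, h', inv_ne_zero hz0, ?_, ?_⟩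
  · rw [div_inv hK]; abel
  · rw [deg_add, deg_div hK, zero_add]

/-- A divisor of degree zero with a section is principal. -/
theorem exists_div_of_deg_zero (hK : FunFld.IsFunctionField k K) {E : Dv}
    (h : 0 < _root_.FunFld.ell E) (hd : E.deg = 0) : ∃ x : K, x ≠ 0 ∧ E = _root_.FunFld.div k x := by
  obtain ⟨F, x, hF, hx, hE, hdeg⟩ := exists_nonneg hK h
  rw [eq_zero_of_nonneg hK hF (hdeg.trans hd), zero_add] at hE
  exact ⟨x, hx, hE⟩

/-- A divisor of degree one with a section is linearly equivalent to a place. -/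
theorem exists_place_of_deg_one (hK : FunFld.IsFunctionField k K) {E : Dv}
    (h : 0 < _root_.FunFld.ell E) (hd : E.deg = 1) :
    ∃ (T : Pl) (x : K), x ≠ 0 ∧ E = Finsupp.single T 1 + _root_.FunFld.div k x := by
  obtain ⟨F, x, hF, hx, hE, hdeg⟩ := exists_nonneg hK h
  have hne : F ≠ 0 := fun h0 => by rw [h0, hd] at hdeg; simp [_root_.FunFld.Divisor.deg] at hdeg
  obtain ⟨T, hT⟩ := Finsupp.ne_iff.mp hne
  simp only [Finsupp.coe_zero, Pi.zero_apply] at hT
  have hle : Finsupp.single T 1 ≤ F := by
    refine Finsupp.le_def.mpr fun Q => ?_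
    rcases eq_or_ne Q T with rfl | hQ
    · have := Finsupp.le_def.mp hF Q
      simp only [Finsupp.coe_zero, Pi.zero_apply] at this
      rw [Finsupp.single_eq_same]; omega
    · rw [Finsupp.single_eq_of_ne hQ]; exact Finsupp.le_def.mp hF Q
  have hT1 : (T.deg : ℤ) = 1 := by
    have := deg_mono hle
    rw [deg_single, hdeg, hd] at this
    have := deg_pos hK T
    omega
  have := eq_zero_of_nonneg hK (sub_nonneg.mpr hle) (by
    rw [deg_sub, deg_single, hdeg, hd, hT1]; omega)
  exact ⟨T, x, hx, by rw [hE, sub_eq_zero.mp this]⟩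

theorem div_algebraMap (hK : FunFld.IsFunctionField k K) (c : k) :
    _root_.FunFld.div k (algebraMap k K c) = 0 :=
  Finsupp.ext fun P => by rw [div_apply hK, ord_algebraMap]; rfl

/-- A rigid effective divisor is alone in its class among effective divisors. -/
theorem eq_of_ell_le_one (hK : FunFld.IsFunctionField k K) {D D' : Dv}
    (h1 : _root_.FunFld.ell D ≤ 1) (hD : 0 ≤ D) (hD' : 0 ≤ D') {x : K} (hx : x ≠ 0)
    (he : D' = D + _root_.FunFld.div k x) : D' = D := by
  have := finiteDimensional_L hK D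
  have hmem : x ∈ _root_.FunFld.L D :=
    (mem_L_iff_div hK).mpr (Or.inr (by rw [add_comm, ← he]; exact hD'))
  have hone : (1 : K) ∈ _root_.FunFld.L D := by
    refine (mem_L_iff_div hK).mpr (Or.inr ?_)
    have := div_algebraMap (K := K) hK 1
    rw [map_one] at this
    rw [this, zero_add]; exact hD
  have hpos : 0 < _root_.FunFld.ell D :=
    Module.finrank_pos_iff_exists_ne_zero.mpr ⟨⟨x, hmem⟩, fun h0 => hx (congrArg Subtype.val h0)⟩
  have hone0 : (⟨1, hone⟩ : _root_.FunFld.L D) ≠ 0 := fun h0 => one_ne_zero (congrArg Subtype.val h0)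
  obtain ⟨c, hc⟩ := (finrank_eq_one_iff_of_nonzero' _ hone0).mp
    (show Module.finrank k (_root_.FunFld.L D) = 1 by unfold _root_.FunFld.ell at h1 hpos; omega)
      ⟨x, hmem⟩
  have hxc : x = algebraMap k K c := by
    have := congrArg Subtype.val hc
    simpa [Algebra.smul_def] using this.symm
  rw [he, hxc, div_algebraMap hK, add_zero]

variable [IsAlgClosed k]

theorem deg_single' (hK : FunFld.IsFunctionField k K) (P : Pl) (n : ℤ) :
    _root_.FunFld.Divisor.deg (Finsupp.single P n : Dv) = n := by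
  rw [deg_single, Rational.deg_eq_one hK P]; simp

omit [IsAlgClosed k] in
theorem inf_L_inf (V : Submodule k K) (D D' : Dv) :
    (V ⊓ _root_.FunFld.L D) ⊓ (V ⊓ _root_.FunFld.L D') =
      V ⊓ _root_.FunFld.L (D ⊓ D') := by
  refine Submodule.ext fun x => ⟨fun h => ⟨h.1.1, fun P => ?_⟩, fun h => ?_⟩
  · rw [Finsupp.inf_apply]
    rcases le_total (D P) (D' P) with hle | hle
    · rw [inf_eq_left.mpr hle]; exact h.1.2 P
    · rw [inf_eq_right.mpr hle]; exact h.2.2 P
  · exact ⟨⟨h.1, L_mono inf_le_left h.2⟩, h.1, L_mono inf_le_right h.2⟩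

omit [IsAlgClosed k] in
/-- Modularity inequality for the dimensions `d(i,j) = dim V(-iP-jQ)`. -/
theorem finrank_add_finrank_le (hK : FunFld.IsFunctionField k K) (V : Submodule k K) (E : Dv)
    {P Q : Pl} (hPQ : P ≠ Q) :
    Module.finrank k ↥(V ⊓ _root_.FunFld.L (E - Finsupp.single P 1)) +
      Module.finrank k ↥(V ⊓ _root_.FunFld.L (E - Finsupp.single Q 1)) ≤
    Module.finrank k ↥(V ⊓ _root_.FunFld.L E) +
      Module.finrank k ↥(V ⊓ _root_.FunFld.L (E - Finsupp.single P 1 - Finsupp.single Q 1)) := by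
  set A := V ⊓ _root_.FunFld.L (E - Finsupp.single P 1)
  set B := V ⊓ _root_.FunFld.L (E - Finsupp.single Q 1)
  have := finiteDimensional_L hK E
  have := finiteDimensional_L hK (E - Finsupp.single P 1)
  have := finiteDimensional_L hK (E - Finsupp.single Q 1)
  have : FiniteDimensional k ↥(V ⊓ _root_.FunFld.L E) :=
    Submodule.finiteDimensional_of_le inf_le_right
  have : FiniteDimensional k ↥A := Submodule.finiteDimensional_of_le inf_le_right
  have : FiniteDimensional k ↥B := Submodule.finiteDimensional_of_le inf_le_right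
  have hinf : (E - Finsupp.single P 1) ⊓ (E - Finsupp.single Q 1) =
      E - Finsupp.single P 1 - Finsupp.single Q 1 := by
    refine Finsupp.ext fun R => ?_
    simp only [Finsupp.inf_apply, Finsupp.sub_apply]
    rcases eq_or_ne R P with rfl | hR
    · simp [Finsupp.single_eq_of_ne hPQ]
    · simp only [Finsupp.single_eq_of_ne hR, sub_zero]
      rcases eq_or_ne R Q with rfl | hR'
      · simp
      · simp [Finsupp.single_eq_of_ne hR']
  have h := Submodule.finrank_sup_add_finrank_inf_eq A B
  have hAB : A ⊓ B = V ⊓ _root_.FunFld.L (E - Finsupp.single P 1 - Finsupp.single Q 1) := by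
    rw [inf_L_inf, hinf]
  rw [hAB] at h
  have hsup : A ⊔ B ≤ V ⊓ _root_.FunFld.L E :=
    sup_le (inf_le_inf_left V (L_mono (sub_le_self _ (Finsupp.single_nonneg.mpr zero_le_one))))
      (inf_le_inf_left V (L_mono (sub_le_self _ (Finsupp.single_nonneg.mpr zero_le_one))))
  have := Submodule.finrank_mono hsup
  omega

omit [IsAlgClosed k] in
theorem finrank_mono' (hK : FunFld.IsFunctionField k K) (V : Submodule k K) {E E' : Dv}
    (h : E ≤ E') : Module.finrank k ↥(V ⊓ _root_.FunFld.L E) ≤
      Module.finrank k ↥(V ⊓ _root_.FunFld.L E') := by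
  have := finiteDimensional_L hK E'
  have : FiniteDimensional k ↥(V ⊓ _root_.FunFld.L E') :=
    Submodule.finiteDimensional_of_le inf_le_right
  exact Submodule.finrank_mono (inf_le_inf_left V (L_mono h))

theorem finrank_step' (hK : FunFld.IsFunctionField k K) (V : Submodule k K) (E : Dv) (P : Pl) :
    Module.finrank k ↥(V ⊓ _root_.FunFld.L E) ≤
      Module.finrank k ↥(V ⊓ _root_.FunFld.L (E - Finsupp.single P 1)) + 1 := by
  have := LinSer.Basic.finrank_inf_step hK V (E - Finsupp.single P 1) P
  rwa [sub_add_cancel] at this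

omit [IsAlgClosed k] in
/-- In genus one, `ℓ(D) = deg D` in positive degree. -/
theorem ell_genus_one (hK : FunFld.IsFunctionField k K) (hg : _root_.FunFld.genus k K = 1) {D : Dv}
    (h : 1 ≤ D.deg) : (_root_.FunFld.ell D : ℤ) = D.deg := by
  have := Weil.ell_eq_of_deg_ge hK (D := D) (by omega)
  omega

omit [IsAlgClosed k] in
theorem ell_deg_zero_le (hK : FunFld.IsFunctionField k K) {D : Dv} (h : D.deg = 0) :
    _root_.FunFld.ell D ≤ 1 := by
  rcases Nat.eq_zero_or_pos (_root_.FunFld.ell D) with h0 | h0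
  · omega
  obtain ⟨x, hx, rfl⟩ := exists_div_of_deg_zero hK h0 h
  rw [← zero_add (_root_.FunFld.div k x), ell_add_div hK 0 hx, ell_zero hK]

/-- On a curve of positive genus, linearly equivalent places are equal. -/
theorem eq_of_single_equiv (hK : FunFld.IsFunctionField k K) (hg : 0 < _root_.FunFld.genus k K)
    {P Q : Pl} {x : K} (hx : x ≠ 0)
    (he : (Finsupp.single P 1 : Dv) = Finsupp.single Q 1 + _root_.FunFld.div k x) : P = Q := by
  have := eq_of_ell_le_one hK
    (Rational.ell_single_one_eq_one hK hg (Rational.deg_eq_one hK Q)).le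
    (Finsupp.single_nonneg.mpr zero_le_one) (Finsupp.single_nonneg.mpr zero_le_one) hx he
  exact Finsupp.single_left_injective one_ne_zero this

end Groth.Agent.Lib.FunFld.SmallGenus
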