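import Groth.Agent.Lib.FunFld.Ext
import Mathlib.FieldTheory.Galois.Basic
import Mathlib.RingTheory.Valuation.RamificationGroup
import Mathlib.RingTheory.Norm.Defs
import Mathlib.RingTheory.Norm.Transitivity
import Mathlib.GroupTheory.GroupAction.Quotient

/-! Galois extensions: transitivity on places above `P`, common `e` and `f`, decomposition group. -/

namespace Groth.Agent.Lib.FunFld.Galois

open WithZero IsLocalRing
open Groth.Agent.Lib.FunFld.Place
open scoped Pointwise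

universe u v w
variable {k : Type u} {K : Type v} {K' : Type w} [Field k] [Field K] [Field K']
  [Algebra k K] [Algebra K K'] [Algebra k K'] [IsScalarTower k K K']

local notation "PlK" => _root_.FunFld.Place k K
local notation "PlK'" => _root_.FunFld.Place k K'

/-- The place `Q ∘ σ`. -/
noncomputable def comapAut (Q : PlK') (σ : K' ≃ₐ[K] K') : PlK' :=
  ⟨Q.1.comap (σ : K' →+* K'), fun c => by
    change Q.1 (σ (algebraMap k K' c)) ≤ 1
    rw [IsScalarTower.algebraMap_apply k K K', σ.commutes, ← IsScalarTower.algebraMap_apply k K K']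
    exact Q.2.1 c,
   fun y => by
    obtain ⟨x, hx⟩ := Q.2.2 y
    exact ⟨σ.symm x, by rw [Valuation.comap_apply]; simpa using hx⟩⟩

theorem comapAut_apply (Q : PlK') (σ : K' ≃ₐ[K] K') (x : K') :
    (comapAut Q σ).1 x = Q.1 (σ x) := rfl

theorem O_comapAut (Q : PlK') (σ : K' ≃ₐ[K] K') : (comapAut Q σ).O = σ⁻¹ • Q.O := by
  refine SetLike.ext fun x => ?_
  rw [ValuationSubring.mem_pointwise_smul_iff_inv_smul_mem, inv_inv]
  exact Iff.rfl

theorem isOverWith_comapAut {Q : PlK'} {P : PlK} {e : ℕ} (h : FunFld.IsOverWith Q P e)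
    (σ : K' ≃ₐ[K] K') : FunFld.IsOverWith (comapAut Q σ) P e := fun x => by
  rw [comapAut_apply, σ.commutes]; exact h x

theorem deg_comapAut (Q : PlK') (σ : K' ≃ₐ[K] K') : (comapAut Q σ).deg = Q.deg := by
  let g : (comapAut Q σ).O →ₗ[k] Q.O :=
    { toFun := fun z => ⟨σ z, z.2⟩
      map_add' := fun a b => Subtype.ext (map_add σ _ _)
      map_smul' := fun c a => Subtype.ext (by
        change σ (algebraMap k K' c * a) = algebraMap k K' c * σ a
        rw [map_mul, IsScalarTower.algebraMap_apply k K K', σ.commutes]) }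
  have hg : Function.Surjective g := fun z =>
    ⟨⟨σ.symm z, show Q.1 (σ (σ.symm z)) ≤ 1 by rw [σ.apply_symm_apply]; exact z.2⟩,
      Subtype.ext (σ.apply_symm_apply _)⟩
  have hker : (resLin Q ∘ₗ g).ker = (resLin (comapAut Q σ)).ker := by
    ext z
    simp only [LinearMap.mem_ker, LinearMap.comp_apply, resLin_apply, res_eq_zero_iff]
    exact Iff.rfl
  let e₁ := (resLin Q ∘ₗ g).quotKerEquivOfSurjective ((IsLocalRing.residue_surjective).comp hg)
  let e₂ := (resLin (comapAut Q σ)).quotKerEquivOfSurjective IsLocalRing.residue_surjective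
  exact (e₂.symm.trans ((Submodule.quotEquivOfEq _ _ hker).symm.trans e₁)).finrank_eq

variable [FiniteDimensional K K']

theorem exists_comapAut_eq [IsGalois K K'] {Q₁ Q₂ : PlK'} {P : PlK}
    (h₁ : FunFld.IsOver Q₁ P) (h₂ : FunFld.IsOver Q₂ P) :
    ∃ σ : K' ≃ₐ[K] K', comapAut Q₁ σ = Q₂ := by
  classical
  by_contra hne
  simp only [not_exists] at hne
  let S : Finset PlK' := insert Q₂ ((Finset.univ : Finset (K' ≃ₐ[K] K')).image (comapAut Q₁))
  obtain ⟨e₁, he₁⟩ := h₁
  obtain ⟨e₂, he₂⟩ := h₂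
  let S' : Finset PlK' := (Finset.univ : Finset (K' ≃ₐ[K] K')).image (comapAut Q₂)
  obtain ⟨y, hy⟩ := Approx.exists_prescribed_ord (S ∪ S') (fun R => if R = Q₂ then 1 else 0)
  obtain ⟨hy0, hy2⟩ := hy Q₂ (Finset.mem_union_left _ (Finset.mem_insert_self _ _))
  rw [if_pos rfl] at hy2
  have hy1 : ∀ σ : K' ≃ₐ[K] K', Q₁.1 (σ y) = 1 := fun σ => by
    have h := (hy (comapAut Q₁ σ) (Finset.mem_union_left _
      (Finset.mem_insert_of_mem (Finset.mem_image_of_mem _ (Finset.mem_univ σ))))).2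
    rw [if_neg (hne σ)] at h
    rw [← comapAut_apply, val_eq_exp _ hy0, h]; simp
  have hy3 : ∀ σ : K' ≃ₐ[K] K', Q₂.1 (σ y) ≤ 1 := fun σ => by
    have h := (hy (comapAut Q₂ σ) (Finset.mem_union_right _ (Finset.mem_image_of_mem _ (Finset.mem_univ σ)))).2
    rw [← comapAut_apply, val_le_one_iff, h]
    split_ifs <;> norm_num
  have hy4 : Q₂.1 y < 1 := by
    rw [val_eq_exp _ hy0, hy2, ← exp_zero, exp_lt_exp]; norm_num
  have hA : Q₁.1 (algebraMap K K' (Algebra.norm K y)) = 1 := by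
    rw [Algebra.norm_eq_prod_automorphisms, map_prod]
    exact Finset.prod_eq_one fun σ _ => hy1 σ
  have hB : Q₂.1 (algebraMap K K' (Algebra.norm K y)) < 1 := by
    rw [Algebra.norm_eq_prod_automorphisms, map_prod,
      ← Finset.mul_prod_erase _ _ (Finset.mem_univ (1 : K' ≃ₐ[K] K'))]
    exact mul_lt_one_of_lt_of_le hy4 (Finset.prod_le_one (fun _ _ => zero_le) fun σ _ => hy3 σ)
  rw [he₁] at hA
  rw [he₂] at hB
  rw [pow_eq_one_iff_of_nonneg zero_le (Ext.pos_of_isOverWith he₁).ne'] at hA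
  rw [hA, one_pow] at hB
  exact lt_irrefl _ hB

theorem isOverWith_of_isOver [IsGalois K K'] {Q Q' : PlK'} {P : PlK} {e : ℕ}
    (h : FunFld.IsOverWith Q P e) (h' : FunFld.IsOver Q' P) :
    FunFld.IsOverWith Q' P e ∧ Q'.deg = Q.deg := by
  obtain ⟨σ, rfl⟩ := exists_comapAut_eq ⟨e, h⟩ h'
  exact ⟨isOverWith_comapAut h σ, deg_comapAut Q σ⟩

theorem card_over_mul_card_decomposition [IsGalois K K']
    {Q : PlK'} {P : PlK} (hQ : FunFld.IsOver Q P) :
    Nat.card {Q' : PlK' // FunFld.IsOver Q' P} * Nat.card ((Q.O).decompositionSubgroup K) =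
      Module.finrank K K' := by
  obtain ⟨e, he⟩ := hQ
  have horb : ∀ Q' : PlK', FunFld.IsOver Q' P ↔ Q'.O ∈ MulAction.orbit (K' ≃ₐ[K] K') Q.O := by
    intro Q'
    constructor
    · intro h
      obtain ⟨σ, rfl⟩ := exists_comapAut_eq ⟨e, he⟩ h
      exact ⟨σ⁻¹, (O_comapAut Q σ).symm⟩
    · rintro ⟨σ, hσ⟩
      have : Q' = comapAut Q σ⁻¹ := place_ext (by rw [O_comapAut, inv_inv]; exact hσ.symm)
      exact this ▸ ⟨e, isOverWith_comapAut he σ⁻¹⟩
  have hcard : Nat.card {Q' : PlK' // FunFld.IsOver Q' P} =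
      Nat.card (MulAction.orbit (K' ≃ₐ[K] K') Q.O) := by
    refine Nat.card_eq_of_bijective (fun Q' => ⟨Q'.1.O, (horb Q'.1).mp Q'.2⟩) ⟨?_, ?_⟩
    · exact fun a b h => Subtype.ext (place_ext (congrArg Subtype.val h))
    · rintro ⟨V, σ, rfl⟩
      exact ⟨⟨comapAut Q σ⁻¹, e, isOverWith_comapAut he σ⁻¹⟩,
        Subtype.ext (by dsimp only; rw [O_comapAut, inv_inv])⟩
  rw [hcard, ← IsGalois.card_aut_eq_finrank K K', ← Nat.card_prod]
  exact Nat.card_congr (MulAction.orbitProdStabilizerEquivGroup (K' ≃ₐ[K] K') Q.O)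

theorem card_decomposition_mul_deg [IsGalois K K'] (hK : FunFld.IsFunctionField k K)
    {Q : PlK'} {P : PlK} {e : ℕ} (he : FunFld.IsOverWith Q P e) :
    Nat.card ((Q.O).decompositionSubgroup K) * P.deg = e * Q.deg := by
  obtain ⟨hfin, hsum⟩ := Ext.sum_ramIdx_mul_deg (K' := K') hK P
  have hc := card_over_mul_card_decomposition (Q := Q) (P := P) ⟨e, he⟩
  have hcard : Nat.card {Q' : PlK' // FunFld.IsOver Q' P} = hfin.toFinset.card :=
    Nat.card_eq_card_finite_toFinset hfin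
  have : ∀ Q' ∈ hfin.toFinset, FunFld.ramIdx Q' P * Q'.deg = e * Q.deg := fun Q' hQ' => by
    obtain ⟨h1, h2⟩ := isOverWith_of_isOver he (hfin.mem_toFinset.mp hQ')
    rw [Ext.ramIdx_eq h1, h2]
  rw [Finset.sum_congr rfl this, Finset.sum_const, smul_eq_mul, ← hc, hcard, mul_assoc] at hsum
  have hne : hfin.toFinset.card ≠ 0 :=
    Finset.card_ne_zero.mpr ⟨Q, hfin.mem_toFinset.mpr ⟨e, he⟩⟩
  exact (mul_left_cancel₀ hne hsum).symm

end Groth.Agent.Lib.FunFld.Galois
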