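import Groth.Agent.Lib.FunFld.Place

/-! Weak approximation for finitely many places. -/

namespace Groth.Agent.Lib.FunFld.Approx

open WithZero Groth.Agent.Lib.FunFld.Place

universe u v
variable {k : Type u} {K : Type v} [Field k] [Field K] [Algebra k K]

theorem exists_separating {P Q : _root_.FunFld.Place k K} (h : P ≠ Q) :
    ∃ u : K, 1 < P.1 u ∧ Q.1 u < 1 := by
  obtain ⟨a, haP, haQ⟩ : ∃ a, P.1 a ≤ 1 ∧ 1 < Q.1 a := by
    by_contra hc
    exact h (place_eq_of_O_le fun x hx => not_lt.mp fun hlt => hc ⟨x, hx, hlt⟩)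
  obtain ⟨b, hbQ, hbP⟩ : ∃ b, Q.1 b ≤ 1 ∧ 1 < P.1 b := by
    by_contra hc
    exact h (place_eq_of_O_le fun x hx => not_lt.mp fun hlt => hc ⟨x, hx, hlt⟩).symm
  have ha : a ≠ 0 := by rintro rfl; simp at haQ
  refine ⟨b / a, ?_, ?_⟩
  · have hPa : 0 < P.1 a := zero_lt_iff.mpr (by simpa using ha)
    rw [map_div₀, one_lt_div₀ hPa]
    exact haP.trans_lt hbP
  · have hQa : 0 < Q.1 a := zero_lt_iff.mpr (by simpa using ha)
    rw [map_div₀, div_lt_one₀ hQa]
    exact hbQ.trans_lt haQ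

theorem val_one_add_of_one_lt {P : _root_.FunFld.Place k K} {u : K} (h : 1 < P.1 u) :
    P.1 (1 + u) = P.1 u :=
  P.1.map_add_eq_of_lt_right (by simpa using h)

theorem val_one_add_of_lt_one {P : _root_.FunFld.Place k K} {u : K} (h : P.1 u < 1) :
    P.1 (1 + u) = 1 := by
  rw [P.1.map_add_eq_of_lt_left (by simpa using h), map_one]

theorem val_le_of_lt_one {P : _root_.FunFld.Place k K} {u : K} (h : P.1 u < 1) (N : ℕ) :
    P.1 u ^ N ≤ exp (-(N : ℤ)) := by
  have h1 : P.1 u ≤ exp (-1) := by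
    rcases eq_or_ne u 0 with rfl | hu
    · simp
    · rw [val_eq_exp P hu, ← exp_zero, exp_lt_exp] at h
      rw [val_eq_exp P hu, exp_le_exp]; omega
  calc P.1 u ^ N ≤ exp (-1) ^ N := pow_le_pow_left₀ zero_le h1 N
    _ = exp (-(N : ℤ)) := by rw [← exp_nsmul, nsmul_eq_mul, mul_neg, mul_one]

theorem exists_big_small [DecidableEq (_root_.FunFld.Place k K)] (P : _root_.FunFld.Place k K)
    (S : Finset (_root_.FunFld.Place k K)) (hP : P ∉ S) :
    ∃ u : K, 1 < P.1 u ∧ ∀ Q ∈ S, Q.1 u < 1 := by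
  induction S using Finset.induction_on with
  | empty =>
    obtain ⟨t, ht⟩ := exists_val_eq_exp P 1
    exact ⟨t, by rw [ht, ← exp_zero, exp_lt_exp]; norm_num, by simp⟩
  | insert R S hR ih =>
    rw [Finset.mem_insert, not_or] at hP
    obtain ⟨u, huP, hu⟩ := ih hP.2
    rcases lt_or_ge (R.1 u) 1 with hlt | hge
    · exact ⟨u, huP, Finset.forall_mem_insert .. |>.mpr ⟨hlt, hu⟩⟩
    obtain ⟨w, hwP, hwR⟩ := exists_separating hP.1
    obtain ⟨N, hN⟩ : ∃ N : ℕ, ∀ Q ∈ S, Q.1 w < exp (N : ℤ) := by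
      refine ⟨S.sup (fun Q => (-Q.ord w).toNat + 1), fun Q hQ => ?_⟩
      have := Finset.le_sup (f := fun Q => (-Q.ord w).toNat + 1) hQ
      rcases eq_or_ne w 0 with rfl | hw
      · simp
      rw [val_eq_exp Q hw, exp_lt_exp]; omega
    have hsmall : ∀ Q ∈ S, Q.1 u ^ (N + 1) * Q.1 w < 1 := by
      intro Q hQ
      refine lt_of_le_of_lt (mul_le_mul'
        (val_le_of_lt_one (hu Q hQ) (N + 1)) (hN Q hQ).le) ?_
      rw [← exp_add, ← exp_zero, exp_lt_exp]; push_cast; omega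
    rcases hge.eq_or_lt with heq | hgt
    · refine ⟨u ^ (N + 1) * w, ?_, Finset.forall_mem_insert .. |>.mpr ⟨?_, ?_⟩⟩
      · rw [map_mul, map_pow]
        exact hwP.trans_le (le_mul_of_one_le_left zero_le (one_le_pow₀ huP.le))
      · rw [map_mul, map_pow, ← heq, one_pow, one_mul]; exact hwR
      · intro Q hQ; rw [map_mul, map_pow]; exact hsmall Q hQ
    · have e : ∀ T : _root_.FunFld.Place k K, 1 < T.1 u →
          T.1 (u ^ (N + 1) / (1 + u ^ (N + 1)) * w) = T.1 w := by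
        intro T hT
        have hT' : 1 < T.1 (u ^ (N + 1)) := by
          rw [map_pow]; exact one_lt_pow₀ hT (Nat.succ_ne_zero _)
        rw [map_mul, map_div₀, val_one_add_of_one_lt hT', div_self (ne_of_gt (zero_lt_one.trans hT')),
          one_mul]
      refine ⟨u ^ (N + 1) / (1 + u ^ (N + 1)) * w, by rw [e P huP]; exact hwP,
        Finset.forall_mem_insert .. |>.mpr ⟨by rw [e R hgt]; exact hwR, fun Q hQ => ?_⟩⟩
      have hQ' : Q.1 (u ^ (N + 1)) < 1 := by
        rw [map_pow]; exact pow_lt_one₀ zero_le (hu Q hQ) (Nat.succ_ne_zero _)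
      rw [map_mul, map_div₀, val_one_add_of_lt_one hQ', div_one, map_pow]
      exact hsmall Q hQ

theorem exists_near_one [DecidableEq (_root_.FunFld.Place k K)] (P : _root_.FunFld.Place k K)
    (S : Finset (_root_.FunFld.Place k K)) (hP : P ∉ S) (N : ℕ) :
    ∃ e : K, P.1 (e - 1) ≤ exp (-(N : ℤ)) ∧ ∀ Q ∈ S, Q.1 e ≤ exp (-(N : ℤ)) := by
  obtain ⟨u, huP, hu⟩ := exists_big_small P S hP
  have hu' : 1 < P.1 (u ^ (N + 1)) := by rw [map_pow]; exact one_lt_pow₀ huP (Nat.succ_ne_zero _)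
  have hne : 1 + u ^ (N + 1) ≠ 0 := fun h => by
    have := val_one_add_of_one_lt hu'; rw [h, map_zero] at this
    rw [← this] at hu'; simp at hu'
  refine ⟨u ^ (N + 1) / (1 + u ^ (N + 1)), ?_, fun Q hQ => ?_⟩
  · rw [show u ^ (N + 1) / (1 + u ^ (N + 1)) - 1 = -(1 + u ^ (N + 1))⁻¹ by field_simp; ring,
      Valuation.map_neg, map_inv₀, val_one_add_of_one_lt hu', map_pow]
    have hu0 : u ≠ 0 := by rintro rfl; simp at huP
    rw [val_eq_exp P hu0, ← exp_zero, exp_lt_exp] at huP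
    rw [val_eq_exp P hu0, ← exp_nsmul, ← exp_neg, exp_le_exp, nsmul_eq_mul]
    push_cast
    nlinarith
  · have hQ' : Q.1 (u ^ (N + 1)) < 1 := by
      rw [map_pow]; exact pow_lt_one₀ zero_le (hu Q hQ) (Nat.succ_ne_zero _)
    rw [map_div₀, val_one_add_of_lt_one hQ', div_one, map_pow]
    exact (val_le_of_lt_one (hu Q hQ) _).trans (exp_le_exp.mpr (by push_cast; omega))

/-- Weak approximation. -/
theorem approximation (S : Finset (_root_.FunFld.Place k K)) (a : _root_.FunFld.Place k K → K)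
    (n : _root_.FunFld.Place k K → ℤ) :
    ∃ z : K, ∀ P ∈ S, P.1 (z - a P) ≤ exp (n P) := by
  classical
  let N : ℕ := S.sup fun P => S.sup fun Q => (-(n Q) - Q.ord (a P)).toNat
  choose e he1 he2 using fun P => exists_near_one P (S.erase P) (Finset.notMem_erase P S) N
  refine ⟨∑ P ∈ S, a P * e P, fun Q hQ => ?_⟩
  have hz : (∑ P ∈ S, a P * e P) - a Q =
      ∑ P ∈ S, (a P * e P - if P = Q then a P else 0) := by
    rw [Finset.sum_sub_distrib, Finset.sum_ite_eq' S Q a, if_pos hQ]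
  rw [hz]
  refine Valuation.map_sum_le _ fun P hP => ?_
  rcases eq_or_ne (a P) 0 with ha | ha
  · simp [ha]
  have hN : (-(n Q) - Q.ord (a P)).toNat ≤ N :=
    le_trans (Finset.le_sup (f := fun Q => (-(n Q) - Q.ord (a P)).toNat) hQ)
      (Finset.le_sup (f := fun P => S.sup fun Q => (-(n Q) - Q.ord (a P)).toNat) hP)
  have hbound : Q.1 (a P) * exp (-(N : ℤ)) ≤ exp (n Q) := by
    rw [val_eq_exp Q ha, ← exp_add, exp_le_exp]; omega
  split_ifs with h
  · subst h
    rw [← mul_sub_one, map_mul]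
    exact (mul_le_mul_right (he1 P) _).trans hbound
  · rw [sub_zero, map_mul]
    exact (mul_le_mul_right (he2 P Q (Finset.mem_erase.mpr ⟨fun h' => h h'.symm, hQ⟩)) _).trans hbound

theorem exists_prescribed_ord (S : Finset (_root_.FunFld.Place k K))
    (m : _root_.FunFld.Place k K → ℤ) : ∃ z : K, ∀ P ∈ S, z ≠ 0 ∧ P.ord z = m P := by
  choose b hb using fun P : _root_.FunFld.Place k K => exists_val_eq_exp P (-(m P))
  obtain ⟨z, hz⟩ := approximation S b (fun P => -(m P) - 1)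
  refine ⟨z, fun P hP => ?_⟩
  have h1 : P.1 (z - b P) < P.1 (b P) := by
    rw [hb P]; exact (hz P hP).trans_lt (exp_lt_exp.mpr (by omega))
  have h2 : P.1 z = P.1 (b P) := by
    have := P.1.map_add_eq_of_lt_left h1
    simpa using this
  rw [hb P] at h2
  refine ⟨?_, by rw [ord_eq_of_val_eq_exp P h2, neg_neg]⟩
  rintro rfl
  exact exp_ne_zero (h2.symm.trans (map_zero _))

end Groth.Agent.Lib.FunFld.Approx
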