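import Groth.Agent.Lib.FunFld.Ext
import Groth.Prelude.Def_W4bk4goldsch45

/-! The divisor of a tuple of functions. -/

namespace Groth.Agent.Lib.FunFld.MapDiv

open WithZero
open Groth.Agent.Lib.FunFld.Place Groth.Agent.Lib.FunFld.Gen.Bound

universe u v w
variable {k : Type u} {K : Type v} [Field k] [Field K] [Algebra k K]

theorem finite_support_aux (hK : IsFF k K) {ι : Type*} [Fintype ι] [Nonempty ι] (φ : ι → K) :
    (Function.support fun P : _root_.FunFld.Place k K =>
      -Finset.univ.inf' Finset.univ_nonempty (fun i => P.ord (φ i))).Finite := by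
  refine ((Set.finite_iUnion fun i => Gen.Degree.finite_support_ord hK (φ i))).subset fun P hP => ?_
  rw [Set.mem_iUnion]
  by_contra hne
  simp only [not_exists, Function.mem_support, not_not] at hne
  refine hP ?_
  simp [hne]

theorem mapDiv_apply (hK : IsFF k K) {ι : Type*} [Fintype ι] [Nonempty ι] (φ : ι → K)
    (P : _root_.FunFld.Place k K) :
    _root_.FunFld.mapDiv k φ P =
      -Finset.univ.inf' Finset.univ_nonempty (fun i => P.ord (φ i)) := by
  rw [_root_.FunFld.mapDiv, dif_pos (finite_support_aux hK φ)]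
  rfl

variable {K' : Type w} [Field K'] [Algebra K K'] [Algebra k K'] [IsScalarTower k K K']
  [FiniteDimensional K K']

theorem mapDiv_map (hK : FunFld.IsFunctionField k K) {ι : Type*} [Fintype ι] [Nonempty ι]
    (φ : ι → K) :
    _root_.FunFld.mapDiv k (fun i => algebraMap K K' (φ i)) =
      _root_.FunFld.conorm K' (_root_.FunFld.mapDiv k φ) := by
  ext Q
  obtain ⟨P, e, -, he⟩ := Ext.exists_place_below hK Q
  rw [Ext.conorm_apply hK _ he, mapDiv_apply (Ext.isFF_of_finite hK), mapDiv_apply (Ext.isFF hK),
    mul_neg, Finset.apply_inf'_eq_inf'_comp (g := fun z : ℤ => (e : ℤ) * z)]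
  · simp only [Function.comp_def, Ext.ord_map he]
  · intro a b
    exact mul_min_of_nonneg a b (Int.natCast_nonneg e)

end Groth.Agent.Lib.FunFld.MapDiv
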