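import Groth.Agent.Lib.FunFld.Existence
import Groth.Agent.Lib.FunFld.Approx
import Mathlib.LinearAlgebra.Dimension.Constructions
import Mathlib.LinearAlgebra.Pi

/-! Divisors: finiteness of supports, `deg (x)₀ = [K : k(x)]`, `deg (x) = 0`, finiteness of `L(D)`. -/

namespace Groth.Agent.Lib.FunFld.Degree

open WithZero IsLocalRing IntermediateField
open Groth.Agent.Lib.FunFld.Place Groth.Agent.Lib.FunFld.Bound Groth.Agent.Lib.FunFld.Existence
open Groth.Agent.Lib.FunFld.Approx

universe u v
variable {k : Type u} {K : Type v} [Field k] [Field K] [Algebra k K]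

local notation "Pl" => _root_.FunFld.Place k K

/-- `{z | v_P z ≤ exp n}`, i.e. `ord_P z ≥ -n`. -/
def ball (P : Pl) (n : ℤ) : Submodule k K where
  carrier := {z | P.1 z ≤ exp n}
  add_mem' {x y} hx hy := (P.1.map_add x y).trans (max_le hx hy)
  zero_mem' := by simp
  smul_mem' c x (hx : P.1 x ≤ exp n) := by
    change P.1 (c • x) ≤ exp n
    rw [Algebra.smul_def, map_mul]; exact (mul_le_mul' (P.2.1 c) hx).trans_eq (one_mul _)

theorem mem_ball {P : Pl} {n : ℤ} {z : K} : z ∈ ball P n ↔ P.1 z ≤ exp n := Iff.rfl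

theorem ball_mono (P : Pl) {m n : ℤ} (h : m ≤ n) : ball P m ≤ ball P n :=
  fun _ hz => le_trans hz (exp_le_exp.mpr h)

/-- `z ↦ residue (z * t ^ n)` on the ball of radius `n`. -/
noncomputable def ballRes (P : Pl) (n : ℤ) : ball P n →ₗ[k] ResidueField P.O :=
  resLin P ∘ₗ
    { toFun := fun z => ⟨(z : K) * unif P ^ n, by
        rw [mem_O_iff, map_mul, val_unif_zpow]
        refine (mul_le_mul' z.2 le_rfl).trans_eq ?_
        rw [← exp_add]; simp⟩
      map_add' := fun _ _ => Subtype.ext (add_mul _ _ _)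
      map_smul' := fun c z => Subtype.ext (by
        simp only [RingHom.id_apply, Algebra.smul_def, Submodule.coe_smul]
        exact (mul_assoc _ _ _)) }

theorem ballRes_eq_zero_iff (P : Pl) (n : ℤ) (z : ball P n) :
    ballRes P n z = 0 ↔ (z : K) ∈ ball P (n - 1) := by
  rw [ballRes, LinearMap.comp_apply, resLin_apply, res_eq_zero_iff]
  change P.1 ((z : K) * unif P ^ n) < 1 ↔ P.1 (z : K) ≤ exp (n - 1)
  rcases eq_or_ne (z : K) 0 with h | h
  · simp [h]
  · rw [map_mul, val_unif_zpow, val_eq_exp P h, ← exp_add, ← exp_zero, exp_lt_exp, exp_le_exp]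
    omega

theorem ballRes_surjective (P : Pl) (n : ℤ) : Function.Surjective (ballRes P n) := by
  intro y
  obtain ⟨⟨y, hy⟩, rfl⟩ := IsLocalRing.residue_surjective y
  refine ⟨⟨y * unif P ^ (-n), ?_⟩, ?_⟩
  · rw [mem_ball, map_mul, val_unif_zpow, neg_neg]
    exact (mul_le_mul' hy le_rfl).trans_eq (one_mul _)
  · rw [ballRes, LinearMap.comp_apply, resLin_apply]
    refine congrArg _ (Subtype.ext ?_)
    change y * unif P ^ (-n) * unif P ^ n = y
    rw [mul_assoc, ← zpow_add₀ (unif_ne_zero P), neg_add_cancel, zpow_zero, mul_one]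

theorem exists_map_ball (hK : FunFld.IsFunctionField k K) (P : Pl) (a : ℤ) (d : ℕ) :
    ∃ f : K →ₗ[k] (Fin (d * P.deg) → k),
      Function.Surjective (f ∘ₗ (ball P (a + d)).subtype) ∧
      ∀ z ∈ ball P (a + d), f z = 0 ↔ z ∈ ball P a := by
  induction d with
  | zero =>
    refine ⟨0, fun y => ⟨0, funext fun i => absurd i.2 (by simp)⟩, fun z hz => ?_⟩
    simpa using hz
  | succ d ih =>
    obtain ⟨f, hfs, hf⟩ := ih
    have := finiteDimensional_residueField hK P
    let b : Module.Basis (Fin P.deg) k (ResidueField P.O) := Module.finBasis k (ResidueField P.O)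
    obtain ⟨g, hg⟩ := LinearMap.exists_extend (ballRes P (a + (d + 1 : ℕ)))
    let e := (LinearEquiv.sumArrowLequivProdArrow (Fin (d * P.deg)) (Fin P.deg) k k).symm
    let c : Fin (d * P.deg) ⊕ Fin P.deg ≃ Fin ((d + 1) * P.deg) :=
      finSumFinEquiv.trans (finCongr (by ring))
    let E := e.trans (LinearEquiv.funCongrLeft k k c.symm)
    let F : K →ₗ[k] (Fin ((d + 1) * P.deg) → k) :=
      E.toLinearMap ∘ₗ
        f.prod (b.equivFun.toLinearMap ∘ₗ g)
    have hg' : ∀ (z : K) (hz : z ∈ ball P (a + (d + 1 : ℕ))), g z = ballRes P _ ⟨z, hz⟩ :=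
      fun z hz => LinearMap.congr_fun hg ⟨z, hz⟩
    refine ⟨F, fun y => ?_, fun z hz => ?_⟩
    · obtain ⟨⟨p, q⟩, rfl⟩ := E.surjective y
      obtain ⟨w, hw⟩ := ballRes_surjective P (a + (d + 1 : ℕ)) (b.equivFun.symm q)
      obtain ⟨w', hw'⟩ := hfs (p - f w)
      have hsub : (w' : K) ∈ ball P (a + (d + 1 : ℕ)) := ball_mono P (by push_cast; omega) w'.2
      refine ⟨⟨w + w', add_mem w.2 hsub⟩, ?_⟩
      change E (f (w + w' : K), b.equivFun (g (w + w' : K))) = _
      refine congrArg _ (Prod.ext ?_ ?_)
      · rw [LinearMap.comp_apply] at hw'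
        change f (w + w' : K) = p
        rw [map_add, show f (w' : K) = p - f w from hw']; abel
      · change b.equivFun (g (w + w' : K)) = q
        rw [map_add g, hg' _ w.2, hg' _ hsub]
        have hz0 : ballRes P (a + (d + 1 : ℕ)) ⟨w', hsub⟩ = 0 := by
          rw [ballRes_eq_zero_iff]
          exact ball_mono P (by push_cast; omega) w'.2
        rw [hz0, add_zero, Subtype.coe_eta, hw, LinearEquiv.apply_symm_apply]
    · change E (f z, b.equivFun (g z)) = 0 ↔ _
      rw [LinearEquiv.map_eq_zero_iff, Prod.mk_eq_zero, LinearEquiv.map_eq_zero_iff, hg' z hz,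
        ballRes_eq_zero_iff]
      have hr : a + ((d + 1 : ℕ) : ℤ) - 1 = a + d := by push_cast; ring
      constructor
      · rintro ⟨h1, h2⟩
        rw [hr] at h2
        exact (hf z h2).mp h1
      · intro h
        have h2 : z ∈ ball P (a + d) := ball_mono P (by omega) h
        exact ⟨(hf z h2).mpr h, hr ▸ h2⟩

theorem sum_ord_mul_deg_le (hK : FunFld.IsFunctionField k K) {x : K} (hx : Transcendental k x)
    (S : Finset Pl) (hS : ∀ P ∈ S, 0 < P.ord x) :
    ∑ P ∈ S, P.ord x * (P.deg : ℤ) ≤ Module.finrank (adjoin k ({x} : Set K)) K := by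
  classical
  choose f hfs hf using fun P : Pl => exists_map_ball hK P (-((P.ord x).toNat : ℤ)) (P.ord x).toNat
  have hball : ∀ P : Pl, -((P.ord x).toNat : ℤ) + ((P.ord x).toNat : ℤ) = 0 := fun P => by omega
  simp only [hball] at hfs hf
  let M : Submodule k K := ⨅ P ∈ S, ball P 0
  have hmem : ∀ {z}, z ∈ M ↔ ∀ P ∈ S, P.1 z ≤ exp 0 := by
    intro z; simp only [M, Submodule.mem_iInf, mem_ball]
  have hxball : ∀ P ∈ S, x ∈ ball P (-((P.ord x).toNat : ℤ)) := fun P hP => by
    rw [mem_ball, val_eq_exp P (ne_zero_of_transcendental hx), exp_le_exp]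
    have := hS P hP; omega
  have hM : ∀ m ∈ M, x * m ∈ M := by
    intro m hm
    rw [hmem] at hm ⊢
    intro P hP
    rw [map_mul]
    refine (mul_le_mul' (hxball P hP) (hm P hP)).trans ?_
    rw [← exp_add, exp_le_exp]; omega
  let F : M →ₗ[k] ((P : S) → Fin ((P.1.ord x).toNat * P.1.deg) → k) :=
    LinearMap.pi fun P => f P.1 ∘ₗ M.subtype
  have hFs : Function.Surjective F := by
    intro y
    choose w hw using fun P : S => hfs P.1 (y P)
    let a : Pl → K := fun P => if h : P ∈ S then (w ⟨P, h⟩ : K) else 0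
    obtain ⟨z, hz⟩ := approximation S a (fun P => -((P.ord x).toNat : ℤ))
    have hzM : z ∈ M := hmem.mpr fun P hP => by
      rw [show z = (z - a P) + a P by ring]
      refine (P.1.map_add _ _).trans (max_le ((hz P hP).trans (exp_le_exp.mpr (by omega))) ?_)
      simp only [a, dif_pos hP]; exact ball_mono P (hball P).le (w ⟨P, hP⟩).2
    refine ⟨⟨z, hzM⟩, funext fun P => ?_⟩
    change f P.1 z = y P
    have h1 := hz P.1 P.2
    simp only [a, dif_pos P.2] at h1
    have h0 : z - w P ∈ ball P.1 0 := (ball_mono P.1 (by omega)) h1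
    have h2 := (hf P.1 _ h0).mpr h1
    rw [map_sub, sub_eq_zero] at h2
    rw [h2]; exact hw P
  have hker : ∀ m : M, F ⟨x * m, hM m m.2⟩ = 0 := by
    intro m
    funext P
    change f P.1 (x * m) = 0
    refine (hf P.1 _ (hmem.mp (hM m m.2) P.1 P.2)).mpr ?_
    rw [mem_ball, map_mul]
    refine (mul_le_mul' (hxball P.1 P.2) (hmem.mp m.2 P.1 P.2)).trans ?_
    rw [← exp_add, exp_le_exp]; omega
  have h := (finite_and_finrank_le_of_surjective hK hx M hM F hFs hker).2
  rw [Module.finrank_pi_fintype] at h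
  simp only [Module.finrank_pi, Fintype.card_fin] at h
  rw [Finset.sum_coe_sort S (fun P : Pl => (P.ord x).toNat * P.deg)] at h
  have h' : ((∑ P ∈ S, (P.ord x).toNat * P.deg : ℕ) : ℤ) ≤
      Module.finrank (adjoin k ({x} : Set K)) K := by exact_mod_cast h
  refine le_trans (le_of_eq ?_) h'
  push_cast
  exact Finset.sum_congr rfl fun P hP => by rw [Int.toNat_of_nonneg (hS P hP).le]

theorem finite_zeros (hK : FunFld.IsFunctionField k K) (x : K) : {P : Pl | 0 < P.ord x}.Finite := by
  by_cases hx : Transcendental k x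
  · by_contra hinf
    obtain ⟨S, hS, hcard⟩ := Set.Infinite.exists_subset_card_eq hinf
      (Module.finrank (adjoin k ({x} : Set K)) K + 1)
    have h := sum_ord_mul_deg_le hK hx S fun P hP => hS hP
    have h2 : (S.card : ℤ) ≤ ∑ P ∈ S, P.ord x * (P.deg : ℤ) := by
      rw [Finset.card_eq_sum_ones, Nat.cast_sum]
      refine Finset.sum_le_sum fun P hP => ?_
      have h1 : 1 ≤ P.ord x := hS hP
      have h3 : (1 : ℤ) ≤ P.deg := by exact_mod_cast deg_pos hK P
      push_cast
      nlinarith
    omega
  · convert Set.finite_empty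
    ext P
    simp only [Set.mem_ofPred_eq, Set.mem_empty_iff_false, iff_false]
    exact fun hP => hx (transcendental_of_ord_ne_zero hK P (ne_of_gt hP))

theorem finite_support_ord (hK : FunFld.IsFunctionField k K) (x : K) :
    (Function.support fun P : Pl => P.ord x).Finite := by
  refine ((finite_zeros hK x).union (finite_zeros hK x⁻¹)).subset fun P hP => ?_
  rcases lt_or_gt_of_ne (Function.mem_support.mp hP) with h | h
  · right; change 0 < P.ord x⁻¹; rw [ord_inv]; omega
  · left; exact h

theorem div_apply (hK : FunFld.IsFunctionField k K) (x : K) (P : Pl) :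
    _root_.FunFld.div k x P = P.ord x := by
  rw [_root_.FunFld.div, dif_pos (finite_support_ord hK x)]
  rfl

theorem div_mul (hK : FunFld.IsFunctionField k K) {x y : K} (hx : x ≠ 0) (hy : y ≠ 0) :
    _root_.FunFld.div k (x * y) = _root_.FunFld.div k x + _root_.FunFld.div k y := by
  ext P; simp [div_apply hK, ord_mul P hx hy]

theorem div_inv (hK : FunFld.IsFunctionField k K) (x : K) :
    _root_.FunFld.div k x⁻¹ = -_root_.FunFld.div k x := by
  ext P; simp [div_apply hK, ord_inv]

theorem mem_L_iff {D : _root_.FunFld.Divisor k K} {x : K} :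
    x ∈ _root_.FunFld.L D ↔ ∀ P : Pl, P.1 x ≤ exp (D P) := Iff.rfl

theorem mem_L_iff_ord {D : _root_.FunFld.Divisor k K} {x : K} :
    x ∈ _root_.FunFld.L D ↔ x = 0 ∨ ∀ P : Pl, -D P ≤ P.ord x := by
  rcases eq_or_ne x 0 with rfl | hx
  · simp
  · simp only [mem_L_iff, hx, false_or, val_le_exp_iff]

theorem mem_L_iff_div (hK : FunFld.IsFunctionField k K) {D : _root_.FunFld.Divisor k K} {x : K} :
    x ∈ _root_.FunFld.L D ↔ x = 0 ∨ 0 ≤ _root_.FunFld.div k x + D := by
  rw [mem_L_iff_ord, Finsupp.le_def]
  refine or_congr Iff.rfl (forall_congr' fun P => ?_)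
  simp only [Finsupp.coe_zero, Pi.zero_apply, Finsupp.add_apply, div_apply hK]
  omega

theorem L_mono {D₁ D₂ : _root_.FunFld.Divisor k K} (h : D₁ ≤ D₂) :
    _root_.FunFld.L D₁ ≤ _root_.FunFld.L D₂ :=
  fun _ hx P => (hx P).trans (exp_le_exp.mpr (Finsupp.le_def.mp h P))

theorem L_zero (hK : FunFld.IsFunctionField k K) :
    _root_.FunFld.L (0 : _root_.FunFld.Divisor k K) = 1 := by
  rw [Submodule.one_eq_range]
  refine le_antisymm (fun x hx => ?_) ?_
  · by_contra hmem
    obtain ⟨P, hP⟩ := exists_pole hK (transcendental_of_not_mem_range hK hmem)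
    have := hx P
    rw [Finsupp.coe_zero, Pi.zero_apply, val_le_exp_iff] at this
    rcases this with rfl | h
    · simp at hP
    · omega
  · rintro _ ⟨c, rfl⟩ P
    simpa using P.2.1 c

theorem deg_add (D E : _root_.FunFld.Divisor k K) : (D + E).deg = D.deg + E.deg :=
  Finsupp.sum_add_index' (by simp) (by intros; ring)

theorem deg_single (P : Pl) (n : ℤ) :
    _root_.FunFld.Divisor.deg (Finsupp.single P n) = n * P.deg :=
  Finsupp.sum_single_index (by simp)

@[simp] theorem deg_zero : (0 : _root_.FunFld.Divisor k K).deg = 0 := Finsupp.sum_zero_index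

theorem deg_neg (D : _root_.FunFld.Divisor k K) : (-D).deg = -D.deg := by
  have := deg_add D (-D); rw [add_neg_cancel, deg_zero] at this; omega

theorem deg_sub (D E : _root_.FunFld.Divisor k K) : (D - E).deg = D.deg - E.deg := by
  rw [sub_eq_add_neg, deg_add, deg_neg]; rfl

theorem deg_smul (n : ℤ) (D : _root_.FunFld.Divisor k K) : (n • D).deg = n * D.deg := by
  rw [_root_.FunFld.Divisor.deg, Finsupp.sum_smul_index (by simp), _root_.FunFld.Divisor.deg,
    Finsupp.mul_sum]
  exact Finset.sum_congr rfl fun P _ => by simp [mul_assoc]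

theorem deg_nonneg {D : _root_.FunFld.Divisor k K} (h : 0 ≤ D) : 0 ≤ D.deg :=
  Finset.sum_nonneg fun P _ => mul_nonneg (Finsupp.le_def.mp h P) (Int.natCast_nonneg _)

theorem deg_mono {D E : _root_.FunFld.Divisor k K} (h : D ≤ E) : D.deg ≤ E.deg := by
  have := deg_nonneg (sub_nonneg.mpr h); rw [deg_sub] at this; omega

/-- One step `D ↦ D + P`. -/
theorem step (hK : FunFld.IsFunctionField k K) (D : _root_.FunFld.Divisor k K) (P : Pl)
    [FiniteDimensional k (_root_.FunFld.L D)] :
    FiniteDimensional k (_root_.FunFld.L (D + Finsupp.single P 1)) ∧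
      _root_.FunFld.ell (D + Finsupp.single P 1) ≤ _root_.FunFld.ell D + P.deg := by
  classical
  have := finiteDimensional_residueField hK P
  let E := D + Finsupp.single P 1
  let f : _root_.FunFld.L E →ₗ[k] ResidueField P.O :=
    ballRes P (E P) ∘ₗ Submodule.inclusion (show _root_.FunFld.L E ≤ ball P (E P) from fun _ h => h P)
  have hker : f.ker ≤ (_root_.FunFld.L D).comap (_root_.FunFld.L E).subtype := by
    intro z hz Q
    rw [LinearMap.mem_ker] at hz
    have hz' := (ballRes_eq_zero_iff P (E P) _).mp hz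
    change Q.1 (z : K) ≤ exp (D Q)
    rcases eq_or_ne Q P with rfl | hQ
    · have : E Q - 1 = D Q := by simp [E]
      rw [← this]; exact hz'
    · have : E Q = D Q := by simp [E, Finsupp.single_eq_of_ne hQ]
      rw [← this]; exact z.2 Q
  let g : f.ker →ₗ[k] _root_.FunFld.L D :=
    LinearMap.codRestrict _ ((_root_.FunFld.L E).subtype ∘ₗ f.ker.subtype) (fun z => hker z.2)
  have hg : Function.Injective g := fun a b h => by
    exact Subtype.ext (Subtype.ext (congrArg (fun z : _root_.FunFld.L D => (z : K)) h))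
  have : FiniteDimensional k f.ker := FiniteDimensional.of_injective g hg
  have : FiniteDimensional k f.range := inferInstance
  have hq : FiniteDimensional k (_root_.FunFld.L E ⧸ f.ker) :=
    f.quotKerEquivRange.symm.finiteDimensional
  have hfin : FiniteDimensional k (_root_.FunFld.L E) :=
    have := hq
    Module.Finite.of_submodule_quotient f.ker
  refine ⟨hfin, ?_⟩
  have h1 := f.finrank_range_add_finrank_ker
  have h2 : Module.finrank k f.range ≤ P.deg := Submodule.finrank_le _
  have h3 : Module.finrank k f.ker ≤ _root_.FunFld.ell D :=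
    LinearMap.finrank_le_finrank_of_injective hg
  change Module.finrank k (_root_.FunFld.L E) ≤ _
  omega

theorem induction_le {motive : _root_.FunFld.Divisor k K → Prop} {D₁ : _root_.FunFld.Divisor k K}
    (base : motive D₁)
    (ih : ∀ D P, D₁ ≤ D → motive D → motive (D + Finsupp.single P 1))
    {D₂ : _root_.FunFld.Divisor k K} (h : D₁ ≤ D₂) : motive D₂ := by
  classical
  suffices H : ∀ N : ℕ, ∀ D₂, D₁ ≤ D₂ → ((D₂ - D₁).sum fun _ n => n.toNat) = N → motive D₂ from
    H _ D₂ h rfl
  intro N
  induction N with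
  | zero =>
    intro D₂ h hN
    have : D₂ = D₁ := by
      refine sub_eq_zero.mp (Finsupp.ext fun P => ?_)
      by_contra hP
      have hle := Finsupp.le_def.mp h P
      rw [Finsupp.sum, Finset.sum_eq_zero_iff] at hN
      have := hN P (Finsupp.mem_support_iff.mpr hP)
      simp only [Finsupp.sub_apply, Finsupp.coe_zero, Pi.zero_apply] at this hP
      omega
    exact this ▸ base
  | succ N IH =>
    intro D₂ h hN
    obtain ⟨P, hP⟩ : ∃ P, D₁ P < D₂ P := by
      by_contra hc
      simp only [not_exists, not_lt] at hc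
      rw [le_antisymm (Finsupp.le_def.mpr hc) h, sub_self, Finsupp.sum_zero_index] at hN
      omega
    have hle : D₁ ≤ D₂ - Finsupp.single P 1 := by
      refine Finsupp.le_def.mpr fun Q => ?_
      rcases eq_or_ne Q P with rfl | hQ
      · simp; omega
      · simpa [Finsupp.single_eq_of_ne hQ] using Finsupp.le_def.mp h Q
    have hN' : ((D₂ - Finsupp.single P 1 - D₁).sum fun _ n => n.toNat) = N := by
      have hPs : P ∈ (D₂ - D₁).support := by simp; omega
      have hsub : (D₂ - Finsupp.single P 1 - D₁).support ⊆ (D₂ - D₁).support := by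
        intro Q hQ
        rcases eq_or_ne Q P with rfl | hne
        · exact hPs
        · simpa [Finsupp.single_eq_of_ne hne] using hQ
      rw [Finsupp.sum_of_support_subset _ hsub _ (by simp)]
      rw [Finsupp.sum, ← Finset.add_sum_erase _ _ hPs] at hN
      rw [← Finset.add_sum_erase _ _ hPs]
      have e : ∑ Q ∈ (D₂ - D₁).support.erase P,
            ((D₂ - Finsupp.single P (1 : ℤ) - D₁ : _root_.FunFld.Divisor k K) Q).toNat =
          ∑ Q ∈ (D₂ - D₁).support.erase P, ((D₂ - D₁) Q).toNat :=
        Finset.sum_congr rfl fun Q hQ => by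
          simp [Finsupp.single_eq_of_ne (Finset.ne_of_mem_erase hQ)]
      rw [e]
      simp only [Finsupp.sub_apply, Finsupp.single_eq_same] at hN ⊢
      omega
    have := ih _ P hle (IH _ hle hN')
    rwa [sub_add_cancel] at this

theorem finiteDimensional_L_zero (hK : FunFld.IsFunctionField k K) :
    FiniteDimensional k (_root_.FunFld.L (0 : _root_.FunFld.Divisor k K)) := by
  rw [L_zero hK, Submodule.one_eq_range]
  infer_instance

theorem ell_zero (hK : FunFld.IsFunctionField k K) :
    _root_.FunFld.ell (0 : _root_.FunFld.Divisor k K) = 1 := by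
  rw [_root_.FunFld.ell, L_zero hK, Submodule.one_eq_range,
    LinearMap.finrank_range_of_inj (f := Algebra.linearMap k K) (algebraMap k K).injective,
    Module.finrank_self]

theorem finiteDimensional_L (hK : FunFld.IsFunctionField k K) (D : _root_.FunFld.Divisor k K) :
    FiniteDimensional k (_root_.FunFld.L D) := by
  classical
  have hpos : FiniteDimensional k (_root_.FunFld.L (D ⊔ (0 : _root_.FunFld.Divisor k K))) :=
    induction_le (motive := fun E => FiniteDimensional k (_root_.FunFld.L E))
      (finiteDimensional_L_zero hK) (fun E P _ hE => have := hE; (step hK E P).1) le_sup_right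
  exact Submodule.finiteDimensional_of_le (L_mono (le_sup_left : D ≤ D ⊔ (0 : _root_.FunFld.Divisor k K)))

theorem ell_sub_ell_le (hK : FunFld.IsFunctionField k K) {D₁ D₂ : _root_.FunFld.Divisor k K}
    (h : D₁ ≤ D₂) :
    (_root_.FunFld.ell D₂ : ℤ) - _root_.FunFld.ell D₁ ≤ D₂.deg - D₁.deg := by
  refine induction_le (motive := fun E => (_root_.FunFld.ell E : ℤ) - _root_.FunFld.ell D₁ ≤
      E.deg - D₁.deg) (by simp) (fun D P _ hD => ?_) h
  have := finiteDimensional_L hK D
  have := (step hK D P).2
  rw [deg_add, deg_single]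
  omega

/-- The divisor of poles. -/
noncomputable def poleDiv (x : K) : _root_.FunFld.Divisor k K := (_root_.FunFld.div k x)⁻

/-- The divisor of zeros. -/
noncomputable def zeroDiv (x : K) : _root_.FunFld.Divisor k K := (_root_.FunFld.div k x)⁺

theorem poleDiv_apply (hK : FunFld.IsFunctionField k K) (x : K) (P : Pl) :
    poleDiv (k := k) x P = max (-P.ord x) 0 := by
  simp [poleDiv, negPart_def, div_apply hK]

theorem zeroDiv_apply (hK : FunFld.IsFunctionField k K) (x : K) (P : Pl) :
    zeroDiv (k := k) x P = max (P.ord x) 0 := by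
  simp [zeroDiv, posPart_def, div_apply hK]

theorem zeroDiv_inv (hK : FunFld.IsFunctionField k K) (x : K) :
    zeroDiv (k := k) x⁻¹ = poleDiv x := by
  rw [zeroDiv, div_inv hK, posPart_neg]; rfl

theorem poleDiv_inv (hK : FunFld.IsFunctionField k K) (x : K) :
    poleDiv (k := k) x⁻¹ = zeroDiv x := by
  rw [poleDiv, div_inv hK, negPart_neg]; rfl

theorem deg_zeroDiv_le (hK : FunFld.IsFunctionField k K) {x : K} (hx : Transcendental k x) :
    (zeroDiv (k := k) x).deg ≤ Module.finrank (adjoin k ({x} : Set K)) K := by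
  classical
  refine le_trans (le_of_eq ?_) (sum_ord_mul_deg_le hK hx (zeroDiv (k := k) x).support fun P hP => ?_)
  · refine Finset.sum_congr rfl fun P hP => ?_
    rw [Finsupp.mem_support_iff, zeroDiv_apply hK] at hP
    simp only [zeroDiv_apply hK]
    rw [max_eq_left (by omega)]
  · rw [Finsupp.mem_support_iff, zeroDiv_apply hK] at hP
    omega

theorem adjoin_inv (x : K) : adjoin k ({x⁻¹} : Set K) = adjoin k ({x} : Set K) := by
  refine le_antisymm (adjoin_simple_le_iff.mpr (inv_mem (mem_adjoin_simple_self k x)))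
    (adjoin_simple_le_iff.mpr ?_)
  simpa using inv_mem (mem_adjoin_simple_self k x⁻¹)

theorem exists_finrank_mul_le_ell (hK : FunFld.IsFunctionField k K) {x : K}
    (hx : Transcendental k x) :
    ∃ C : _root_.FunFld.Divisor k K, 0 ≤ C ∧ ∀ l : ℕ,
      (l + 1) * Module.finrank (adjoin k ({x} : Set K)) K ≤
        _root_.FunFld.ell ((l : ℤ) • poleDiv x + C) := by
  classical
  have := finiteDimensional_adjoin_transcendental hK hx
  let b := Module.finBasis (adjoin k ({x} : Set K)) K
  have hC : 0 ≤ ∑ i, poleDiv (k := k) (b i) := Finset.sum_nonneg fun i _ => negPart_nonneg _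
  refine ⟨∑ i, poleDiv (b i), hC, fun l => ?_⟩
  have := finiteDimensional_L hK ((l : ℤ) • poleDiv x + ∑ i, poleDiv (b i))
  let v : Fin (l + 1) × Fin (Module.finrank (adjoin k ({x} : Set K)) K) → K :=
    fun p => x ^ (p.1 : ℕ) * b p.2
  have hmem : ∀ p, v p ∈ _root_.FunFld.L ((l : ℤ) • poleDiv (k := k) x + ∑ i, poleDiv (k := k) (b i)) := by
    intro p
    rw [mem_L_iff_ord]
    refine Or.inr fun P => ?_
    simp only [v, Finsupp.add_apply, Finsupp.smul_apply, Finsupp.finsetSum_apply, poleDiv_apply hK,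
      smul_eq_mul, ord_mul P (pow_ne_zero _ (ne_zero_of_transcendental hx)) (b.ne_zero p.2), ord_pow]
    have h1 : max (-P.ord (b p.2)) 0 ≤ ∑ i, max (-P.ord (b i)) 0 :=
      Finset.single_le_sum (f := fun i => max (-P.ord (b i)) 0) (fun i _ => le_max_right _ _)
        (Finset.mem_univ p.2)
    have h2 : -((l : ℤ) * max (-P.ord x) 0) ≤ (p.1 : ℤ) * P.ord x := by
      have hp : (p.1 : ℤ) ≤ l := by exact_mod_cast Fin.is_le p.1
      rcases le_total (P.ord x) 0 with h | h
      · rw [max_eq_left (by omega), mul_neg, neg_neg]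
        exact mul_le_mul_of_nonpos_right hp h
      · rw [max_eq_right (by omega)]; simpa using mul_nonneg (Int.natCast_nonneg p.1) h
    omega
  have hli : LinearIndependent k v := by
    rw [Fintype.linearIndependent_iff]
    intro c hc
    let co : Fin (Module.finrank (adjoin k ({x} : Set K)) K) → Polynomial k := fun i =>
      ∑ j : Fin (l + 1), Polynomial.monomial (j : ℕ) (c (j, i))
    have hsum : ∑ i, (⟨Polynomial.aeval x (co i),
        algebra_adjoin_le_adjoin k _ (Polynomial.aeval_mem_adjoin_singleton k x)⟩ :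
          adjoin k ({x} : Set K)) • b i = 0 := by
      rw [← hc, Fintype.sum_prod_type, Finset.sum_comm]
      refine Finset.sum_congr rfl fun i _ => ?_
      rw [IntermediateField.smul_def, smul_eq_mul]
      simp only [co, map_sum, Finset.sum_mul, Polynomial.aeval_monomial, v, Algebra.smul_def,
        mul_assoc]
    rintro ⟨j, i⟩
    have h0 : co i = 0 := by
      by_contra h0
      exact hx ⟨co i, h0, congrArg Subtype.val
        (Fintype.linearIndependent_iff.mp b.linearIndependent _ hsum i)⟩
    have := congrArg (fun p : Polynomial k => p.coeff j) h0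
    simpa [co, Polynomial.finsetSum_coeff, Polynomial.coeff_monomial, Fin.val_inj] using this
  have h3 : LinearIndependent k
      (fun p => (⟨v p, hmem p⟩ : _root_.FunFld.L ((l : ℤ) • poleDiv x + ∑ i, poleDiv (b i)))) :=
    LinearIndependent.of_comp (Submodule.subtype _) hli
  simpa [_root_.FunFld.ell] using h3.fintype_card_le_finrank

theorem deg_poleDiv (hK : FunFld.IsFunctionField k K) {x : K} (hx : Transcendental k x) :
    (poleDiv (k := k) x).deg = Module.finrank (adjoin k ({x} : Set K)) K := by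
  refine le_antisymm ?_ ?_
  · have := deg_zeroDiv_le hK (transcendental_inv hx)
    rwa [zeroDiv_inv hK, adjoin_inv] at this
  · by_contra hlt
    obtain ⟨C, hC, hl⟩ := exists_finrank_mul_le_ell hK hx
    set n := Module.finrank (adjoin k ({x} : Set K)) K
    set B := poleDiv (k := k) x
    have hB : 0 ≤ B := negPart_nonneg _
    let l := C.deg.toNat + 1
    have h1 := hl l
    have h2 := ell_sub_ell_le hK (add_nonneg (zsmul_nonneg hB (Int.natCast_nonneg l)) hC)
    rw [ell_zero hK, deg_add, deg_smul, deg_zero] at h2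
    have h3 : (l : ℤ) * B.deg ≤ (l : ℤ) * ((n : ℤ) - 1) :=
      mul_le_mul_of_nonneg_left (by omega) (Int.natCast_nonneg l)
    have h4 : ((l : ℤ) + 1) * n ≤ _root_.FunFld.ell ((l : ℤ) • B + C) := by exact_mod_cast h1
    have h5 := deg_nonneg hC
    have h6 : (l : ℤ) = C.deg + 1 := by simp only [l]; omega
    have h7 := deg_nonneg hB
    have := finiteDimensional_adjoin_transcendental hK hx
    have h8 : 0 < n := Module.finrank_pos
    have h9 : (1 : ℤ) ≤ n := by exact_mod_cast h8
    push_cast at h2
    linarith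

theorem deg_zeroDiv (hK : FunFld.IsFunctionField k K) {x : K} (hx : Transcendental k x) :
    (zeroDiv (k := k) x).deg = Module.finrank (adjoin k ({x} : Set K)) K := by
  rw [← poleDiv_inv hK, deg_poleDiv hK (transcendental_inv hx), adjoin_inv]

theorem deg_div (hK : FunFld.IsFunctionField k K) (x : K) : (_root_.FunFld.div k x).deg = 0 := by
  by_cases hx : Transcendental k x
  · have h : _root_.FunFld.div k x = zeroDiv x - poleDiv x := by
      simp [zeroDiv, poleDiv, posPart_sub_negPart]
    rw [h, deg_sub, deg_zeroDiv hK hx, deg_poleDiv hK hx, sub_self]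
  · have h : _root_.FunFld.div k x = 0 := by
      ext P
      rw [div_apply hK, Finsupp.coe_zero, Pi.zero_apply]
      by_contra h
      exact hx (transcendental_of_ord_ne_zero hK P h)
    rw [h, deg_zero]

theorem L_eq_bot_of_deg_neg (hK : FunFld.IsFunctionField k K) {D : _root_.FunFld.Divisor k K}
    (h : D.deg < 0) : _root_.FunFld.L D = ⊥ := by
  refine (Submodule.eq_bot_iff _).mpr fun x hx => ?_
  rcases (mem_L_iff_div hK).mp hx with h0 | h0
  · exact h0
  · have := deg_nonneg h0
    rw [deg_add, deg_div hK] at this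
    omega

end Groth.Agent.Lib.FunFld.Degree
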