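import Groth.Agent.Lib.FunFld.Place
import Mathlib.FieldTheory.IntermediateField.Adjoin.Basic
import Mathlib.RingTheory.AlgebraicIndependent.TranscendenceBasis
import Mathlib.RingTheory.AlgebraicIndependent.AlgebraicClosure
import Mathlib.RingTheory.AlgebraicIndependent.Transcendental

/-! Finiteness of `K` over `k(x)` and the basic dimension bound by `[K : k(x)]`. -/

namespace Groth.Agent.Lib.FunFld.Bound

open IntermediateField Polynomial

universe u v w
variable {k : Type u} {K : Type v} [Field k] [Field K] [Algebra k K]

theorem transcendental_of_not_mem_range (hK : FunFld.IsFunctionField k K) {x : K}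
    (hx : x ∉ Set.range (algebraMap k K)) : Transcendental k x :=
  fun h => hx (hK.2 x h)

theorem not_mem_range_of_transcendental {x : K} (hx : Transcendental k x) :
    x ∉ Set.range (algebraMap k K) := by
  rintro ⟨c, rfl⟩
  exact hx (isAlgebraic_algebraMap c)

theorem transcendental_inv {x : K} (hx : Transcendental k x) : Transcendental k x⁻¹ :=
  fun h => hx (by simpa using h.inv)

theorem ne_zero_of_transcendental {x : K} (hx : Transcendental k x) : x ≠ 0 := by
  rintro rfl; exact hx isAlgebraic_zero

theorem trdeg_le_one (hK : FunFld.IsFunctionField k K) : Algebra.trdeg k K ≤ 1 := by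
  obtain ⟨⟨x₀, hx₀, hfin⟩, -⟩ := hK
  have : Algebra.IsAlgebraic (Algebra.adjoin k ({x₀} : Set K)) K :=
    IntermediateField.isAlgebraic_adjoin_iff_top.mp inferInstance
  simpa using Algebra.IsAlgebraic.trdeg_le_cardinalMk k ({x₀} : Set K)

theorem isAlgebraic_adjoin (hK : FunFld.IsFunctionField k K) {x : K} (hx : Transcendental k x) :
    Algebra.IsAlgebraic (adjoin k ({x} : Set K)) K := by
  have hb : IsTranscendenceBasis k ![x] :=
    AlgebraicIndependent.isTranscendenceBasis_of_lift_trdeg_le_of_finite
      (algebraicIndependent_iff_transcendental.mpr hx) (by simpa using trdeg_le_one hK)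
  have := hb.isAlgebraic_field
  rwa [Matrix.range_cons, Matrix.range_empty, Set.union_empty] at this

theorem exists_finite_adjoin_eq_top (hK : FunFld.IsFunctionField k K) :
    ∃ S : Set K, S.Finite ∧ adjoin k S = ⊤ := by
  obtain ⟨⟨x₀, hx₀, hfin⟩, -⟩ := hK
  let b := Module.finBasis (adjoin k ({x₀} : Set K)) K
  refine ⟨{x₀} ∪ Set.range b, (Set.finite_singleton _).union (Set.finite_range _), ?_⟩
  rw [eq_top_iff]
  intro y _
  rw [← b.sum_repr y]
  refine sum_mem fun i _ => ?_
  rw [IntermediateField.smul_def, smul_eq_mul]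
  refine mul_mem ?_ (subset_adjoin k _ (Or.inr ⟨i, rfl⟩))
  exact adjoin.mono k _ _ Set.subset_union_left (b.repr y i).2

theorem finiteDimensional_adjoin_transcendental (hK : FunFld.IsFunctionField k K) {x : K}
    (hx : Transcendental k x) : FiniteDimensional (adjoin k ({x} : Set K)) K := by
  have := isAlgebraic_adjoin hK hx
  obtain ⟨S, hS, htop⟩ := exists_finite_adjoin_eq_top hK
  have : Finite S := hS.to_subtype
  have hfd := IntermediateField.finiteDimensional_adjoin (K := adjoin k ({x} : Set K)) (S := S)
    (fun s _ => (Algebra.IsAlgebraic.isAlgebraic s).isIntegral)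
  have htop' : adjoin (adjoin k ({x} : Set K)) S = ⊤ := by
    rw [eq_top_iff]
    intro y _
    have hy : y ∈ adjoin k S := htop ▸ mem_top
    have hle : adjoin k S ≤ (adjoin (adjoin k ({x} : Set K)) S).restrictScalars k :=
      adjoin_le_iff.mpr (subset_adjoin _ _)
    exact hle hy
  rw [htop'] at hfd
  exact IntermediateField.topEquiv.toLinearEquiv.finiteDimensional

/-- If a finite family is independent modulo `x • M` for a `k[x]`-stable `M`, it is linearly
independent over `k(x)`. -/
theorem linearIndependent_adjoin_of_mod {x : K} (hx : Transcendental k x)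
    (M : Submodule k K) (hM : ∀ m ∈ M, x * m ∈ M) {ι : Type*} [Fintype ι] (b : ι → K)
    (hb : ∀ i, b i ∈ M)
    (hind : ∀ c : ι → k, ∀ m ∈ M, ∑ i, c i • b i = x * m → c = 0) :
    LinearIndependent (adjoin k ({x} : Set K)) b := by
  classical
  have hmul : ∀ (p : k[X]) (m : K), m ∈ M → aeval x p * m ∈ M := by
    intro p
    induction p using Polynomial.induction_on with
    | C a => intro m hm; rw [aeval_C, ← Algebra.smul_def]; exact M.smul_mem a hm
    | add p q hp hq => intro m hm; rw [map_add, add_mul]; exact M.add_mem (hp m hm) (hq m hm)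
    | monomial n a h =>
      intro m hm
      have : aeval x (C a * X ^ (n + 1)) * m = aeval x (C a * X ^ n) * (x * m) := by
        simp [pow_succ]; ring
      rw [this]; exact h _ (hM m hm)
  have hx0 := ne_zero_of_transcendental hx
  have key : ∀ N : ℕ, ∀ φ : ι → k[X], (∀ i, (φ i).natDegree ≤ N) →
      ∑ i, aeval x (φ i) * b i = 0 → ∀ i, φ i = 0 := by
    intro N
    induction N with
    | zero =>
      intro φ hdeg hsum i
      have hC : ∀ i, φ i = C ((φ i).coeff 0) := fun i =>
        eq_C_of_natDegree_le_zero (hdeg i)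
      have h0 := hind (fun i => (φ i).coeff 0) 0 M.zero_mem (by
        rw [mul_zero, ← hsum]
        refine Finset.sum_congr rfl fun j _ => ?_
        conv_rhs => rw [hC j]
        rw [aeval_C, Algebra.smul_def])
      rw [hC i, congrFun h0 i]; simp
    | succ N ih =>
      intro φ hdeg hsum
      have hsplit : ∀ j, aeval x (φ j) * b j =
          x * (aeval x (φ j).divX * b j) + (φ j).coeff 0 • b j := by
        intro j
        conv_lhs => rw [← X_mul_divX_add (φ j)]
        rw [map_add, map_mul, aeval_X, aeval_C, Algebra.smul_def]; ring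
      have hsum' : x * (∑ j, aeval x (φ j).divX * b j) + ∑ j, (φ j).coeff 0 • b j = 0 := by
        rw [Finset.mul_sum, ← Finset.sum_add_distrib, ← hsum]
        exact Finset.sum_congr rfl fun j _ => (hsplit j).symm
      have hm : (∑ j, aeval x (φ j).divX * b j) ∈ M :=
        sum_mem fun j _ => hmul _ _ (hb j)
      have h0 := hind (fun j => (φ j).coeff 0) _ (M.neg_mem hm)
        (by rw [mul_neg]; exact eq_neg_of_add_eq_zero_right hsum')
      have hdiv : ∀ i, (φ i).divX = 0 := by
        refine ih _ (fun j => ?_) ?_
        · rw [natDegree_divX_eq_natDegree_tsub_one]; have := hdeg j; omega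
        · rw [Finset.sum_eq_zero (s := Finset.univ) (f := fun j => (φ j).coeff 0 • b j)
            (fun j _ => by rw [congrFun h0 j]; simp), add_zero] at hsum'
          exact (mul_eq_zero.mp hsum').resolve_left hx0
      intro i
      rw [← X_mul_divX_add (φ i), hdiv i, congrFun h0 i]; simp
  rw [Fintype.linearIndependent_iff]
  intro c hc i
  have hrs : ∀ j, ∃ r s : k[X], s ≠ 0 ∧ (c j : K) = aeval x r / aeval x s := by
    intro j
    obtain ⟨r, s, h⟩ := (mem_adjoin_simple_iff k _).mp (c j).2
    rcases eq_or_ne s 0 with rfl | hs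
    · exact ⟨0, 1, one_ne_zero, by simpa using h⟩
    · exact ⟨r, s, hs, h⟩
  choose r s hs hcrs using hrs
  have hev : ∀ p : k[X], p ≠ 0 → aeval x p ≠ 0 := fun p hp h => hx ⟨p, hp, h⟩
  let φ : ι → k[X] := fun j => r j * ∏ l ∈ Finset.univ.erase j, s l
  have hφ : ∀ j, aeval x (φ j) = (∏ l, aeval x (s l)) * (c j : K) := by
    intro j
    rw [map_mul, map_prod, hcrs j, ← Finset.mul_prod_erase _ _ (Finset.mem_univ j)]
    field_simp [hev _ (hs j)]
  have hall := key (Finset.univ.sup fun j => (φ j).natDegree) φ
    (fun j => Finset.le_sup (f := fun j => (φ j).natDegree) (Finset.mem_univ j)) (by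
      simp only [hφ, mul_assoc, ← Finset.mul_sum]
      simp only [IntermediateField.smul_def, smul_eq_mul] at hc
      rw [hc, mul_zero])
  have hr : r i = 0 := (mul_eq_zero.mp (hall i)).resolve_right
    (Finset.prod_ne_zero_iff.mpr fun l _ => hs l)
  exact Subtype.ext (by simp [hcrs i, hr])

/-- The fundamental bound: a quotient of a `k[x]`-stable subspace of `K` killing `x • M` has
dimension at most `[K : k(x)]`. -/
theorem rank_le_of_surjective (hK : FunFld.IsFunctionField k K) {x : K} (hx : Transcendental k x)
    (M : Submodule k K) (hM : ∀ m ∈ M, x * m ∈ M) {V : Type w} [AddCommGroup V] [Module k V]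
    (f : M →ₗ[k] V) (hf : Function.Surjective f) (hker : ∀ m : M, f ⟨x * m, hM m m.2⟩ = 0) :
    Module.rank k V ≤ (Module.finrank (adjoin k ({x} : Set K)) K : ℕ) := by
  classical
  have := finiteDimensional_adjoin_transcendental hK hx
  refine rank_le fun s hs => ?_
  choose g hg using hf
  have hli : LinearIndependent (adjoin k ({x} : Set K)) (fun i : s => (g i : K)) := by
    refine linearIndependent_adjoin_of_mod hx M hM _ (fun i => (g i).2) fun c m hm heq => ?_
    have heq' : ∑ i : s, c i • g i = (⟨x * m, hM m hm⟩ : M) := by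
      refine Subtype.ext ?_
      simpa using heq
    have h2 : ∑ i : s, c i • (i : V) = 0 := by
      have := congrArg f heq'
      rw [map_sum, hker ⟨m, hm⟩] at this
      simpa [hg] using this
    exact funext fun i => Fintype.linearIndependent_iff.mp hs c h2 i
  simpa using hli.fintype_card_le_finrank

theorem finite_and_finrank_le_of_surjective (hK : FunFld.IsFunctionField k K) {x : K}
    (hx : Transcendental k x)
    (M : Submodule k K) (hM : ∀ m ∈ M, x * m ∈ M) {V : Type w} [AddCommGroup V] [Module k V]
    (f : M →ₗ[k] V) (hf : Function.Surjective f) (hker : ∀ m : M, f ⟨x * m, hM m m.2⟩ = 0) :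
    FiniteDimensional k V ∧
      Module.finrank k V ≤ Module.finrank (adjoin k ({x} : Set K)) K := by
  have h := rank_le_of_surjective hK hx M hM f hf hker
  exact ⟨Module.rank_lt_aleph0_iff.mp (h.trans_lt (Cardinal.natCast_lt_aleph0)),
    Module.finrank_le_of_rank_le h⟩

end Groth.Agent.Lib.FunFld.Bound
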