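import Groth.Agent.Lib.FunFld.Gaps
import Groth.Agent.Lib.FunFld.Hasse.Wdiv

/-! Fixed places of automorphisms. -/

namespace Groth.Agent.Lib.FunFld.Auto

open WithZero
open Groth.Agent.Lib.FunFld

universe u v
variable {k : Type u} {K : Type v} [Field k] [Field K] [Algebra k K]

/-- The place `P ∘ σ`. -/
noncomputable def pull (P : _root_.FunFld.Place k K) (σ : K ≃ₐ[k] K) : _root_.FunFld.Place k K :=
  ⟨P.1.comap (σ : K →+* K), fun c => by
    change P.1 (σ (algebraMap k K c)) ≤ 1
    rw [σ.commutes]; exact P.2.1 c, fun x => by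
    obtain ⟨z, hz⟩ := P.2.2 x
    exact ⟨σ.symm z, by change P.1 (σ (σ.symm z)) = x; rw [σ.apply_symm_apply]; exact hz⟩⟩

theorem pull_apply (P : _root_.FunFld.Place k K) (σ : K ≃ₐ[k] K) (z : K) :
    (pull P σ).1 z = P.1 (σ z) := rfl

theorem pull_pull (P : _root_.FunFld.Place k K) (σ τ : K ≃ₐ[k] K) :
    pull (pull P σ) τ = pull P (σ * τ) :=
  Place.place_ext_of_le_iff fun _ => Iff.rfl

theorem pull_one (P : _root_.FunFld.Place k K) : pull P 1 = P :=
  Place.place_ext_of_le_iff fun _ => Iff.rfl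

theorem eq_of_lt_imp_lt {P Q : _root_.FunFld.Place k K} (h : ∀ z, P.1 z < 1 → Q.1 z < 1) : P = Q := by
  refine Place.place_ext_of_le_iff fun x => ⟨fun hx => ?_, fun hx => ?_⟩
  · by_contra hne
    rw [not_le] at hne
    obtain ⟨t, -, ht⟩ := Place.exists_uniformizer P
    obtain ⟨m, hm⟩ : ∃ m : ℕ, Q.1 t * Q.1 x ^ m ≥ 1 := by
      have ht0 : Q.1 t ≠ 0 := (Valuation.ne_zero_iff _).mpr fun h0 => by
        rw [h0, map_zero] at ht; exact exp_ne_zero ht.symm
      have hx0 : Q.1 x ≠ 0 := fun h0 => by rw [h0] at hne; simp at hne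
      refine ⟨(log (Q.1 t)).natAbs, ?_⟩
      generalize Q.1 t = a at ht0 ⊢
      generalize Q.1 x = b at hne hx0 ⊢
      rw [← exp_log hx0, ← exp_zero, exp_lt_exp] at hne
      rw [← exp_log ht0, ← exp_log hx0, ← exp_nsmul, ← exp_add, ← exp_zero, ge_iff_le, exp_le_exp,
        nsmul_eq_mul]
      simp only [log_exp]
      have h1 : ((log a).natAbs : ℤ) * 1 ≤ (log a).natAbs * log b :=
        mul_le_mul_of_nonneg_left (by omega) (by positivity)
      omega
    have hlt : P.1 (t * x ^ m) < 1 := by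
      rw [map_mul, map_pow]
      refine lt_of_le_of_lt (mul_le_of_le_one_right' (pow_le_one' hx m)) ?_
      rw [ht, ← exp_zero, exp_lt_exp]; norm_num
    have := h _ hlt
    rw [map_mul, map_pow] at this
    exact absurd hm (not_le.mpr this)
  · by_contra hne
    rw [not_le] at hne
    have h1 : P.1 x⁻¹ < 1 := by rw [map_inv₀]; exact inv_lt_one_of_one_lt₀ hne
    have h2 := h _ h1
    rw [map_inv₀] at h2
    rcases eq_or_ne (Q.1 x) 0 with h0 | h0
    · rw [Valuation.zero_iff] at h0
      simp [h0] at hne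
    · exact absurd ((inv_lt_one₀ (zero_lt_iff.mpr h0)).mp h2) (not_lt.mpr hx)

theorem isFixedPt_iff (σ : K ≃ₐ[k] K) (P : _root_.FunFld.Place k K) :
    _root_.FunFld.IsFixedPt (σ : K →ₐ[k] K) P ↔ pull P σ = P := by
  refine ⟨fun h => (eq_of_lt_imp_lt fun z hz => h z hz).symm, fun h z hz => ?_⟩
  rw [← h] at hz
  exact hz

theorem injective_placeOf [IsAlgClosed k] (hK : FunFld.IsFunctionField k K) :
    Infinite (_root_.FunFld.Place k K) := by
  obtain ⟨x, hx⟩ := Riemann.exists_transcendental hK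
  have hc : ∀ c : k, Transcendental k (x - algebraMap k K c) := fun c h => hx (by
    simpa using h.add (isAlgebraic_algebraMap c))
  choose P hP using fun c : k => Existence.exists_zero hK (hc c)
  refine Infinite.of_injective P fun a b hab => ?_
  by_contra hne
  have h1 := (Place.val_lt_one_iff (P a)).mpr (Or.inr (hP a))
  have h2 := (Place.val_lt_one_iff (P b)).mpr (Or.inr (hP b))
  rw [← hab] at h2
  have h3 := (P a).1.map_sub_lt h2 h1
  rw [show x - algebraMap k K b - (x - algebraMap k K a) = algebraMap k K (a - b) by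
    rw [map_sub]; ring, Place.val_algebraMap (P a) (sub_ne_zero.mpr hne)] at h3
  exact lt_irrefl _ h3

theorem val_sub_lt_one [IsAlgClosed k] (hK : FunFld.IsFunctionField k K) {σ : K ≃ₐ[k] K}
    {P : _root_.FunFld.Place k K} (hfix : pull P σ = P) {z : K} (hz : P.1 z ≤ 1) :
    P.1 (z - σ z) < 1 := by
  obtain ⟨c, hc⟩ := Hasse.Param.isDegOne hK P z hz
  have h2 : P.1 (σ z - algebraMap k K c) < 1 := by
    have h := hc
    rw [← hfix, pull_apply, map_sub, σ.commutes] at h
    exact h
  have := P.1.map_sub_lt hc h2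
  rwa [sub_sub_sub_cancel_right] at this

/-- A function whose difference with its image is small has few fixed places. -/
theorem card_fixed_le [IsAlgClosed k] (hK : FunFld.IsFunctionField k K) (σ : K ≃ₐ[k] K) {f : K}
    (hf : f ≠ σ f) {S : Finset (_root_.FunFld.Place k K)}
    (hS : ∀ P ∈ S, pull P σ = P ∧ P.1 f ≤ 1) {B : _root_.FunFld.Divisor k K}
    (hB : f - σ f ∈ FunFld.L B) : ((S.card : ℤ)) ≤ B.deg + ∑ P ∈ S, max 0 (-(B P)) := by
  classical
  set h := f - σ f
  have hh : h ≠ 0 := sub_ne_zero.mpr hf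
  set D : _root_.FunFld.Divisor k K := ∑ P ∈ S, Finsupp.single P (1 + B P - max 0 (-(B P)) - B P)
  have hle : D ≤ FunFld.div k h + B := Finsupp.le_def.mpr fun Q => by
    rw [Finsupp.finsetSum_apply, Finsupp.add_apply, Degree.div_apply hK]
    have h1 := hB Q
    rw [Place.val_eq_exp Q hh, exp_le_exp] at h1
    by_cases hQ : Q ∈ S
    · rw [Finset.sum_eq_single Q (fun x _ hx => Finsupp.single_eq_of_ne hx.symm) (fun h => absurd hQ h),
        Finsupp.single_eq_same]
      have h2 := val_sub_lt_one hK (hS Q hQ).1 (hS Q hQ).2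
      rw [Place.val_eq_exp Q hh, ← exp_zero, exp_lt_exp] at h2
      omega
    · rw [Finset.sum_eq_zero fun x hx => Finsupp.single_eq_of_ne (fun e => hQ (by rwa [e]))]
      omega
  have h3 := Degree.deg_mono hle
  rw [Degree.deg_add, Degree.deg_div hK, zero_add] at h3
  have h4 : D.deg = ∑ P ∈ S, (1 - max 0 (-(B P))) := by
    simp only [D]
    have hadd : _root_.FunFld.Divisor.deg (∑ P ∈ S, Finsupp.single P (1 + B P - max 0 (-(B P)) - B P)) =
        ∑ P ∈ S, _root_.FunFld.Divisor.deg (Finsupp.single P (1 + B P - max 0 (-(B P)) - B P)) :=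
      map_sum (_root_.FunFld.degHom k K) _ S
    rw [hadd]
    refine Finset.sum_congr rfl fun P _ => ?_
    rw [Degree.deg_single, Hasse.Wdiv.deg_eq_one hK]
    push_cast
    ring
  rw [h4, Finset.sum_sub_distrib, Finset.sum_const, nsmul_eq_mul, mul_one] at h3
  linarith

/-- An automorphism with more than `2g+2` fixed places is the identity. -/
theorem eq_one_of_fixed [IsAlgClosed k] (hK : FunFld.IsFunctionField k K) (σ : K ≃ₐ[k] K)
    {S : Finset (_root_.FunFld.Place k K)} (hS : ∀ P ∈ S, pull P σ = P)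
    (hcard : 2 * _root_.FunFld.genus k K + 2 < S.card) : σ = 1 := by
  classical
  by_contra hne
  obtain ⟨z, hz⟩ : ∃ z : K, z ≠ σ z := by
    by_contra! h
    exact hne (AlgEquiv.ext fun z => (h z).symm)
  obtain ⟨Q, hQ⟩ : ∃ Q : _root_.FunFld.Place k K, pull Q σ ≠ Q := by
    by_contra! hall
    have hinf := injective_placeOf hK
    set T := (Degree.poleDiv (k := k) z).support
    set Z := (FunFld.div k (z - σ z)).support
    obtain ⟨P, hP⟩ := Finset.exists_notMem (T ∪ Z)
    rw [Finset.mem_union, not_or, Finsupp.notMem_support_iff, Finsupp.notMem_support_iff,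
      Degree.poleDiv_apply hK, Degree.div_apply hK] at hP
    have h1 := val_sub_lt_one hK (hall P) ((Place.val_le_one_iff P (x := z)).mpr (by omega))
    rw [Place.val_eq_exp P (sub_ne_zero.mpr hz), hP.2, neg_zero, exp_zero] at h1
    exact lt_irrefl _ h1
  have hQ1 := Hasse.Wdiv.deg_eq_one hK Q
  obtain ⟨m, hm1, hm2, hm⟩ : ∃ m, 1 ≤ m ∧ m ≤ _root_.FunFld.genus k K + 1 ∧ Gaps.IsPole Q m := by
    by_contra! h
    have h1 := Gaps.card_gapsTo_le hK hQ1 (_root_.FunFld.genus k K + 1)
    have h2 : Gaps.gapsTo Q (_root_.FunFld.genus k K + 1) = Finset.Icc 1 (_root_.FunFld.genus k K + 1) := by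
      ext x
      rw [Gaps.mem_gapsTo, Finset.mem_Icc]
      exact ⟨fun hx => hx.1, fun hx => ⟨hx, h x hx.1 hx.2⟩⟩
    rw [h2, Nat.card_Icc] at h1
    omega
  obtain ⟨f, hf, hf'⟩ := hm
  have hbig : 1 < Q.1 f := by rw [hf, ← exp_zero, exp_lt_exp]; omega
  set Q' := pull Q σ.symm
  have hσf : f ≠ σ f := fun e => by
    refine absurd (hf' _ hQ) (not_le.mpr ?_)
    rw [pull_apply, ← e]
    exact hbig
  have hB : f - σ f ∈ FunFld.L (Finsupp.single Q (m : ℤ) + Finsupp.single Q' (m : ℤ)) := by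
    refine sub_mem (Degree.L_mono (le_add_of_nonneg_right (Finsupp.single_nonneg.mpr (by positivity)))
      ((Gaps.mem_L_single Q).mpr ⟨hf.le, hf'⟩))
      (Degree.L_mono (le_add_of_nonneg_left (Finsupp.single_nonneg.mpr (by positivity))) ?_)
    refine (Gaps.mem_L_single Q').mpr ⟨?_, fun R hR => ?_⟩
    · rw [pull_apply, σ.symm_apply_apply]; exact hf.le
    · rw [← pull_apply]
      refine hf' _ fun e => hR ?_
      rw [show Q' = pull (pull R σ) σ.symm by rw [e], pull_pull, show σ * σ.symm = 1 from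
        AlgEquiv.ext σ.apply_symm_apply, pull_one]
  have hS' : ∀ P ∈ S, pull P σ = P ∧ P.1 f ≤ 1 := fun P hP =>
    ⟨hS P hP, hf' P fun e => hQ (e ▸ hS P hP)⟩
  have h := card_fixed_le hK σ hσf hS' hB
  rw [Degree.deg_add, Degree.deg_single, Degree.deg_single, hQ1, Hasse.Wdiv.deg_eq_one hK,
    Finset.sum_eq_zero fun P _ => ?_] at h
  · omega
  · rw [max_eq_left]
    simp only [Finsupp.add_apply, Left.neg_nonpos_iff]
    exact add_nonneg (show (0 : ℤ) ≤ Finsupp.single Q (m : ℤ) P by
      rw [Finsupp.single_apply]; split_ifs <;> omega)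
      (show (0 : ℤ) ≤ Finsupp.single Q' (m : ℤ) P by rw [Finsupp.single_apply]; split_ifs <;> omega)

end Groth.Agent.Lib.FunFld.Auto
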