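import Groth.Agent.Lib.FunFld.Weil

/-! Pole numbers and gaps at a place of degree one. -/

namespace Groth.Agent.Lib.FunFld.Gaps

open WithZero
open Groth.Agent.Lib.FunFld

universe u v
variable {k : Type u} {K : Type v} [Field k] [Field K] [Algebra k K]
  (P : _root_.FunFld.Place k K)

/-- `m` is a pole number at `P`. -/
def IsPole (m : ℕ) : Prop :=
  ∃ f : K, P.1 f = exp (m : ℤ) ∧ ∀ Q, Q ≠ P → Q.1 f ≤ 1

theorem isPole_zero : IsPole P 0 :=
  ⟨1, by rw [map_one, Nat.cast_zero, exp_zero], fun Q _ => (map_one Q.1).le⟩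

theorem isPole_add {a b : ℕ} (ha : IsPole P a) (hb : IsPole P b) : IsPole P (a + b) := by
  obtain ⟨f, hf, hf'⟩ := ha
  obtain ⟨g, hg, hg'⟩ := hb
  refine ⟨f * g, by rw [map_mul, hf, hg, ← exp_add, Nat.cast_add], fun Q hQ => ?_⟩
  rw [map_mul]
  exact mul_le_one' (hf' Q hQ) (hg' Q hQ)

theorem mem_L_single {n : ℤ} {f : K} :
    f ∈ _root_.FunFld.L (Finsupp.single P n) ↔ P.1 f ≤ exp n ∧ ∀ Q, Q ≠ P → Q.1 f ≤ 1 := by
  constructor
  · intro h
    refine ⟨by simpa using h P, fun Q hQ => ?_⟩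
    simpa [Finsupp.single_eq_of_ne hQ] using h Q
  · rintro ⟨h1, h2⟩ Q
    rcases eq_or_ne Q P with rfl | hQ
    · rwa [Finsupp.single_eq_same]
    · rw [Finsupp.single_eq_of_ne hQ, exp_zero]; exact h2 Q hQ

theorem L_eq_iff (m : ℕ) :
    _root_.FunFld.L (Finsupp.single P (m : ℤ)) = _root_.FunFld.L (Finsupp.single P ((m : ℤ) - 1)) ↔
      ¬ IsPole P m := by
  constructor
  · rintro h ⟨f, hf, hf'⟩
    have hm : f ∈ _root_.FunFld.L (Finsupp.single P (m : ℤ)) := (mem_L_single P).mpr ⟨hf.le, hf'⟩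
    rw [h, mem_L_single, hf, exp_le_exp] at hm
    omega
  · intro h
    refine le_antisymm (fun f hf => ?_) (Degree.L_mono (Finsupp.single_mono (by omega)))
    obtain ⟨hf, hf'⟩ := (mem_L_single P).mp hf
    refine (mem_L_single P).mpr ⟨?_, hf'⟩
    refine (Place.val_le_exp_iff P).mpr ?_
    rcases (Place.val_le_exp_iff P).mp hf with rfl | h1
    · exact Or.inl rfl
    rcases eq_or_ne f 0 with rfl | hf0
    · exact Or.inl rfl
    refine Or.inr ?_
    have : P.ord f ≠ -(m : ℤ) := fun he => h ⟨f, by rw [Place.val_eq_exp P hf0, he, neg_neg], hf'⟩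
    omega

open scoped Classical in
/-- The gaps up to `n`. -/
noncomputable def gapsTo (n : ℕ) : Finset ℕ := (Finset.Icc 1 n).filter fun m => ¬ IsPole P m

theorem mem_gapsTo {n m : ℕ} : m ∈ gapsTo P n ↔ (1 ≤ m ∧ m ≤ n) ∧ ¬ IsPole P m := by
  classical
  rw [gapsTo, Finset.mem_filter, Finset.mem_Icc]

theorem gapsTo_mono {a b : ℕ} (h : a ≤ b) : gapsTo P a ⊆ gapsTo P b := fun m hm => by
  rw [mem_gapsTo] at hm ⊢
  exact ⟨⟨hm.1.1, hm.1.2.trans h⟩, hm.2⟩

theorem ncard_eq (n : ℕ) :
    Set.ncard {m : ℕ | 1 ≤ m ∧ m ≤ n ∧ _root_.FunFld.L (Finsupp.single P (m : ℤ)) =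
      _root_.FunFld.L (Finsupp.single P ((m : ℤ) - 1))} = (gapsTo P n).card := by
  rw [← Set.ncard_coe_finset]
  congr 1
  ext m
  rw [Set.mem_ofPred_eq, Finset.mem_coe, mem_gapsTo, L_eq_iff, and_assoc]

/-- Gaps are at most twice their index. -/
theorem succ_le_two_mul_card {γ : ℕ} (h : ¬ IsPole P γ) : γ + 1 ≤ 2 * (gapsTo P γ).card := by
  classical
  set S := (Finset.range (γ + 1)).filter fun m => IsPole P m
  have hG : gapsTo P γ = (Finset.range (γ + 1)).filter fun m => ¬ IsPole P m := by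
    ext m
    rw [mem_gapsTo, Finset.mem_filter, Finset.mem_range]
    refine ⟨fun ⟨⟨_, h2⟩, h3⟩ => ⟨by omega, h3⟩, fun ⟨h1, h2⟩ => ⟨⟨?_, by omega⟩, h2⟩⟩
    by_contra h0
    exact h2 (by rw [show m = 0 by omega]; exact isPole_zero P)
  have htot : S.card + (gapsTo P γ).card = γ + 1 := by
    rw [hG, Finset.card_filter_add_card_filter_not, Finset.card_range]
  have hle : S.card ≤ (gapsTo P γ).card := by
    refine Finset.card_le_card_of_injOn (fun a => γ - a) (fun a ha => ?_) fun a ha b hb hab => ?_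
    · simp only [S, Finset.coe_filter, Finset.mem_range, Set.mem_ofPred_eq] at ha
      rw [hG]
      simp only [Finset.coe_filter, Finset.mem_range, Set.mem_ofPred_eq]
      refine ⟨by omega, fun hp => h ?_⟩
      have := isPole_add P ha.2 hp
      rwa [Nat.add_sub_cancel' (by omega)] at this
    · simp only [S, Finset.coe_filter, Finset.mem_range, Set.mem_ofPred_eq] at ha hb
      change γ - a = γ - b at hab
      omega
  omega

variable {P}

theorem ell_add_card (hK : FunFld.IsFunctionField k K) (hP : P.deg = 1) (n : ℕ) :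
    _root_.FunFld.ell (Finsupp.single P (n : ℤ)) + (gapsTo P n).card = n + 1 := by
  classical
  induction n with
  | zero =>
    rw [Nat.cast_zero, Finsupp.single_zero, Degree.ell_zero hK]
    simp [gapsTo]
  | succ n ih =>
    have := Degree.finiteDimensional_L hK (Finsupp.single P ((n + 1 : ℕ) : ℤ))
    have hstep := Degree.ell_sub_ell_le hK (D₁ := Finsupp.single P (n : ℤ))
      (D₂ := Finsupp.single P ((n + 1 : ℕ) : ℤ)) (Finsupp.single_mono (by omega))
    rw [Degree.deg_single, Degree.deg_single, hP] at hstep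
    have hI : gapsTo P (n + 1) = if IsPole P (n + 1) then gapsTo P n else insert (n + 1) (gapsTo P n) := by
      ext m
      rw [mem_gapsTo]
      split_ifs with h
      · rw [mem_gapsTo]
        exact ⟨fun ⟨⟨a, b⟩, c⟩ => ⟨⟨a, Nat.lt_succ_iff.mp (lt_of_le_of_ne b fun e => c (e ▸ h))⟩, c⟩,
          fun ⟨⟨a, b⟩, c⟩ => ⟨⟨a, by omega⟩, c⟩⟩
      · rw [Finset.mem_insert, mem_gapsTo]
        exact ⟨fun ⟨⟨a, b⟩, c⟩ => (eq_or_lt_of_le b).imp id fun b' => ⟨⟨a, by omega⟩, c⟩,
          fun h' => h'.elim (fun e => ⟨⟨by omega, e.le⟩, e ▸ h⟩) fun ⟨⟨a, b⟩, c⟩ => ⟨⟨a, by omega⟩, c⟩⟩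
    by_cases h : IsPole P (n + 1)
    · have hlt : _root_.FunFld.L (Finsupp.single P (n : ℤ)) <
          _root_.FunFld.L (Finsupp.single P ((n + 1 : ℕ) : ℤ)) := by
        refine lt_of_le_of_ne (Degree.L_mono (Finsupp.single_mono (by omega))) fun he => ?_
        refine (L_eq_iff P (n + 1)).mp ?_ h
        rw [← he]
        push_cast
        rw [add_sub_cancel_right]
      have h1 := Submodule.finrank_lt_finrank_of_lt hlt
      rw [hI, if_pos h]
      simp only [_root_.FunFld.ell] at hstep ih ⊢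
      omega
    · have he : _root_.FunFld.L (Finsupp.single P ((n + 1 : ℕ) : ℤ)) =
          _root_.FunFld.L (Finsupp.single P (n : ℤ)) := by
        rw [(L_eq_iff P (n + 1)).mpr h]
        push_cast
        rw [add_sub_cancel_right]
      rw [hI, if_neg h, Finset.card_insert_of_notMem (by rw [mem_gapsTo]; omega)]
      simp only [_root_.FunFld.ell] at ih ⊢
      rw [he]
      omega

theorem card_eq_genus (hK : FunFld.IsFunctionField k K) (hP : P.deg = 1) {n : ℕ}
    (hn : 2 * _root_.FunFld.genus k K ≤ n + 1) : (gapsTo P n).card = _root_.FunFld.genus k K := by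
  have h1 := ell_add_card hK hP n
  have h2 := Weil.ell_eq_of_deg_ge hK (D := Finsupp.single P (n : ℤ))
    (by rw [Degree.deg_single, hP]; omega)
  rw [Degree.deg_single, hP] at h2
  omega

theorem isPole_of_two_mul_le (hK : FunFld.IsFunctionField k K) (hP : P.deg = 1) {m : ℕ}
    (hm : 2 * _root_.FunFld.genus k K ≤ m) : IsPole P m := by
  by_contra h
  have hpos : 1 ≤ m := Nat.one_le_iff_ne_zero.mpr fun h0 => h (h0 ▸ isPole_zero P)
  have h1 := card_eq_genus hK hP (n := m) (by omega)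
  have h2 := card_eq_genus hK hP (n := m - 1) (by omega)
  have h3 : insert m (gapsTo P (m - 1)) ⊆ gapsTo P m := Finset.insert_subset
    ((mem_gapsTo P).mpr ⟨⟨hpos, le_rfl⟩, h⟩) (gapsTo_mono P (by omega))
  have h4 := Finset.card_le_card h3
  rw [Finset.card_insert_of_notMem (by rw [mem_gapsTo]; omega)] at h4
  omega

theorem card_gapsTo_le (hK : FunFld.IsFunctionField k K) (hP : P.deg = 1) (n : ℕ) :
    (gapsTo P n).card ≤ _root_.FunFld.genus k K :=
  (Finset.card_le_card (gapsTo_mono P (Nat.le_max_left n (2 * _root_.FunFld.genus k K)))).trans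
    (card_eq_genus hK hP (by omega)).le

/-- Below `n` there are many gaps, unless all gaps are there. -/
theorem le_two_mul_card (hK : FunFld.IsFunctionField k K) (hP : P.deg = 1) (n : ℕ) :
    (gapsTo P n).card = _root_.FunFld.genus k K ∨ n ≤ 2 * (gapsTo P n).card := by
  classical
  by_cases h : ∃ m, n < m ∧ ¬ IsPole P m
  · right
    obtain ⟨hlt, hgap⟩ := Nat.find_spec h
    have h1 := succ_le_two_mul_card P hgap
    have h2 : gapsTo P (Nat.find h) ⊆ insert (Nat.find h) (gapsTo P n) := fun m hm => by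
      rw [mem_gapsTo] at hm
      rw [Finset.mem_insert, mem_gapsTo]
      rcases eq_or_lt_of_le hm.1.2 with he | hl
      · exact Or.inl he
      · refine Or.inr ⟨⟨hm.1.1, not_lt.mp fun hnm => ?_⟩, hm.2⟩
        exact Nat.find_min h hl ⟨hnm, hm.2⟩
    have h3 := (Finset.card_le_card h2).trans (Finset.card_insert_le _ _)
    omega
  · left
    simp only [not_exists, not_and, not_not] at h
    refine le_antisymm (card_gapsTo_le hK hP n) ?_
    rw [← card_eq_genus hK hP (n := max n (2 * _root_.FunFld.genus k K)) (by omega)]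
    refine Finset.card_le_card fun m hm => ?_
    rw [mem_gapsTo] at hm ⊢
    exact ⟨⟨hm.1.1, not_lt.mp fun hl => hm.2 (h m hl)⟩, hm.2⟩

theorem sum_le_sq (G : Finset ℕ) (h : ∀ γ ∈ G, γ + 1 ≤ 2 * (G.filter (· ≤ γ)).card) :
    ∑ γ ∈ G, γ ≤ G.card ^ 2 := by
  classical
  induction G using Finset.induction_on_max with
  | empty => simp
  | insert a s hlt ih =>
    have hnot : a ∉ s := fun ha => lt_irrefl a (hlt a ha)
    have h1 := h a (Finset.mem_insert_self a s)
    rw [Finset.filter_true_of_mem (fun x hx => (Finset.mem_insert.mp hx).elim (fun e => e.le)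
      fun hx => (hlt x hx).le), Finset.card_insert_of_notMem hnot] at h1
    have h2 := ih fun γ hγ => by
      have := h γ (Finset.mem_insert_of_mem hγ)
      rwa [Finset.filter_insert, if_neg (not_le.mpr (hlt γ hγ))] at this
    rw [Finset.sum_insert hnot, Finset.card_insert_of_notMem hnot]
    nlinarith

theorem sum_gapsTo_le (hK : FunFld.IsFunctionField k K) (hP : P.deg = 1) (n : ℕ) :
    ∑ γ ∈ gapsTo P n, γ ≤ _root_.FunFld.genus k K ^ 2 := by
  classical
  refine (sum_le_sq _ fun γ hγ => ?_).trans (Nat.pow_le_pow_left (card_gapsTo_le hK hP n) 2)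
  rw [mem_gapsTo] at hγ
  refine (succ_le_two_mul_card P hγ.2).trans (Nat.mul_le_mul_left 2 (Finset.card_le_card fun m hm => ?_))
  rw [mem_gapsTo] at hm
  rw [Finset.mem_filter, mem_gapsTo]
  exact ⟨⟨⟨hm.1.1, hm.1.2.trans hγ.1.2⟩, hm.2⟩, hm.1.2⟩

end Groth.Agent.Lib.FunFld.Gaps
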