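import Groth.Agent.Lib.FunFld.SmallGenus
import Groth.Agent.Lib.FunFld.Gaps
import Mathlib.FieldTheory.Relrank

/-! Weierstrass functions on a function field of genus one. -/

namespace Groth.Agent.Lib.FunFld.Elliptic

open WithZero IntermediateField
open Groth.Agent.Lib.FunFld.Place Groth.Agent.Lib.FunFld.Degree Groth.Agent.Lib.FunFld.Existence

variable {k K : Type*} [Field k] [Field K] [Algebra k K]

local notation "Pl" => _root_.FunFld.Place k K
local notation "Dv" => _root_.FunFld.Divisor k K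

/-- Nonzero functions with distinct orders at a place are independent. -/
theorem linearIndependent_of_ord {ι : Type*} [Fintype ι] (P : Pl) (v : ι → K) (hv : ∀ i, v i ≠ 0)
    (h : Function.Injective fun i => P.ord (v i)) : LinearIndependent k v := by
  classical
  rw [Fintype.linearIndependent_iff]
  intro c hc
  by_contra hne
  simp only [not_forall] at hne
  obtain ⟨i₀, hi₀⟩ := hne
  obtain ⟨j, hj, hmin⟩ := (Finset.univ.filter fun i => c i ≠ 0).exists_min_image
    (fun i => P.ord (v i)) ⟨i₀, by simp [hi₀]⟩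
  simp only [Finset.mem_filter, Finset.mem_univ, true_and] at hj hmin
  have hvj : c j • v j ≠ 0 := smul_ne_zero hj (hv j)
  have key : P.1 (∑ i, c i • v i) = P.1 (c j • v j) := by
    refine P.1.map_sum_eq_of_lt (Finset.mem_univ j) fun i hi => ?_
    simp only [Finset.mem_sdiff, Finset.mem_singleton] at hi
    rcases eq_or_ne (c i) 0 with h0 | h0
    · rw [h0, zero_smul, map_zero]; exact zero_lt_iff.mpr (P.1.ne_zero_iff.mpr hvj)
    · rw [val_eq_exp P hvj, val_eq_exp P (smul_ne_zero h0 (hv i)), exp_lt_exp, ord_smul P hj,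
        ord_smul P h0]
      have h1 := hmin i h0
      have h2 : P.ord (v i) ≠ P.ord (v j) := fun he => hi.2 (h he)
      omega
  rw [hc, map_zero] at key
  exact P.1.ne_zero_iff.mpr hvj key.symm

theorem ne_zero_of_ord (P : Pl) {f : K} (h : P.ord f ≠ 0) : f ≠ 0 := by
  rintro rfl; exact h (by simp [FunFld.Place.ord])

/-- A function with an `n`-fold pole at `P` and no other has degree `n · deg P`. -/
theorem finrank_adjoin (hK : FunFld.IsFunctionField k K) {P : Pl} {x : K} {n : ℕ} (hn : 0 < n)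
    (hx : x ∈ _root_.FunFld.L (Finsupp.single P (n : ℤ))) (ho : P.ord x = -(n : ℤ)) :
    Module.finrank (adjoin k ({x} : Set K)) K = n * P.deg := by
  have ht := transcendental_of_ord_ne_zero hK P (x := x) (by omega)
  have hp : poleDiv (k := k) x = Finsupp.single P (n : ℤ) := by
    refine Finsupp.ext fun Q => ?_
    rw [poleDiv_apply hK]
    rcases eq_or_ne Q P with rfl | hQ
    · rw [ho, Finsupp.single_eq_same]; omega
    · have := ((mem_L_iff_ord).mp hx).resolve_left (ne_zero_of_ord P (by omega)) Q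
      rw [Finsupp.single_eq_of_ne hQ] at this ⊢
      omega
  have := deg_poleDiv hK ht
  rw [hp, deg_single] at this
  exact_mod_cast this.symm

theorem pow_mem_L {P : Pl} {f : K} {n : ℕ} (hf : f ∈ _root_.FunFld.L (Finsupp.single P (n : ℤ)))
    (i : ℕ) {m : ℕ} (h : n * i ≤ m) : f ^ i ∈ _root_.FunFld.L (Finsupp.single P (m : ℤ)) := by
  rw [Gaps.mem_L_single] at hf ⊢
  refine ⟨?_, fun Q hQ => by rw [map_pow]; exact pow_le_one' (hf.2 Q hQ) i⟩
  rw [map_pow]
  refine (pow_le_pow_left' hf.1 i).trans ?_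
  rw [← exp_nsmul, exp_le_exp, nsmul_eq_mul]
  exact_mod_cast (mul_comm n i).symm.trans_le h

theorem mul_mem_L {P : Pl} {f g : K} {a b c : ℤ} (hf : f ∈ _root_.FunFld.L (Finsupp.single P a))
    (hg : g ∈ _root_.FunFld.L (Finsupp.single P b)) (h : a + b ≤ c) :
    f * g ∈ _root_.FunFld.L (Finsupp.single P c) := by
  rw [Gaps.mem_L_single] at hf hg ⊢
  refine ⟨?_, fun Q hQ => by rw [map_mul]; exact mul_le_one' (hf.2 Q hQ) (hg.2 Q hQ)⟩
  rw [map_mul]
  refine (mul_le_mul' hf.1 hg.1).trans ?_
  rwa [← exp_add, exp_le_exp]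

/-- The standard basis `fⁱ, fⁱ g` of `L(nP)`. -/
def fam (f g : K) (n : ℕ) : Fin (n / 2 + 1) ⊕ Fin ((n - 1) / 2) → K :=
  Sum.elim (fun i => f ^ (i : ℕ)) (fun i => f ^ (i : ℕ) * g)

theorem fam_spec (hK : FunFld.IsFunctionField k K) (hgen : _root_.FunFld.genus k K = 1) {P : Pl}
    (hP : P.deg = 1) {f g : K} (hf : f ∈ _root_.FunFld.L (Finsupp.single P 2)) (hf2 : P.ord f = -2)
    (hg : g ∈ _root_.FunFld.L (Finsupp.single P 3)) (hg3 : P.ord g = -3) {n : ℕ} (hn : 2 ≤ n) :
    LinearIndependent k (fam f g n) ∧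
      Submodule.span k (Set.range (fam f g n)) = _root_.FunFld.L (Finsupp.single P (n : ℤ)) := by
  have hf0 := ne_zero_of_ord P (f := f) (by omega)
  have hg0 := ne_zero_of_ord P (f := g) (by omega)
  have ho : ∀ i, P.ord (fam f g n i) = Sum.elim (fun i : Fin (n / 2 + 1) => -2 * (i : ℤ))
      (fun i : Fin ((n - 1) / 2) => -2 * (i : ℤ) - 3) i := by
    rintro (i | i)
    · simp only [fam, Sum.elim_inl, ord_pow, hf2]; ring
    · simp only [fam, Sum.elim_inr, ord_mul P (pow_ne_zero _ hf0) hg0, ord_pow, hf2, hg3]; ring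
  have hli : LinearIndependent k (fam f g n) := by
    refine linearIndependent_of_ord P _ ?_ fun a b hab => ?_
    · rintro (i | i)
      · exact pow_ne_zero _ hf0
      · exact mul_ne_zero (pow_ne_zero _ hf0) hg0
    · simp only [ho] at hab
      rcases a with a | a <;> rcases b with b | b <;> simp only [Sum.elim_inl, Sum.elim_inr] at hab
      · exact congrArg Sum.inl (Fin.ext (by omega))
      · omega
      · omega
      · exact congrArg Sum.inr (Fin.ext (by omega))
  refine ⟨hli, ?_⟩
  have := finiteDimensional_L hK (Finsupp.single P (n : ℤ))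
  refine Submodule.eq_of_le_of_finrank_le (Submodule.span_le.mpr ?_) ?_
  · rintro _ ⟨i | i, rfl⟩
    · exact pow_mem_L (n := 2) hf i (by omega)
    · exact mul_mem_L (pow_mem_L (n := 2) hf i (m := n - 3) (by omega)) hg
        (by have := i.2; omega)
  · rw [finrank_span_eq_card hli, Fintype.card_sum, Fintype.card_fin, Fintype.card_fin]
    have := SmallGenus.ell_genus_one hK hgen (D := Finsupp.single P (n : ℤ))
      (by rw [deg_single, hP]; omega)
    rw [deg_single, hP] at this
    unfold _root_.FunFld.ell at this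
    omega

/-- Functions of pole orders `2` and `3`. -/
theorem exists_ord (hK : FunFld.IsFunctionField k K) (hgen : _root_.FunFld.genus k K = 1) {P : Pl}
    (hP : P.deg = 1) {n : ℕ} (hn : 2 ≤ n) :
    ∃ f : K, f ∈ _root_.FunFld.L (Finsupp.single P (n : ℤ)) ∧ P.ord f = -(n : ℤ) := by
  have h1 := SmallGenus.ell_genus_one hK hgen (D := Finsupp.single P (n : ℤ))
    (by rw [deg_single, hP]; omega)
  have h2 := SmallGenus.ell_genus_one hK hgen (D := Finsupp.single P ((n : ℤ) - 1))
    (by rw [deg_single, hP]; omega)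
  rw [deg_single, hP] at h1 h2
  have hne : _root_.FunFld.L (Finsupp.single P (n : ℤ)) ≠
      _root_.FunFld.L (Finsupp.single P ((n : ℤ) - 1)) := fun he => by
    unfold _root_.FunFld.ell at h1 h2
    rw [he] at h1
    omega
  obtain ⟨f, hf, hf'⟩ := Classical.not_not.mp fun h => hne ((Gaps.L_eq_iff P n).mpr h)
  exact ⟨f, (Gaps.mem_L_single P).mpr ⟨hf.le, hf'⟩, ord_eq_of_val_eq_exp P hf⟩

theorem adjoin_pair_eq_top (hK : FunFld.IsFunctionField k K) {P : Pl} (hP : P.deg = 1) {x y : K}
    (hx : x ∈ _root_.FunFld.L (Finsupp.single P 2)) (hx2 : P.ord x = -2)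
    (hy : y ∈ _root_.FunFld.L (Finsupp.single P 3)) (hy3 : P.ord y = -3) :
    adjoin k ({x, y} : Set K) = ⊤ := by
  have h2 := finrank_adjoin hK (n := 2) two_pos hx hx2
  have h3 := finrank_adjoin hK (n := 3) three_pos hy hy3
  rw [hP, mul_one] at h2 h3
  set M := adjoin k ({x, y} : Set K)
  have hlx : (adjoin k ({x} : Set K)) ≤ M := adjoin.mono k _ _ (by simp)
  have hly : (adjoin k ({y} : Set K)) ≤ M := adjoin.mono k _ _ (by simp)
  have d2 : Module.finrank M K ∣ 2 :=
    ⟨_, ((mul_comm _ _).trans ((IntermediateField.relfinrank_mul_finrank_top hlx).trans h2)).symm⟩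
  have d3 : Module.finrank M K ∣ 3 :=
    ⟨_, ((mul_comm _ _).trans ((IntermediateField.relfinrank_mul_finrank_top hly).trans h3)).symm⟩
  exact finrank_eq_one_iff_eq_top.mp (Nat.eq_one_of_dvd_coprimes (by norm_num) d2 d3)

end Groth.Agent.Lib.FunFld.Elliptic
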