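import Groth.Agent.H81.ConstExt
import Mathlib.RingTheory.TensorProduct.Free
import Mathlib.RingTheory.Adjoin.Basic
/-!
# Coordinates in a constant field extension

If `K' = k' ⊗_k K`, a `k`-basis of `k'` is a `K`-basis of `K'`, and `S[k']` consists of the elements
with all coordinates in `S`, for every subring `S` of `K` containing `k`.
-/

set_option autoImplicit false

namespace Groth.Agent.Lib.FunFld.ConstBase

open WithZero Groth.Agent.Lib.FunFld Groth.Agent.Lib.FunFld.Place
open scoped TensorProduct

universe u v w
variable {k k' : Type u} {K : Type v} {K' : Type w} [Field k] [Field k'] [Field K] [Field K']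
  [Algebra k k'] [Algebra k K] [Algebra K K'] [Algebra k' K'] [Algebra k K']
  [IsScalarTower k k' K'] [IsScalarTower k K K']
  (h : Function.Bijective (Algebra.TensorProduct.productMap
    (IsScalarTower.toAlgHom k k' K') (IsScalarTower.toAlgHom k K K')))
  {J : Type*} (b : Module.Basis J k k')

/-- `K ⊗ k' → K'`, linear over `K`. -/
noncomputable def baseMap : K ⊗[k] k' →ₐ[K] K' :=
  Algebra.TensorProduct.lift (Algebra.ofId K K') (IsScalarTower.toAlgHom k k' K') fun _ _ => .all _ _

include h in
theorem baseMap_bijective : Function.Bijective (baseMap (k := k) (k' := k') (K := K) (K' := K')) := by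
  convert h.comp (Algebra.TensorProduct.comm k K k').bijective using 1
  funext z
  induction z using TensorProduct.induction_on with
  | zero => simp
  | tmul a c => simp [baseMap, mul_comm]
  | add a c ha hc => simp only [map_add, Function.comp_apply] at ha hc ⊢; rw [ha, hc]

/-- A `k`-basis of `k'` as a `K`-basis of `K'`. -/
noncomputable def constBasis : Module.Basis J K K' :=
  (Algebra.TensorProduct.basis K b).map (AlgEquiv.ofBijective baseMap (baseMap_bijective h)).toLinearEquiv

@[simp] theorem constBasis_apply (j : J) : constBasis h b j = algebraMap k' K' (b j) := by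
  simp [constBasis, baseMap]

theorem repr_algebraMap [Fintype J] (c : k') (j : J) :
    (constBasis h b).repr (algebraMap k' K' c) j = algebraMap k K (b.repr c j) := by
  classical
  conv_lhs => rw [← b.sum_repr c, map_sum]
  have : ∀ i, algebraMap k' K' (b.repr c i • b i) = (algebraMap k K (b.repr c i)) • constBasis h b i := by
    intro i
    rw [constBasis_apply, Algebra.smul_def, Algebra.smul_def, map_mul, ← IsScalarTower.algebraMap_apply,
      ← IsScalarTower.algebraMap_apply]
  simp only [this]
  rw [map_sum, Finsupp.finsetSum_apply]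
  simp only [map_smul, Module.Basis.repr_self, Finsupp.smul_single, smul_eq_mul, mul_one]
  rw [Finset.sum_eq_single j (fun i _ hi => Finsupp.single_eq_of_ne hi.symm) (by simp)]
  exact Finsupp.single_eq_same

include h in
theorem finiteDimensional [FiniteDimensional k k'] : FiniteDimensional K K' :=
  Module.Finite.of_basis (constBasis h (Module.finBasis k k'))

variable [Fintype J]

/-- Membership in `S[k']`, coordinatewise. -/
theorem mem_closure_iff (S : Subring K) (hS : ∀ c : k, algebraMap k K c ∈ S) (z : K') :
    z ∈ Subring.closure ((algebraMap K K' '' (S : Set K)) ∪ Set.range (algebraMap k' K')) ↔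
      ∀ j, (constBasis h b).repr z j ∈ S := by
  classical
  set B := constBasis h b with hB
  have hc : ∀ (c : k') (j : J), B.repr (algebraMap k' K' c) j ∈ S := fun c j => by
    rw [hB, repr_algebraMap]; exact hS _
  have hmul : ∀ x y : K', (∀ j, B.repr x j ∈ S) → (∀ j, B.repr y j ∈ S) → ∀ j, B.repr (x * y) j ∈ S := by
    intro x y hx hy j
    have e : x * y = ∑ i, ∑ l, (B.repr x i * B.repr y l) • algebraMap k' K' (b i * b l) := by
      conv_lhs => rw [← B.sum_repr x, ← B.sum_repr y, Finset.sum_mul_sum]
      refine Finset.sum_congr rfl fun i _ => Finset.sum_congr rfl fun l _ => ?_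
      rw [smul_mul_smul_comm, hB, constBasis_apply, constBasis_apply, map_mul]
    rw [e, map_sum, Finsupp.finsetSum_apply]
    refine Subring.sum_mem _ fun i _ => ?_
    rw [map_sum, Finsupp.finsetSum_apply]
    refine Subring.sum_mem _ fun l _ => ?_
    rw [map_smul, Finsupp.smul_apply, smul_eq_mul]
    exact S.mul_mem (S.mul_mem (hx i) (hy l)) (hc _ j)
  constructor
  · intro hz
    induction hz using Subring.closure_induction with
    | mem x hx =>
      intro j
      rcases hx with ⟨s, hs, rfl⟩ | ⟨c, rfl⟩
      · rw [Algebra.algebraMap_eq_smul_one, map_smul, Finsupp.smul_apply, smul_eq_mul]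
        have := hc 1 j
        rw [map_one] at this
        exact S.mul_mem hs this
      · exact hc c j
    | zero => intro j; simp
    | one => intro j; simpa using hc 1 j
    | add x y _ _ hx hy => intro j; rw [map_add, Finsupp.add_apply]; exact S.add_mem (hx j) (hy j)
    | neg x _ hx => intro j; rw [map_neg, Finsupp.neg_apply]; exact S.neg_mem (hx j)
    | mul x y _ _ hx hy => exact hmul x y hx hy
  · intro hz
    rw [← B.sum_repr z]
    refine Subring.sum_mem _ fun j _ => ?_
    rw [Algebra.smul_def, hB, constBasis_apply]
    exact Subring.mul_mem _ (Subring.subset_closure (Or.inl ⟨_, hz j, rfl⟩))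
      (Subring.subset_closure (Or.inr ⟨_, rfl⟩))

/-- The same for an `R`-algebra whose image in `K` is `S`. -/
theorem mem_adjoin_iff_of_range {R : Type*} [CommRing R] [Algebra R K'] (S : Subring K)
    (hR : Set.range (algebraMap R K') = algebraMap K K' '' (S : Set K))
    (hS : ∀ c : k, algebraMap k K c ∈ S) (z : K') :
    z ∈ Algebra.adjoin R (Set.range (algebraMap k' K')) ↔ ∀ j, (constBasis h b).repr z j ∈ S := by
  rw [← Subalgebra.mem_toSubring, Algebra.adjoin_eq_ring_closure, hR]
  exact mem_closure_iff h b S hS z

theorem mem_adjoin_map_iff (S : Subring K) (hS : ∀ c : k, algebraMap k K c ∈ S) (z : K') :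
    z ∈ Algebra.adjoin (S.map (algebraMap K K')) (Set.range (algebraMap k' K')) ↔
      ∀ j, (constBasis h b).repr z j ∈ S := by
  refine mem_adjoin_iff_of_range h b S ?_ hS z
  exact Subtype.range_coe.trans (Subring.coe_map _ _)

theorem mem_adjoin_O_iff (P : _root_.FunFld.Place k K) [Algebra P.O K'] [IsScalarTower P.O K K'] (z : K') :
    z ∈ Algebra.adjoin P.O (Set.range (algebraMap k' K')) ↔ ∀ j, P.1 ((constBasis h b).repr z j) ≤ 1 := by
  refine mem_adjoin_iff_of_range h b P.O.toSubring ?_ P.2.1 z
  rw [show (algebraMap P.O K' : P.O → K') = algebraMap K K' ∘ Subtype.val from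
    funext H81.IntClosure.algebraMap_O, Set.range_comp, Subtype.range_coe]
  rfl

end Groth.Agent.Lib.FunFld.ConstBase
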