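import Groth.Agent.Lib.FunFld.ConstSingular
import Groth.Agent.H81.ConstExt
import Groth.Agent.H81.ConstPlace
import Mathlib.FieldTheory.Perfect
import Mathlib.FieldTheory.PurelyInseparable.Exponent
import Mathlib.RingTheory.Valuation.ValuationSubring
/-!
# Separable residue fields after a finite purely inseparable constant extension
-/

set_option autoImplicit false
set_option maxHeartbeats 1600000
set_option synthInstance.maxHeartbeats 100000

namespace Groth.Agent.Lib.FunFld.ConstInsep

open WithZero Groth.Agent.Lib.FunFld Groth.Agent.Lib.FunFld.Place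
open scoped TensorProduct

universe u v
variable {k : Type u} {K : Type v} [Field k] [Field K] [Algebra k K]

-- use the module structure coming from `Place.algRes`
attribute [-instance] IsLocalRing.instModuleResidueFieldOfAlgebra

/-- `O_P` modulo a power of the uniformizer is finite dimensional. -/
theorem exists_span_mod (hK : _root_.FunFld.IsFunctionField k K) (P : _root_.FunFld.Place k K) (N : ℕ) :
    ∃ (m : ℕ) (v : Fin m → P.O), ∀ a : P.O, ∃ β : Fin m → k,
      P.1 ((a : K) - ∑ i, β i • (v i : K)) ≤ exp (-(N : ℤ)) := by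
  classical
  haveI : FiniteDimensional k (IsLocalRing.ResidueField P.O) :=
    Module.finite_of_finrank_pos (Existence.deg_pos hK P)
  let w := Module.finBasis k (IsLocalRing.ResidueField P.O)
  choose l hl using fun i => IsLocalRing.residue_surjective (w i)
  obtain ⟨π, hπ⟩ := Place.exists_val_eq_exp P (-1)
  have hπ0 : π ≠ 0 := fun h => exp_ne_zero (by rw [← hπ, h, map_zero])
  have hπ1 : P.1 π ≤ 1 := hπ.le.trans (by rw [← exp_zero, exp_le_exp]; omega)
  have hpow : ∀ n : ℕ, P.1 (π ^ n) = exp (-(n : ℤ)) := fun n => by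
    rw [map_pow, hπ, ← exp_nsmul]; simp
  induction N with
  | zero => exact ⟨0, ![], fun a => ⟨![], by simp only [Finset.univ_eq_empty, Finset.sum_empty, sub_zero, Nat.cast_zero, neg_zero, exp_zero]; exact a.2⟩⟩
  | succ n ih =>
    obtain ⟨m, v, hv⟩ := ih
    let πO : P.O := ⟨π, hπ1⟩
    refine ⟨m + Module.finrank k (IsLocalRing.ResidueField P.O), Fin.append v (fun i => πO ^ n * l i), fun a => ?_⟩
    obtain ⟨β, hβ⟩ := hv a
    set u := ∑ i, β i • (v i : K)
    have h1 : P.1 (((a : K) - u) / π ^ n) ≤ 1 := by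
      rw [map_div₀, hpow, div_le_one₀ exp_pos]; exact hβ
    let cf := w.repr (IsLocalRing.residue P.O ⟨_, h1⟩)
    refine ⟨Fin.append β cf, ?_⟩
    let d : P.O := ⟨_, h1⟩ - ∑ i, algebraMap k P.O (cf i) * l i
    have hd : P.1 (d : K) < 1 := by
      rw [← Place.res_eq_zero_iff, map_sub, map_sum, sub_eq_zero]
      refine (w.sum_repr _).symm.trans (Finset.sum_congr rfl fun i _ => ?_)
      rw [map_mul, hl]
      exact Algebra.smul_def (cf i) (w i)
    have e : (a : K) - ∑ i, Fin.append β (cf : _ → k) i • ((Fin.append v (fun i => πO ^ n * l i) i : P.O) : K) =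
        π ^ n * (d : K) := by
      rw [Fin.sum_univ_add]
      simp only [Fin.append_left, Fin.append_right, d, AddSubgroupClass.coe_sub,
        AddSubmonoidClass.coe_finsetSum, MulMemClass.coe_mul, SubmonoidClass.coe_pow,
        Place.coe_algebraMap_O, mul_sub, Finset.mul_sum, Algebra.smul_def]
      rw [mul_div_cancel₀ _ (pow_ne_zero _ hπ0), sub_sub]
      simp only [u, Algebra.smul_def, πO, mul_left_comm]
    rw [e, map_mul, hpow]
    have hd1 := Approx.val_le_of_lt_one hd 1
    rw [pow_one] at hd1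
    refine (mul_le_mul' le_rfl hd1).trans ?_
    rw [← exp_add, exp_le_exp]; push_cast; omega

variable {A : Type u} [Field A] [Algebra k A] [IsPurelyInseparable k A] [PerfectField A]

/-- The residue fields above a place become separable at a finite level of the perfect closure. -/
theorem exists_level (hK : _root_.FunFld.IsFunctionField k K) (hg : _root_.FunFld.IsGeometric k K)
    (hΩ : IsField (A ⊗[k] K)) (P : _root_.FunFld.Place k K) :
    ∃ L : IntermediateField k A, FiniteDimensional k L ∧ ∀ L' : IntermediateField k A,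
      FiniteDimensional k L' → L ≤ L' →
      ∀ (K' : Type v) [Field K'] [Algebra K K'] [Algebra L' K'] [Algebra k K']
        [IsScalarTower k L' K'] [IsScalarTower k K K'],
        Function.Bijective (Algebra.TensorProduct.productMap
          (IsScalarTower.toAlgHom k L' K') (IsScalarTower.toAlgHom k K K')) →
        ∀ Q : _root_.FunFld.Place L' K', (∃ e, ∀ a : K, Q.1 (algebraMap K K' a) = P.1 a ^ e) →
          ∀ r : IsLocalRing.ResidueField Q.O, IsSeparable L' r := by
  classical
  letI : Field (A ⊗[k] K) := hΩ.toField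
  let φ : K →ₐ[k] A ⊗[k] K := Algebra.TensorProduct.includeRight
  let jA : A →ₐ[k] A ⊗[k] K := Algebra.TensorProduct.includeLeft
  haveI : Algebra.IsAlgebraic k A := inferInstance
  let p := ringExpChar k
  haveI : ExpChar k p := inferInstance
  haveI : ExpChar (A ⊗[k] K) p := expChar_of_injective_ringHom (algebraMap k (A ⊗[k] K)).injective p
  -- powers land in `K`
  have hpow : ∀ z : A ⊗[k] K, ∃ (n : ℕ) (a : K), z ^ p ^ n = φ a := by
    intro z
    induction z using TensorProduct.induction_on with
    | zero => exact ⟨0, 0, by simp⟩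
    | tmul c a =>
      obtain ⟨n, d, hd⟩ := IsPurelyInseparable.pow_mem k p c
      refine ⟨n, d • a ^ p ^ n, ?_⟩
      rw [Algebra.TensorProduct.tmul_pow, ← hd, Algebra.algebraMap_eq_smul_one, TensorProduct.smul_tmul]
      rfl
    | add x y hx hy =>
      obtain ⟨n, a, ha⟩ := hx
      obtain ⟨n', b, hb⟩ := hy
      refine ⟨n + n', a ^ p ^ n' + b ^ p ^ n, ?_⟩
      rw [add_pow_expChar_pow, pow_add, pow_mul, ha, mul_comm (p ^ n), pow_mul, hb, map_add, map_pow, map_pow]
  -- the valuation ring above `P`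
  let RΩ := P.O.toSubring.map φ.toRingHom
  have hkR : ∀ c : k, algebraMap k (A ⊗[k] K) c ∈ RΩ := fun c => ⟨algebraMap k K c, P.2.1 c, φ.commutes c⟩
  have hintO : ∀ a : K, IsIntegral RΩ (φ a) ↔ P.1 a ≤ 1 := fun a => by
    constructor
    · intro ha
      obtain ⟨q, hq, hq0⟩ := (ConstBase.isIntegral_map_iff φ.toRingHom _ _).1 ha
      have : IsIntegral P.O a := ⟨q, hq, φ.toRingHom.injective (by
        rw [map_zero, Polynomial.hom_eval₂]; exact hq0)⟩
      obtain ⟨b, hb⟩ := IsIntegrallyClosed.isIntegral_iff.1 this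
      rw [← hb]
      exact b.2
    · intro ha
      exact isIntegral_algebraMap (R := RΩ) (x := ⟨φ a, a, ha, rfl⟩)
  let V : ValuationSubring (A ⊗[k] K) :=
    { (integralClosure RΩ (A ⊗[k] K)).toSubring with
      mem_or_inv_mem' := fun z => by
        obtain ⟨n, a, ha⟩ := hpow z
        have hq : 0 < p ^ n := expChar_pow_pos k p n
        rcases le_or_gt (P.1 a) 1 with h | h
        · exact Or.inl (IsIntegral.of_pow hq (ha ▸ (hintO a).2 h))
        · refine Or.inr (IsIntegral.of_pow hq ?_)
          rw [inv_pow, ha, ← map_inv₀]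
          refine (hintO _).2 ?_
          rw [map_inv₀]
          exact inv_le_one_of_one_le₀ h.le }
  have hV : ∀ {z : A ⊗[k] K}, z ∈ V ↔ IsIntegral RΩ z := Iff.rfl
  let FV := IsLocalRing.ResidueField V
  let res := IsLocalRing.residue V
  let ιA : A →+* V := jA.toRingHom.codRestrict V.toSubring fun c => by
    letI : Algebra A (A ⊗[k] K) := Algebra.TensorProduct.leftAlgebra
    exact ConstBase.isIntegral_const (k := k) (k' := A) (L := A ⊗[k] K) RΩ hkR c
  letI algA : Algebra A FV := (res.comp ιA).toAlgebra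
  letI algk : Algebra k FV := ((algebraMap A FV).comp (algebraMap k A)).toAlgebra
  haveI : IsScalarTower k A FV := IsScalarTower.of_algebraMap_eq fun _ => rfl
  let φO : P.O →+* V := (φ.toRingHom.comp P.O.subtype).codRestrict V.toSubring fun a => (hintO _).2 a.2
  have hmax : ∀ a : P.O, P.1 (a : K) < 1 → res (φO a) = 0 := fun a ha => by
    refine (IsLocalRing.residue_eq_zero_iff (φO a)).2 ((IsLocalRing.mem_maximalIdeal _).2 fun hu => ?_)
    obtain ⟨b, hb⟩ := hu.exists_right_inv
    have hb' : φ (a : K) * (b : A ⊗[k] K) = 1 := congrArg Subtype.val hb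
    have ha0 : (a : K) ≠ 0 := fun h => by rw [h, map_zero, zero_mul] at hb'; exact zero_ne_one hb'
    have : (b : A ⊗[k] K) = φ ((a : K)⁻¹) := by
      rw [map_inv₀]; exact eq_inv_of_mul_eq_one_right hb'
    have h1 := (hintO _).1 (this ▸ hV.1 b.2)
    rw [map_inv₀] at h1
    exact not_le.2 ((one_lt_inv₀ (zero_lt_iff.2 ((Valuation.ne_zero_iff _).2 ha0))).2 ha) h1
  let φF : IsLocalRing.ResidueField P.O →ₐ[k] FV :=
    ⟨Ideal.Quotient.lift _ (res.comp φO) fun a ha => hmax a ((Place.mem_maximalIdeal_iff P a).1 ha), fun c => by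
      show res (φO (algebraMap k P.O c)) = res (ιA (algebraMap k A c))
      congr 1
      refine Subtype.ext ?_
      show φ ((algebraMap k P.O c : P.O) : K) = jA (algebraMap k A c)
      rw [Place.coe_algebraMap_O, AlgHom.commutes, AlgHom.commutes]⟩
  haveI : FiniteDimensional k (IsLocalRing.ResidueField P.O) :=
    Module.finite_of_finrank_pos (Existence.deg_pos hK P)
  -- a conductor
  obtain ⟨c, hc0, hc⟩ := ConstSingular.exists_conductor.{u, v, v} hK hg P
  obtain ⟨m, vv, hvv⟩ := exists_span_mod hK P (P.ord c).toNat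
  let gen : (Fin m → A) →ₗ[A] A ⊗[k] K :=
    ∑ i, (LinearMap.proj i).smulRight (φ ((vv i : K) * c⁻¹))
  have hgen : ∀ l : Fin m → A, gen l = ∑ i, jA (l i) * φ ((vv i : K) * c⁻¹) := fun l => by
    simp only [gen, LinearMap.sum_apply, LinearMap.smulRight_apply, LinearMap.proj_apply]
    refine Finset.sum_congr rfl fun i _ => ?_
    simp [φ, jA, TensorProduct.smul_tmul']
  let W : Submodule A (Fin m → A) :=
    { carrier := {l | gen l ∈ V}
      zero_mem' := by show gen 0 ∈ V; rw [map_zero]; exact V.zero_mem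
      add_mem' := fun {x y} hx hy => by show gen (x + y) ∈ V; rw [map_add]; exact V.add_mem _ _ hx hy
      smul_mem' := fun a x hx => by
        show gen (a • x) ∈ V
        rw [hgen]
        have : ∑ i, jA ((a • x) i) * φ ((vv i : K) * c⁻¹) = jA a * gen x := by
          rw [hgen, Finset.mul_sum]
          exact Finset.sum_congr rfl fun i _ => by rw [Pi.smul_apply, smul_eq_mul, map_mul, mul_assoc]
        rw [this]
        exact V.mul_mem _ _ (ιA a).2 hx }
  let w := Module.finBasis A W
  let G : Fin (Module.finrank A W) → V := fun r => ⟨gen (w r : Fin m → A), (w r).2⟩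
  let bP := Module.finBasis k (IsLocalRing.ResidueField P.O)
  let τ : Fin (Module.finrank A W) ⊕ Fin (Module.finrank k (IsLocalRing.ResidueField P.O)) → FV :=
    Sum.elim (fun r => res (G r)) (fun j => φF (bP j))
  -- residues are algebraic over the perfect field
  have halg : ∀ x : FV, IsIntegral A x := by
    intro x
    obtain ⟨z, rfl⟩ := IsLocalRing.residue_surjective x
    obtain ⟨n, a, ha⟩ := hpow (z : A ⊗[k] K)
    have ha1 : P.1 a ≤ 1 := (hintO a).1 (ha ▸ (hV.1 z.2).pow _)
    refine IsIntegral.of_pow (expChar_pow_pos k p n) ?_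
    rw [← map_pow, show z ^ p ^ n = φO ⟨a, ha1⟩ from Subtype.ext ha]
    exact ((Algebra.IsIntegral.isIntegral (R := k) (IsLocalRing.residue P.O ⟨a, ha1⟩)).map φF).tower_top
  let U := Algebra.adjoin A (Set.range τ)
  haveI : FiniteDimensional A U :=
    Module.Finite.iff_fg.2 (fg_adjoin_of_finite (Set.finite_range τ) fun x _ => halg x)
  let ub := Module.finBasis A U
  have hτU : ∀ s, τ s ∈ U := fun s => Algebra.subset_adjoin ⟨s, rfl⟩
  let coeffs : Set A := (Set.range fun p : Fin (Module.finrank A W) × Fin m => (w p.1 : Fin m → A) p.2) ∪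
    (Set.range fun i => ub.repr 1 i) ∪
    (Set.range fun p : Fin (Module.finrank A U) × Fin (Module.finrank A U) × Fin (Module.finrank A U) =>
      ub.repr (ub p.1 * ub p.2.1) p.2.2) ∪
    (Set.range fun p : (Fin (Module.finrank A W) ⊕ Fin (Module.finrank k (IsLocalRing.ResidueField P.O))) ×
      Fin (Module.finrank A U) => ub.repr ⟨τ p.1, hτU p.1⟩ p.2)
  have hcfin : coeffs.Finite :=
    (((Set.finite_range _).union (Set.finite_range _)).union (Set.finite_range _)).union (Set.finite_range _)
  haveI := hcfin.to_subtype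
  refine ⟨IntermediateField.adjoin k coeffs, IntermediateField.finiteDimensional_adjoin fun x _ =>
    Algebra.IsIntegral.isIntegral x, fun L' _ hLL' K' _ _ _ _ _ _ h Q hQ r => ?_⟩
  have hcL : ∀ x ∈ coeffs, x ∈ L' := fun x hx => hLL' (IntermediateField.subset_adjoin k coeffs hx)
  -- `K'` inside the perfect level
  let e := AlgEquiv.ofBijective _ h
  let ψ : K' →ₐ[k] A ⊗[k] K := (Algebra.TensorProduct.map L'.val (AlgHom.id k K)).comp e.symm.toAlgHom
  have hψK : ∀ a : K, ψ (algebraMap K K' a) = φ a := fun a => by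
    have h1 : e ((1 : L') ⊗ₜ a) = algebraMap K K' a := by simp [e]
    show Algebra.TensorProduct.map L'.val (AlgHom.id k K) (e.symm _) = _
    rw [← h1, AlgEquiv.symm_apply_apply, Algebra.TensorProduct.map_tmul, map_one]
    rfl
  have hψL : ∀ l : L', ψ (algebraMap L' K' l) = jA (l : A) := fun l => by
    have h1 : e (l ⊗ₜ (1 : K)) = algebraMap L' K' l := by simp [e]
    show Algebra.TensorProduct.map L'.val (AlgHom.id k K) (e.symm _) = _
    rw [← h1, AlgEquiv.symm_apply_apply, Algebra.TensorProduct.map_tmul, map_one]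
    rfl
  have hψi : Function.Injective ψ := ψ.toRingHom.injective
  haveI : FiniteDimensional k L' := by assumption
  haveI : FiniteDimensional K K' := ConstBase.finiteDimensional h
  -- the retraction
  obtain ⟨ret, hret⟩ := LinearMap.exists_leftInverse_of_injective (Algebra.linearMap L' A)
    (LinearMap.ker_eq_bot.2 (algebraMap L' A).injective)
  have hretL : ∀ l : L', ret (l : A) = l := fun l => LinearMap.congr_fun hret l
  have hretmul : ∀ (a : A) (l : L'), ret (a * (l : A)) = ret a * l := fun a l => by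
    rw [show a * (l : A) = l • a from mul_comm _ _, map_smul, smul_eq_mul, mul_comm]
  -- elements with coordinates in `L'`
  let M : FV → Prop := fun x => ∃ l : Fin (Module.finrank A U) → L', x = ∑ i, (l i : A) • ((ub i : U) : FV)
  have hMofU : ∀ x : U, (∀ i, ub.repr x i ∈ L') → M (x : FV) := fun x hx => ⟨fun i => ⟨_, hx i⟩, by
    conv_lhs => rw [← ub.sum_repr x]
    push_cast
    rfl⟩
  have hMadd : ∀ x y, M x → M y → M (x + y) := by
    rintro _ _ ⟨l, rfl⟩ ⟨l', rfl⟩
    exact ⟨l + l', by simp [add_smul, Finset.sum_add_distrib]⟩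
  have hMsmul : ∀ (a : L') x, M x → M ((a : A) • x) := by
    rintro a _ ⟨l, rfl⟩
    exact ⟨fun i => a * l i, by simp [Finset.smul_sum, mul_smul]⟩
  have hMsum : ∀ {α : Type} (s : Finset α) (x : α → FV), (∀ i ∈ s, M (x i)) → M (∑ i ∈ s, x i) := by
    intro α s x hx
    induction s using Finset.induction_on with
    | empty => exact ⟨0, by simp⟩
    | insert a s ha ih =>
      rw [Finset.sum_insert ha]
      exact hMadd _ _ (hx a (Finset.mem_insert_self _ _)) (ih fun i hi => hx i (Finset.mem_insert_of_mem hi))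
  have hM1 : M 1 := hMofU 1 fun i => hcL _ (Or.inl (Or.inl (Or.inr ⟨i, rfl⟩)))
  have hMmul : ∀ x y, M x → M y → M (x * y) := by
    rintro _ _ ⟨l, rfl⟩ ⟨l', rfl⟩
    rw [Finset.sum_mul_sum]
    refine hMsum _ _ fun i _ => hMsum _ _ fun j _ => ?_
    rw [smul_mul_smul_comm]
    exact hMsmul (l i * l' j) _ (hMofU (ub i * ub j) fun t => hcL _ (Or.inl (Or.inr ⟨(i, j, t), rfl⟩)))
  have hMτ : ∀ s, M (τ s) := fun s => hMofU ⟨τ s, hτU s⟩ fun i => hcL _ (Or.inr ⟨(s, i), rfl⟩)
  have hMres : ∀ (a : P.O), M (res (φO a)) := fun a => by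
    show M (φF (IsLocalRing.residue P.O a))
    rw [← bP.sum_repr (IsLocalRing.residue P.O a), map_sum]
    refine hMsum _ _ fun j _ => ?_
    rw [map_smul, ← algebraMap_smul A (bP.repr _ j) (φF (bP j))]
    exact hMsmul ⟨_, L'.algebraMap_mem _⟩ _ (hMτ (Sum.inr j))
  -- integral elements of `K'`
  let b := Module.finBasis k L'
  let B := ConstBase.constBasis h b
  have hmain : ∀ z : K', ∀ hz : ψ z ∈ V, M (res ⟨ψ z, hz⟩) := by
    intro z hz
    have hzint : IsIntegral (P.O.toSubring.map (algebraMap K K')) z := by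
      obtain ⟨q, hq, hq0⟩ := (ConstBase.isIntegral_map_iff φ.toRingHom _ _).1 (hV.1 hz)
      refine (ConstBase.isIntegral_map_iff _ _ _).2 ⟨q, hq, hψi ?_⟩
      rw [map_zero, ← hq0]
      refine (Polynomial.hom_eval₂ q _ ψ.toRingHom z).trans ?_
      congr 1
      exact RingHom.ext fun a => hψK a
    have hco := (ConstBase.mem_adjoin_map_iff h b P.O.toSubring P.2.1 _).1 (hc L' K' h z hzint)
    choose β hβ using fun j => hvv ⟨_, hco j⟩
    have ho : ∀ j, P.1 ((B.repr (algebraMap K K' c * z) j - ∑ i, β j i • (vv i : K)) * c⁻¹) ≤ 1 := by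
      intro j
      rw [map_mul, map_inv₀, ← div_eq_mul_inv, val_eq_exp P hc0, div_le_one₀ exp_pos]
      exact (hβ j).trans (exp_le_exp.2 (by omega))
    let lam : Fin m → L' := fun i => ∑ j, β j i • b j
    let o : Fin (Module.finrank k L') → P.O := fun j => ⟨_, ho j⟩
    have hdec : ψ z = gen (fun i => (lam i : A)) + ∑ j, jA (b j : A) * φ (o j : K) := by
      have h1 : z = ∑ j, algebraMap L' K' (b j) * algebraMap K K' (B.repr (algebraMap K K' c * z) j * c⁻¹) := by
        have h2 : ∑ j, algebraMap K K' (B.repr (algebraMap K K' c * z) j) * algebraMap L' K' (b j) =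
            algebraMap K K' c * z := by
          refine Eq.trans (Finset.sum_congr rfl fun j _ => ?_) (B.sum_repr _)
          rw [Algebra.smul_def, ConstBase.constBasis_apply]
        calc z = algebraMap K K' c⁻¹ * (algebraMap K K' c * z) := by
              rw [← mul_assoc, ← map_mul, inv_mul_cancel₀ hc0, map_one, one_mul]
          _ = algebraMap K K' c⁻¹ * ∑ j, algebraMap K K' (B.repr (algebraMap K K' c * z) j) *
              algebraMap L' K' (b j) := by rw [h2]
          _ = _ := by
              rw [Finset.mul_sum]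
              exact Finset.sum_congr rfl fun j _ => by rw [map_mul (algebraMap K K') _ c⁻¹]; ring
      conv_lhs => rw [h1]
      simp only [map_sum, map_mul, hψK, hψL, hgen, lam, o, map_sub, AddSubmonoidClass.coe_finsetSum]
      simp only [Algebra.smul_def, map_mul, MulMemClass.coe_mul, sub_mul, mul_sub, Finset.sum_sub_distrib,
        Finset.sum_mul, Finset.mul_sum, AlgHom.commutes, IntermediateField.coe_algebraMap_apply,
        SubalgebraClass.coe_algebraMap]
      rw [Finset.sum_comm, ← add_sub_assoc, eq_sub_iff_add_eq, add_comm]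
      congr 1
      exact Finset.sum_congr rfl fun j _ => Finset.sum_congr rfl fun i _ => by ring
    have hterm : ∀ j, jA (b j : A) * φ (o j : K) ∈ V := fun j => V.mul_mem _ _ (ιA (b j : A)).2 (φO (o j)).2
    have hlam : (fun i => (lam i : A)) ∈ W := by
      show gen _ ∈ V
      rw [eq_sub_of_add_eq hdec.symm]
      exact V.toSubring.sub_mem hz (V.toSubring.sum_mem fun j _ => hterm j)
    let μ := fun t => ret (w.repr ⟨_, hlam⟩ t)
    have hlam' : (fun i => (lam i : A)) = ∑ t, (μ t : A) • (w t : Fin m → A) := by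
      funext i
      have h1 := congrArg (fun x : W => (x : Fin m → A) i) (w.sum_repr ⟨_, hlam⟩)
      simp only [Submodule.coe_sum, Submodule.coe_smul, Finset.sum_apply, Pi.smul_apply, smul_eq_mul] at h1
      rw [← hretL (lam i), ← h1, map_sum]
      simp only [Finset.sum_apply, Pi.smul_apply, smul_eq_mul, AddSubmonoidClass.coe_finsetSum, μ]
      refine Finset.sum_congr rfl fun t _ => ?_
      rw [hretmul _ ⟨_, hcL _ (Or.inl (Or.inl (Or.inl ⟨(t, i), rfl⟩)))⟩]
      rfl
    have hV' : (⟨ψ z, hz⟩ : V) = ∑ t, ιA (μ t : A) * G t + ∑ j, ιA (b j : A) * φO (o j) := by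
      refine Subtype.ext (hdec.trans ?_)
      rw [hlam', map_sum]
      push_cast
      congr 1
      refine Finset.sum_congr rfl fun t _ => ?_
      rw [map_smul, hgen, Algebra.smul_def]
      rw [Finset.mul_sum]
      simp only [G, hgen, Finset.mul_sum]
      rfl
    rw [hV', map_add, map_sum, map_sum]
    refine hMadd _ _ (hMsum _ _ fun t _ => ?_) (hMsum _ _ fun j _ => ?_)
    · rw [map_mul, show res (ιA (μ t : A)) * res (G t) = (μ t : A) • τ (Sum.inl t) from rfl]
      exact hMsmul _ _ (hMτ _)
    · rw [map_mul, show res (ιA (b j : A)) * res (φO (o j)) = (b j : A) • res (φO (o j)) from rfl]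
      exact hMsmul _ _ (hMres _)
  -- the residue field of `Q`
  obtain ⟨eQ, heQ⟩ := hQ
  let plQ := H81.ConstPlace.equiv k L' K' Q
  have heQ0 : eQ ≠ 0 := (Ext.pos_of_isOverWith (Q := plQ) (P := P) heQ).ne'
  have hval : ∀ z : K', (Q.1 z ≤ 1 → ψ z ∈ V) ∧ (∀ hz : ψ z ∈ V, Q.1 z < 1 → res ⟨ψ z, hz⟩ = 0) := by
    intro z
    obtain ⟨n, a, ha⟩ := hpow (ψ z)
    have hq : 0 < p ^ n := expChar_pow_pos k p n
    have hza : z ^ p ^ n = algebraMap K K' a := hψi (by rw [map_pow, ha, hψK])
    have hQa : Q.1 z ^ p ^ n = P.1 a ^ eQ := by rw [← map_pow, hza, heQ]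
    refine ⟨fun hz => IsIntegral.of_pow hq (ha ▸ (hintO a).2 ((pow_le_one_iff_of_nonneg zero_le heQ0).1
      (hQa ▸ pow_le_one₀ zero_le hz))), fun hz hz1 => ?_⟩
    have ha1 : P.1 a < 1 := (pow_lt_one_iff_of_nonneg zero_le heQ0).1
      (hQa ▸ pow_lt_one₀ zero_le hz1 hq.ne')
    refine pow_eq_zero_iff hq.ne' |>.1 ?_
    rw [← map_pow, show (⟨ψ z, hz⟩ : V) ^ p ^ n = φO ⟨a, ha1.le⟩ from Subtype.ext ha]
    exact hmax _ ha1
  let χ : IsLocalRing.ResidueField Q.O →+* FV :=
    Ideal.Quotient.lift _ (res.comp ((ψ.toRingHom.comp Q.O.subtype).codRestrict V.toSubring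
      fun z => (hval _).1 z.2)) fun z hz => (hval _).2 _ ((Place.mem_maximalIdeal_iff Q z).1 hz)
  have hχL : χ.comp (algebraMap L' (IsLocalRing.ResidueField Q.O)) = (algebraMap A FV).comp (algebraMap L' A) :=
    RingHom.ext fun l => by
      show res ⟨ψ ((algebraMap L' Q.O l : Q.O) : K'), _⟩ = res (ιA (l : A))
      congr 1
      refine Subtype.ext ?_
      show ψ _ = jA (l : A)
      rw [Place.coe_algebraMap_O, hψL]
  have hMχ : M (χ r) := by
    obtain ⟨z, rfl⟩ := IsLocalRing.residue_surjective r
    exact hmain _ _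
  have hMpow : ∀ n : ℕ, M (χ r ^ n) := by
    intro n
    induction n with
    | zero => rw [pow_zero]; exact hM1
    | succ n ih => rw [pow_succ]; exact hMmul _ _ ih hMχ
  choose l hl using hMpow
  let μA := minpoly A (χ r)
  have hμm : μA.Monic := minpoly.monic (halg _)
  let q' : Polynomial L' := ∑ n ∈ Finset.range (μA.natDegree + 1), Polynomial.monomial n (ret (μA.coeff n))
  have hq'c : ∀ n, q'.coeff n = if n ≤ μA.natDegree then ret (μA.coeff n) else 0 := fun n => by
    simp [q', Polynomial.coeff_monomial]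
  have hq'deg : q'.natDegree ≤ μA.natDegree := by
    rw [Polynomial.natDegree_le_iff_coeff_eq_zero]
    intro n hn
    rw [hq'c, if_neg (by omega)]
  have hret1 : ret (1 : A) = 1 := by simpa using hretL 1
  have hq'm : q'.Monic := Polynomial.monic_of_natDegree_le_of_coeff_eq_one _ hq'deg (by
    rw [hq'c, if_pos le_rfl, hμm.coeff_natDegree, hret1])
  have hli : ∀ (g : Fin (Module.finrank A U) → A),
      ∑ i, g i • ((ub i : U) : FV) = 0 → ∀ i, g i = 0 := fun g hg' =>
    Fintype.linearIndependent_iff.1 ub.linearIndependent g (Subtype.ext (by push_cast; exact hg'))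
  have hrow : ∀ i, ∑ n ∈ Finset.range (μA.natDegree + 1), μA.coeff n * (l n i : A) = 0 := by
    refine hli _ ?_
    simp only [Finset.sum_smul, mul_smul]
    rw [Finset.sum_comm]
    simp only [← Finset.smul_sum, ← hl]
    rw [← minpoly.aeval A (χ r), Polynomial.aeval_eq_sum_range]
  have hχq : χ (Polynomial.aeval r q') = 0 := by
    rw [Polynomial.aeval_def, Polynomial.hom_eval₂, hχL, ← Polynomial.eval₂_map, ← Polynomial.aeval_def,
      Polynomial.aeval_eq_sum_range' (n := μA.natDegree + 1)
      (by rw [Polynomial.natDegree_map]; omega)]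
    rw [Finset.sum_congr rfl fun n hn => by
      rw [Polynomial.coeff_map, hq'c, if_pos (Nat.lt_succ_iff.1 (Finset.mem_range.1 hn)), hl n, Finset.smul_sum]]
    rw [Finset.sum_comm]
    refine Finset.sum_eq_zero fun i _ => ?_
    simp only [smul_smul, ← Finset.sum_smul]
    have h1 : ∑ n ∈ Finset.range (μA.natDegree + 1), ret (μA.coeff n) * l n i = 0 := by
      simp only [← hretmul, ← map_sum, hrow i, map_zero]
    rw [show ∑ n ∈ Finset.range (μA.natDegree + 1), algebraMap L' A (ret (μA.coeff n)) * (l n i : A) =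
      algebraMap L' A (∑ n ∈ Finset.range (μA.natDegree + 1), ret (μA.coeff n) * l n i) by
      simp [map_sum], h1, map_zero, zero_smul]
  have hrq : Polynomial.aeval r q' = 0 := χ.injective (hχq.trans (map_zero χ).symm)
  have hrint : IsIntegral L' r := ⟨q', hq'm, hrq⟩
  set q := minpoly L' r with hq
  have hdeg : q.natDegree ≤ μA.natDegree :=
    (Polynomial.natDegree_le_of_dvd (minpoly.dvd L' r hrq) hq'm.ne_zero).trans hq'deg
  have hdvd : μA ∣ q.map (algebraMap L' A) := minpoly.dvd A _ (by
    rw [Polynomial.aeval_def, Polynomial.eval₂_map, ← hχL, ← Polynomial.hom_eval₂, ← Polynomial.aeval_def,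
      minpoly.aeval, map_zero])
  have heq : q.map (algebraMap L' A) = μA :=
    Polynomial.eq_of_monic_of_dvd_of_natDegree_le hμm ((minpoly.monic hrint).map _) hdvd
      (by rw [Polynomial.natDegree_map]; exact hdeg)
  show q.Separable
  rw [← Polynomial.separable_map (algebraMap L' A), heq]
  exact PerfectField.separable_of_irreducible (minpoly.irreducible (halg _))

end Groth.Agent.Lib.FunFld.ConstInsep
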