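import Groth.Agent.Lib.FunFld.ConstBase
/-!
# Integrality over the image of a valuation ring
-/

set_option autoImplicit false

namespace Groth.Agent.Lib.FunFld.ConstBase

open Polynomial

universe u v w

theorem isIntegral_mono {L : Type*} [CommRing L] {R S : Subring L} (hRS : R ≤ S) {x : L}
    (hx : IsIntegral R x) : IsIntegral S x := by
  obtain ⟨p, hp, hp0⟩ := hx
  refine ⟨p.map (Subring.inclusion hRS), hp.map _, ?_⟩
  rw [eval₂_map]
  exact hp0

/-- Integrality over `φ(S)`. -/
theorem isIntegral_map_iff {K L : Type*} [CommRing K] [CommRing L] [Nontrivial L] (φ : K →+* L) (S : Subring K) (x : L) :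
    IsIntegral (S.map φ) x ↔ ∃ p : S[X], p.Monic ∧ p.eval₂ (φ.comp S.subtype) x = 0 := by
  let g : S →+* S.map φ := (φ.comp S.subtype).codRestrict _ fun a => ⟨a, a.2, rfl⟩
  constructor
  · rintro ⟨p, hp, hp0⟩
    have hg : Function.Surjective g := by
      rintro ⟨_, a, ha, rfl⟩
      exact ⟨⟨a, ha⟩, rfl⟩
    obtain ⟨q, hq, -, hq'⟩ := lifts_and_degree_eq_and_monic
      ((lifts_iff_coeff_lifts p).2 fun i => hg (p.coeff i)) hp
    refine ⟨q, hq', ?_⟩
    rw [← hq, eval₂_map] at hp0
    exact hp0
  · rintro ⟨p, hp, hp0⟩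
    refine ⟨p.map g, hp.map g, ?_⟩
    rw [eval₂_map]
    exact hp0

/-- Integrality over the image of `O_P` is integrality at all places above `P`. -/
theorem isIntegral_map_O_iff {k : Type u} {K : Type v} {K' : Type w} [Field k] [Field K] [Field K']
    [Algebra k K] [Algebra K K'] [Algebra k K'] [IsScalarTower k K K'] [FiniteDimensional K K']
    (hK : _root_.FunFld.IsFunctionField k K) (P : _root_.FunFld.Place k K) (x : K') :
    IsIntegral (P.O.toSubring.map (algebraMap K K')) x ↔
      ∀ Q : _root_.FunFld.Place k K', _root_.FunFld.IsOver Q P → Q.1 x ≤ 1 := by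
  letI : Algebra P.O K' := ((algebraMap K K').comp P.O.subtype).toAlgebra
  haveI : IsScalarTower P.O K K' := IsScalarTower.of_algebraMap_eq fun _ => rfl
  rw [← H81.IntClosure.isIntegral_iff hK, isIntegral_map_iff]
  rfl

/-- The constants are integral over any subring containing `k`. -/
theorem isIntegral_const {k k' L : Type*} [Field k] [Field k'] [Field L] [Algebra k k'] [Algebra k L]
    [Algebra k' L] [IsScalarTower k k' L] [Algebra.IsIntegral k k'] (R : Subring L)
    (hR : ∀ c : k, algebraMap k L c ∈ R) (c : k') : IsIntegral R (algebraMap k' L c) := by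
  obtain ⟨p, hp, hp0⟩ := (Algebra.IsIntegral.isIntegral (R := k) c).map (IsScalarTower.toAlgHom k k' L)
  refine ⟨p.map ((algebraMap k L).codRestrict R hR), hp.map _, ?_⟩
  rw [eval₂_map]
  exact hp0

theorem adjoin_le_integralClosure {k k' L : Type*} [Field k] [Field k'] [Field L] [Algebra k k'] [Algebra k L]
    [Algebra k' L] [IsScalarTower k k' L] [Algebra.IsIntegral k k'] (R : Subring L)
    (hR : ∀ c : k, algebraMap k L c ∈ R) :
    Algebra.adjoin R (Set.range (algebraMap k' L)) ≤ integralClosure R L := by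
  refine Algebra.adjoin_le ?_
  rintro _ ⟨c, rfl⟩
  exact isIntegral_const R hR c

end Groth.Agent.Lib.FunFld.ConstBase
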