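import Groth.Agent.Lib.FunFld.ConstIntegral
import Groth.Agent.H81.ConstPlace
import Groth.Agent.H81.ConstRank
import Groth.Agent.H81.FunFldGeom
import Groth.Agent.Lib.FunFld.Weil
import Groth.Agent.Lib.FunFld.Hasse.Separable
import Mathlib.RingTheory.Discriminant
import Mathlib.FieldTheory.PrimitiveElement
import Mathlib.RingTheory.Polynomial.UniqueFactorization
/-!
# Almost all places stay nonsingular under constant extensions

With `x` separating and `y` a primitive element integral over `k[x]`, the places that may become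
singular are among the poles of `x`, `y` and the support of the discriminant of the powers of `y`.
-/

set_option autoImplicit false

namespace Groth.Agent.Lib.FunFld.ConstSingular

open WithZero Groth.Agent.Lib.FunFld Groth.Agent.Lib.FunFld.Place

universe u v w
variable {k : Type u} {K : Type v} [Field k] [Field K] [Algebra k K]

/-- A unit at `P` without finite poles and small at given finite places. -/
theorem exists_unit_small (hK : _root_.FunFld.IsFunctionField k K) {x : K} (hx : Transcendental k x)
    {P : _root_.FunFld.Place k K} (hP : 0 ≤ P.ord x)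
    (S : Finset (_root_.FunFld.Place k K)) (hS : P ∉ S) (hSfin : ∀ R ∈ S, 0 ≤ R.ord x) (M : ℕ) :
    ∃ s : K, P.1 s = 1 ∧ (∀ R : _root_.FunFld.Place k K, 0 ≤ R.ord x → R.1 s ≤ 1) ∧
      ∀ R ∈ S, R.1 s ≤ exp (-(M : ℤ)) := by
  classical
  let A : _root_.FunFld.Divisor k K := Degree.poleDiv (k := k) x
  let Z : _root_.FunFld.Divisor k K := ∑ R ∈ S, Finsupp.single R (M : ℤ)
  have hA : 0 < A.deg := by
    rw [Degree.deg_poleDiv hK hx]
    have := Bound.finiteDimensional_adjoin_transcendental hK hx
    exact_mod_cast Module.finrank_pos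
  let g : ℤ := _root_.FunFld.genus k K
  obtain ⟨N, hN⟩ : ∃ N : ℕ, 2 * g - 1 + Z.deg + (P.deg : ℤ) ≤ (N : ℤ) * A.deg :=
    ⟨(2 * g - 1 + Z.deg + (P.deg : ℤ)).toNat, (Int.self_le_toNat _).trans
      (le_mul_of_one_le_right (Int.natCast_nonneg _) hA)⟩
  let D : _root_.FunFld.Divisor k K := (N : ℤ) • A - Z
  let D' : _root_.FunFld.Divisor k K := D - Finsupp.single P 1
  have hdeg : D.deg = (N : ℤ) * A.deg - Z.deg := by
    simp only [D, Degree.deg_sub, Degree.deg_smul]
  have hdeg' : D'.deg = D.deg - P.deg := by
    simp only [D', Degree.deg_sub, Degree.deg_single, one_mul]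
  have hD0 : D P = 0 := by
    simp only [D, A, Z, Finsupp.sub_apply, Finsupp.smul_apply, Degree.poleDiv_apply hK,
      Finsupp.finsetSum_apply]
    rw [Finset.sum_eq_zero fun R hR => Finsupp.single_eq_of_ne fun e => hS (by rw [← e] at hR; exact hR),
      max_eq_right (by omega)]
    simp
  obtain ⟨s, hs, hs'⟩ : ∃ s ∈ _root_.FunFld.L D, s ∉ _root_.FunFld.L D' := by
    by_contra hc
    push Not at hc
    have := Degree.finiteDimensional_L hK D'
    have h1 : _root_.FunFld.ell D ≤ _root_.FunFld.ell D' := Submodule.finrank_mono hc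
    have hP' := Existence.deg_pos hK P
    have h2 := Weil.ell_eq_of_deg_ge hK (D := D) (by omega)
    have h3 := Weil.ell_eq_of_deg_ge hK (D := D') (by omega)
    omega
  rw [Degree.mem_L_iff] at hs
  refine ⟨s, le_antisymm ?_ ?_, fun R hR => (hs R).trans ?_, fun R hR => (hs R).trans ?_⟩
  · have := hs P
    rwa [hD0, exp_zero] at this
  · by_contra hlt
    refine hs' (Degree.mem_L_iff.2 fun R => ?_)
    by_cases h : R = P
    · subst h
      rw [show D' R = -1 by simp [D', hD0]]
      simpa using Approx.val_le_of_lt_one (not_le.1 hlt) 1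
    · rw [show D' R = D R by simp [D', Finsupp.single_eq_of_ne (Ne.symm h), Finsupp.single_eq_of_ne h]]
      exact hs R
  · rw [← exp_zero, exp_le_exp]
    simp only [D, A, Z, Finsupp.sub_apply, Finsupp.smul_apply, Degree.poleDiv_apply hK, Finsupp.finsetSum_apply]
    rw [max_eq_right (by omega), smul_zero, zero_sub, neg_nonpos]
    exact Finset.sum_nonneg fun R' _ => by
      rw [Finsupp.single_apply]; split <;> simp
  · rw [exp_le_exp]
    simp only [D, A, Z, Finsupp.sub_apply, Finsupp.smul_apply, Degree.poleDiv_apply hK, Finsupp.finsetSum_apply]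
    rw [max_eq_right (by have := hSfin R hR; omega), smul_zero, zero_sub,
      Finset.sum_eq_single R (fun R' _ h => Finsupp.single_eq_of_ne h.symm) (fun h => absurd hR h)]
    simp

open IntermediateField in
/-- A discriminant is a conductor at every place where the separating element is finite. -/
theorem exists_discr (hK : _root_.FunFld.IsFunctionField k K) {x : K} (hsep : Hasse.Separable.IsSep k x) :
    ∃ D : K, D ≠ 0 ∧ ∀ P : _root_.FunFld.Place k K, 0 ≤ P.ord x →
      ∀ (k' : Type u) [Field k'] [Algebra k k']
      [FiniteDimensional k k'] (K' : Type w) [Field K'] [Algebra K K'] [Algebra k' K'] [Algebra k K']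
      [IsScalarTower k k' K'] [IsScalarTower k K K'],
      Function.Bijective (Algebra.TensorProduct.productMap
        (IsScalarTower.toAlgHom k k' K') (IsScalarTower.toAlgHom k K K')) →
      ∀ z : K', IsIntegral (P.O.toSubring.map (algebraMap K K')) z →
        algebraMap K K' D * z ∈
          Algebra.adjoin (P.O.toSubring.map (algebraMap K K')) (Set.range (algebraMap k' K')) := by
  classical
  have hx : Transcendental k x := H81.FunFldGeom.transcendental_of_isSep hK hsep
  let E := adjoin k ({x} : Set K)
  haveI : FiniteDimensional E K := Bound.finiteDimensional_adjoin_transcendental hK hx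
  haveI : Algebra.IsSeparable E K := hsep
  obtain ⟨y₀, hy₀⟩ := Field.exists_primitive_element E K
  -- make the primitive element integral
  let R₀ := Algebra.adjoin k ({x} : Set K)
  haveI : Algebra.IsAlgebraic R₀ K := by
    open scoped algebraAdjoinAdjoin in exact Algebra.IsAlgebraic.trans R₀ E K
  obtain ⟨d, hd, hy⟩ := (Algebra.IsAlgebraic.isAlgebraic (R := R₀) y₀).exists_integral_multiple
  let y := d • y₀
  have hyE : adjoin E ({y} : Set K) = ⊤ := by
    rw [← top_le_iff, ← hy₀, adjoin_le_iff, Set.singleton_subset_iff]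
    have hdE : (d : K) ∈ E := algebra_adjoin_le_adjoin k _ d.2
    have hd0 : (d : K) ≠ 0 := fun h => hd (Subtype.ext h)
    have h1 : y₀ = algebraMap E K ⟨(d : K), hdE⟩⁻¹ * y := by
      simp [y, Algebra.smul_def, hd0, mul_comm, mul_assoc, mul_left_comm]
    rw [SetLike.mem_coe, h1]
    exact mul_mem (IntermediateField.algebraMap_mem _ _) (mem_adjoin_simple_self _ _)
  have hyint : IsIntegral R₀ y := hy
  have hyi : IsIntegral E y := IsIntegral.of_finite E y
  let pb₀ := adjoin.powerBasis hyi
  let pb : PowerBasis E K := pb₀.map ((IntermediateField.equivOfEq hyE).trans IntermediateField.topEquiv)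
  have hgen : pb.gen = y := rfl
  let D : K := algebraMap E K (Algebra.discr E pb.basis)
  have hD : D ≠ 0 := by
    simpa [D] using Algebra.discr_not_zero_of_basis E pb.basis
  refine ⟨D, hD, fun P hPx k' _ _ _ K' _ _ _ _ _ _ h z hz => ?_⟩
  have hPy : 0 ≤ P.ord y := by
    rw [← val_le_one_iff]
    have hle : ∀ r : R₀, (r : K) ∈ P.O := fun r => by
      have : R₀ ≤ ({ P.O.toSubring with algebraMap_mem' := P.2.1 } : Subalgebra k K) :=
        Algebra.adjoin_le fun w hw => by
          rw [Set.mem_singleton_iff] at hw
          subst hw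
          exact (val_le_one_iff P).2 hPx
      exact this r.2
    have hint : IsIntegral P.O y := by
      obtain ⟨p, hp, hp0⟩ := hyint
      refine ⟨p.map (R₀.val.toRingHom.codRestrict P.O.toSubring hle : R₀ →+* P.O), hp.map _, ?_⟩
      rw [Polynomial.eval₂_map]
      exact hp0
    obtain ⟨a, ha⟩ := IsIntegrallyClosed.isIntegral_iff.1 hint
    rw [← ha]
    exact a.2
  haveI : FiniteDimensional K K' := ConstBase.finiteDimensional h
  let φ : K →ₐ[k] K' := IsScalarTower.toAlgHom k K K'
  let f := algebraMap K K'
  let x' := φ x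
  have hx' : Transcendental k' x' := H81.ConstRank.transcendental_map φ hx
  let E' := adjoin k' ({x'} : Set K')
  obtain ⟨hfd, hfr⟩ := H81.ConstRank.finrank_adjoin φ h hx
  haveI := hfd
  have hEE' : ∀ c : E, φ (c : K) ∈ E' := fun c => by
    have : E ≤ (E'.restrictScalars k).comap φ := adjoin_le_iff.2 fun z hz => by
      rw [Set.mem_singleton_iff] at hz
      subst hz
      exact mem_adjoin_simple_self k' x'
    exact this c.2
  let σ : E →+* E' := (φ.toRingHom.comp E.val.toRingHom).codRestrict _ hEE'
  have hσ : ∀ c : E, algebraMap E' K' (σ c) = f (c : K) := fun _ => rfl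
  -- `y` still generates
  let y' := φ y
  have hy'i : IsIntegral E' y' := IsIntegral.of_finite E' y'
  have htop : adjoin E' ({y'} : Set K') = ⊤ := by
    rw [eq_top_iff]
    rintro z -
    obtain ⟨w, rfl⟩ := h.2 z
    induction w using TensorProduct.induction_on with
    | zero => rw [map_zero]; exact zero_mem _
    | add a c ha hc => rw [map_add]; exact add_mem ha hc
    | tmul c a =>
      rw [Algebra.TensorProduct.productMap_apply_tmul]
      refine mul_mem (IntermediateField.algebraMap_mem (adjoin E' ({y'} : Set K'))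
        (algebraMap k' E' c)) ?_
      have ha : a ∈ adjoin E ({y} : Set K) := hyE ▸ mem_top
      induction ha using adjoin_induction with
      | mem z hz => rw [Set.mem_singleton_iff] at hz; subst hz; exact mem_adjoin_simple_self _ _
      | algebraMap c =>
        exact IntermediateField.algebraMap_mem (adjoin E' ({y'} : Set K')) (σ c)
      | add a b _ _ ha hb => rw [map_add]; exact add_mem ha hb
      | inv a _ ha => rw [map_inv₀]; exact inv_mem ha
      | mul a b _ _ ha hb => rw [map_mul]; exact mul_mem ha hb
  let pb' : PowerBasis E' K' :=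
    (adjoin.powerBasis hy'i).map ((IntermediateField.equivOfEq htop).trans IntermediateField.topEquiv)
  have hgen' : pb'.gen = y' := rfl
  have hdim : pb.dim = pb'.dim := by rw [← pb.finrank, ← pb'.finrank, hfr]
  haveI : Algebra.IsSeparable E' K' := by
    haveI : Algebra.IsSeparable E' (adjoin E' ({y'} : Set K')) := by
      rw [IntermediateField.isSeparable_adjoin_simple_iff_isSeparable]
      have h1 : (minpoly E y).Separable := Algebra.IsSeparable.isSeparable E y
      refine (h1.map (f := σ)).of_dvd (minpoly.dvd E' y' ?_)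
      rw [Polynomial.aeval_def, Polynomial.eval₂_map,
        show (algebraMap E' K').comp σ = φ.toRingHom.comp (algebraMap E K) from RingHom.ext hσ]
      refine (Polynomial.hom_eval₂ (minpoly E y) (algebraMap E K) φ.toRingHom y).symm.trans ?_
      rw [← Polynomial.aeval_def, minpoly.aeval, map_zero]
    exact AlgEquiv.Algebra.isSeparable ((IntermediateField.equivOfEq htop).trans IntermediateField.topEquiv)
  -- the discriminant is the same
  let b : Module.Basis (Fin pb'.dim) E K := pb.basis.reindex (finCongr hdim)
  have hb : ∀ i, pb'.basis i = f (b i) := fun i => by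
    simp [b, pb'.coe_basis, pb.coe_basis, hgen, hgen', y', φ, f]
  have hmat : ∀ (z : K) i j, Algebra.leftMulMatrix pb'.basis (f z) i j =
      σ (Algebra.leftMulMatrix b z i j) := fun z i j => by
    rw [Algebra.leftMulMatrix_eq_repr_mul, Algebra.leftMulMatrix_eq_repr_mul, hb, ← map_mul]
    conv_lhs => rw [← b.sum_repr (z * b j), map_sum]
    simp only [Algebra.smul_def, map_mul]
    have : ∀ l, f (algebraMap E K (b.repr (z * b j) l)) * f (b l) =
        σ (b.repr (z * b j) l) • pb'.basis l := fun l => by
      rw [Algebra.smul_def, hb, hσ]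
      rfl
    simp only [this]
    rw [Module.Basis.repr_sum_self]
  have htr : ∀ z : K, Algebra.trace E' K' (f z) = σ (Algebra.trace E K z) := fun z => by
    rw [Algebra.trace_eq_matrix_trace pb'.basis, Algebra.trace_eq_matrix_trace b, Matrix.trace,
      Matrix.trace, map_sum]
    exact Finset.sum_congr rfl fun i _ => hmat z i i
  have hdiscr : algebraMap E' K' (Algebra.discr E' pb'.basis) = f D := by
    have h1 : Algebra.discr E' pb'.basis = σ (Algebra.discr E b) := by
      rw [Algebra.discr_def, Algebra.discr_def, RingHom.map_det]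
      congr 1
      ext i j
      rw [RingHom.mapMatrix_apply, Matrix.map_apply, Algebra.traceMatrix_apply, Algebra.traceMatrix_apply,
        Algebra.traceForm_apply, Algebra.traceForm_apply, hb, hb, ← map_mul, htr]
    rw [h1, hσ]
    have h2 : Algebra.discr E b = Algebra.discr E pb.basis := by
      rw [show (b : Fin pb'.dim → K) = pb.basis ∘ (finCongr hdim).symm from
        funext fun i => Module.Basis.reindex_apply _ _ _]
      exact Algebra.discr_reindex E pb.basis _
    rw [h2]
    rfl
  -- `O_P[k']`
  rw [← Subalgebra.mem_toSubring, Algebra.adjoin_eq_ring_closure]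
  set C := Subring.closure (Set.range (algebraMap (P.O.toSubring.map f) K') ∪ Set.range (algebraMap k' K'))
    with hC
  have hfC : ∀ a : K, P.1 a ≤ 1 → f a ∈ C := fun a ha =>
    Subring.subset_closure (Or.inl ⟨⟨f a, a, ha, rfl⟩, rfl⟩)
  let bk := Module.finBasis k k'
  let B := ConstBase.constBasis h bk
  have hzP := (ConstBase.isIntegral_map_O_iff hK P z).1 hz
  let T : Finset (_root_.FunFld.Place k K) := (Finset.univ.biUnion fun j =>
    (Degree.finite_support_ord hK (B.repr z j)).toFinset).filter fun R => R ≠ P ∧ 0 ≤ R.ord x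
  let M : ℕ := T.sup fun R => Finset.univ.sup fun j => (-(R.ord (B.repr z j))).toNat
  obtain ⟨s, hsP, hs1, hsT⟩ := exists_unit_small hK hx hPx T (fun h => (Finset.mem_filter.1 h).2.1 rfl)
    (fun R hR => (Finset.mem_filter.1 hR).2.2) M
  -- `s z` is integral over `k'[x]`
  have hsz : ∀ Q : _root_.FunFld.Place k K', Q.1 x' ≤ 1 → Q.1 (f s * z) ≤ 1 := by
    intro Q hQ
    obtain ⟨R, e, he0, he⟩ := Ext.exists_place_below hK Q
    have hRx : R.1 x ≤ 1 := by
      have : Q.1 (f x) ≤ 1 := hQ
      rw [he] at this
      exact (pow_le_one_iff_of_nonneg zero_le he0.ne').1 this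
    have hRx' : 0 ≤ R.ord x := (val_le_one_iff R).1 hRx
    by_cases hRP : R = P
    · subst hRP
      rw [map_mul, he, hsP, one_pow, one_mul]
      exact hzP Q ⟨e, he⟩
    rw [← B.sum_repr z, Finset.mul_sum]
    refine Valuation.map_sum_le _ fun j _ => ?_
    rw [Algebra.smul_def, ← mul_assoc, ← map_mul, map_mul, ConstBase.constBasis_apply, he]
    refine mul_le_one' (pow_le_one₀ zero_le ?_) (H81.ConstPlace.val_algebraMap_le Q _)
    rcases le_or_gt (R.1 (B.repr z j)) 1 with h1 | h1
    · rw [map_mul]; exact mul_le_one' (hs1 R hRx') h1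
    have hj : R.ord (B.repr z j) < 0 := (one_lt_val_iff R).1 h1
    have hRT : R ∈ T := Finset.mem_filter.2 ⟨Finset.mem_biUnion.2 ⟨j, Finset.mem_univ _,
      (Set.Finite.mem_toFinset _).2 (Function.mem_support.2 hj.ne)⟩, hRP, hRx'⟩
    have h0 : B.repr z j ≠ 0 := fun h0 => by rw [h0, ord_zero] at hj; exact lt_irrefl _ hj
    rw [map_mul, val_eq_exp R h0]
    refine (mul_le_mul' (hsT R hRT) le_rfl).trans ?_
    rw [← exp_add, ← exp_zero, exp_le_exp]
    have := (Finset.le_sup (f := fun j => (-(R.ord (B.repr z j))).toNat) (Finset.mem_univ j)).trans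
      (Finset.le_sup (f := fun R => Finset.univ.sup fun j => (-(R.ord (B.repr z j))).toNat) hRT)
    omega
  let R' := Algebra.adjoin k' ({x'} : Set K')
  have hw : IsIntegral R' (f s * z) := by
    have key := iInf_valuationSubring_superset (K := K') (s := (R' : Set K'))
    have hcl : Subring.closure (R' : Set K') = R'.toSubring := Subring.closure_eq R'.toSubring
    have hmem : f s * z ∈ ⨅ V : {V : ValuationSubring K' // (R' : Set K') ⊆ V.toSubring}, V.1.toSubring := by
      rw [Subring.mem_iInf]
      rintro ⟨V, hV⟩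
      by_cases hVtop : V = ⊤
      · subst hVtop; exact trivial
      have hk : ∀ c : k, algebraMap k K' c ∈ V := fun c => by
        rw [IsScalarTower.algebraMap_apply k k' K']
        exact hV (R'.algebraMap_mem _)
      obtain ⟨Q, hQ⟩ := Gen.Existence.exists_place_of_valuationSubring (Ext.isFF_of_finite (K' := K') hK) V hk hVtop
      show _ ∈ V
      rw [← hQ]
      refine hsz Q ?_
      have : x' ∈ V := hV (Algebra.self_mem_adjoin_singleton k' x')
      rw [← hQ] at this
      exact this
    rw [key] at hmem
    obtain ⟨p, hp, hp0⟩ : IsIntegral (Subring.closure (R' : Set K')) (f s * z) := hmem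
    refine ⟨p.map (Subring.inclusion hcl.le : Subring.closure (R' : Set K') →+* R'.toSubring), hp.map _, ?_⟩
    rw [Polynomial.eval₂_map]
    exact hp0
  have hy'int : IsIntegral R' y' := by
    obtain ⟨p, hp, hp0⟩ := hyint
    have hR : ∀ r : R₀, φ (r : K) ∈ R' := fun r => by
      have : R₀ ≤ (R'.restrictScalars k).comap φ := Algebra.adjoin_le fun z hz => by
        rw [Set.mem_singleton_iff] at hz
        subst hz
        exact Algebra.self_mem_adjoin_singleton k' x'
      exact this r.2
    let g : R₀ →+* R' := (φ.toRingHom.comp R₀.val.toRingHom).codRestrict _ hR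
    refine ⟨p.map g, hp.map g, ?_⟩
    rw [Polynomial.eval₂_map, show (algebraMap R' K').comp g = φ.toRingHom.comp (algebraMap R₀ K) from rfl]
    refine (Polynomial.hom_eval₂ p (algebraMap R₀ K) φ.toRingHom y).symm.trans ?_
    rw [hp0, map_zero]
  haveI : IsIntegrallyClosed R' :=
    IsIntegrallyClosed.of_equiv (Polynomial.algEquivOfTranscendental k' x' hx').toRingEquiv
  open scoped algebraAdjoinAdjoin in
  have hmem := Algebra.discr_mul_isIntegral_mem_adjoin (R := R') E' (B := pb') (hgen'.symm ▸ hy'int) hw
  rw [hgen', Algebra.smul_def, hdiscr] at hmem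
  have hR'C : ∀ r ∈ R', r ∈ C := by
    intro r hr
    induction hr using Algebra.adjoin_induction with
    | mem z hz =>
      rw [Set.mem_singleton_iff] at hz; subst hz
      exact hfC x ((val_le_one_iff P).2 hPx)
    | algebraMap c => exact Subring.subset_closure (Or.inr ⟨c, rfl⟩)
    | add a b _ _ ha hb => exact C.add_mem ha hb
    | mul a b _ _ ha hb => exact C.mul_mem ha hb
  have hDsz : f D * (f s * z) ∈ C := by
    suffices hsuff : ∀ w ∈ Algebra.adjoin R' ({y'} : Set K'), w ∈ C from hsuff _ hmem
    intro w hw'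
    induction hw' using Algebra.adjoin_induction with
    | mem z hz =>
      rw [Set.mem_singleton_iff] at hz; subst hz
      exact hfC y ((val_le_one_iff P).2 hPy)
    | algebraMap c => exact hR'C _ c.2
    | add a b _ _ ha hb => exact C.add_mem ha hb
    | mul a b _ _ ha hb => exact C.mul_mem ha hb
  have hs0 : s ≠ 0 := fun h0 => by rw [h0, map_zero] at hsP; exact zero_ne_one hsP
  have hu : f s⁻¹ ∈ C := hfC _ (by rw [map_inv₀, hsP, inv_one])
  have := C.mul_mem hu hDsz
  rwa [mul_left_comm, ← mul_assoc (f s⁻¹), ← map_mul, inv_mul_cancel₀ hs0, map_one, one_mul] at this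

/-- Outside a finite set, every constant extension keeps the places nonsingular. -/
theorem exists_bad (hK : _root_.FunFld.IsFunctionField k K) (hg : _root_.FunFld.IsGeometric k K) :
    ∃ S : Finset (_root_.FunFld.Place k K), ∀ P ∉ S, ∀ (k' : Type u) [Field k'] [Algebra k k']
      [FiniteDimensional k k'] (K' : Type w) [Field K'] [Algebra K K'] [Algebra k' K'] [Algebra k K']
      [IsScalarTower k k' K'] [IsScalarTower k K K'],
      Function.Bijective (Algebra.TensorProduct.productMap
        (IsScalarTower.toAlgHom k k' K') (IsScalarTower.toAlgHom k K K')) →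
      integralClosure (P.O.toSubring.map (algebraMap K K')) K' =
        Algebra.adjoin (P.O.toSubring.map (algebraMap K K')) (Set.range (algebraMap k' K')) := by
  classical
  obtain ⟨x, hsep⟩ := Hasse.Separable.exists_isSep_of_geometric hK hg
  obtain ⟨D, hD, hDP⟩ := exists_discr.{u, v, w} hK hsep
  refine ⟨((Degree.finite_support_ord hK x).toFinset ∪ (Degree.finite_support_ord hK D).toFinset).filter
    fun P => P.ord x < 0 ∨ P.ord D ≠ 0, fun P hP k' _ _ _ K' _ _ _ _ _ _ h => ?_⟩
  have hgood : 0 ≤ P.ord x ∧ P.ord D = 0 := by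
    by_contra hc
    refine hP (Finset.mem_filter.2 ⟨?_, by omega⟩)
    simp only [Finset.mem_union, Set.Finite.mem_toFinset, Function.mem_support]
    omega
  refine le_antisymm (fun z hz => ?_) (ConstBase.adjoin_le_integralClosure _ fun c =>
    ⟨algebraMap k K c, P.2.1 c, (IsScalarTower.algebraMap_apply k K K' c).symm⟩)
  have hD1 : P.1 D⁻¹ ≤ 1 := by rw [map_inv₀, val_eq_exp P hD, hgood.2, neg_zero, exp_zero, inv_one]
  have := Subalgebra.mul_mem _ (Subalgebra.algebraMap_mem
    (Algebra.adjoin (P.O.toSubring.map (algebraMap K K')) (Set.range (algebraMap k' K')))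
    ⟨_, D⁻¹, hD1, rfl⟩) (hDP P hgood.1 k' K' h z hz)
  rwa [show algebraMap (P.O.toSubring.map (algebraMap K K')) K' ⟨_, D⁻¹, hD1, rfl⟩ = algebraMap K K' D⁻¹
    from rfl, ← mul_assoc, ← map_mul, inv_mul_cancel₀ hD, map_one, one_mul] at this

/-- Every place has a conductor valid for all constant extensions. -/
theorem exists_conductor (hK : _root_.FunFld.IsFunctionField k K) (hg : _root_.FunFld.IsGeometric k K)
    (P : _root_.FunFld.Place k K) :
    ∃ c : K, c ≠ 0 ∧ ∀ (k' : Type u) [Field k'] [Algebra k k']
      [FiniteDimensional k k'] (K' : Type w) [Field K'] [Algebra K K'] [Algebra k' K'] [Algebra k K']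
      [IsScalarTower k k' K'] [IsScalarTower k K K'],
      Function.Bijective (Algebra.TensorProduct.productMap
        (IsScalarTower.toAlgHom k k' K') (IsScalarTower.toAlgHom k K K')) →
      ∀ z : K', IsIntegral (P.O.toSubring.map (algebraMap K K')) z →
        algebraMap K K' c * z ∈
          Algebra.adjoin (P.O.toSubring.map (algebraMap K K')) (Set.range (algebraMap k' K')) := by
  obtain ⟨x, hsep⟩ := Hasse.Separable.exists_isSep_of_geometric hK hg
  by_cases hP : 0 ≤ P.ord x
  · obtain ⟨D, hD, hDP⟩ := exists_discr.{u, v, w} hK hsep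
    exact ⟨D, hD, fun k' _ _ _ K' _ _ _ _ _ _ h => hDP P hP k' K' h⟩
  · have hsep' : Hasse.Separable.IsSep k x⁻¹ := by
      rw [Hasse.Separable.IsSep, Degree.adjoin_inv]; exact hsep
    obtain ⟨D, hD, hDP⟩ := exists_discr.{u, v, w} hK hsep'
    exact ⟨D, hD, fun k' _ _ _ K' _ _ _ _ _ _ h => hDP P (by rw [ord_inv]; omega) k' K' h⟩

end Groth.Agent.Lib.FunFld.ConstSingular
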