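import Groth.Agent.Lib.FunFld.ConstBase
import Mathlib.LinearAlgebra.Dimension.Free
/-!
# Towers of constant extensions
-/

set_option autoImplicit false

namespace Groth.Agent.Lib.FunFld.ConstBase

open scoped TensorProduct

universe u v

theorem bijective_trans {k k' k'' : Type u} {K K' K'' : Type v} [Field k] [Field k'] [Field k''] [Field K]
    [Field K'] [Field K''] [Algebra k k'] [Algebra k' k''] [Algebra k k''] [IsScalarTower k k' k'']
    [FiniteDimensional k k'] [FiniteDimensional k' k'']
    [Algebra k K] [Algebra K K'] [Algebra k' K'] [Algebra k K'] [IsScalarTower k k' K'] [IsScalarTower k K K']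
    [Algebra K' K''] [Algebra k'' K''] [Algebra k' K''] [Algebra k K''] [Algebra K K'']
    [IsScalarTower k' k'' K''] [IsScalarTower k' K' K''] [IsScalarTower K K' K''] [IsScalarTower k K K'']
    [IsScalarTower k k'' K'']
    (h1 : Function.Bijective (Algebra.TensorProduct.productMap
      (IsScalarTower.toAlgHom k k' K') (IsScalarTower.toAlgHom k K K')))
    (h2 : Function.Bijective (Algebra.TensorProduct.productMap
      (IsScalarTower.toAlgHom k' k'' K'') (IsScalarTower.toAlgHom k' K' K''))) :
    Function.Bijective (Algebra.TensorProduct.productMap
      (IsScalarTower.toAlgHom k k'' K'') (IsScalarTower.toAlgHom k K K'')) := by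
  let b := Module.finBasis k k'
  let b' := Module.finBasis k' k''
  let B := (constBasis h1 b).smulTower (constBasis h2 b')
  let bb := Algebra.TensorProduct.basis K (b.smulTower b')
  let m : K ⊗[k] k'' →ₐ[K] K'' := baseMap
  have hm : m.toLinearMap = (bb.equiv B (Equiv.refl _)).toLinearMap := bb.ext fun p => by
    rw [LinearEquiv.coe_toLinearMap, Module.Basis.equiv_apply]
    simp [bb, B, m, baseMap, Module.Basis.smulTower_apply, Algebra.smul_def,
      ← IsScalarTower.algebraMap_apply]
  have hmb : Function.Bijective m := by
    show Function.Bijective m.toLinearMap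
    rw [hm]
    exact (bb.equiv B (Equiv.refl _)).bijective
  convert hmb.comp (Algebra.TensorProduct.comm k k'' K).bijective using 1
  funext z
  induction z using TensorProduct.induction_on with
  | zero => simp
  | tmul a c => simp [m, baseMap, mul_comm]
  | add a c ha hc => simp only [map_add, Function.comp_apply] at ha hc ⊢; rw [ha, hc]

end Groth.Agent.Lib.FunFld.ConstBase
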