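import Groth.Agent.Lib.FunFld.Gen.Ramification
import Groth.Agent.Lib.FunFld.Galois
import Mathlib.FieldTheory.Fixed
import Mathlib.FieldTheory.Separable
import Mathlib.FieldTheory.Minpoly.Field

/-! An extension fixed by inertia is totally ramified. -/

namespace Groth.Agent.Lib.FunFld.InertiaField

open WithZero IsLocalRing Polynomial
open Groth.Agent.Lib.FunFld Groth.Agent.Lib.FunFld.Place
open scoped Pointwise

universe u v w
variable {k : Type u} {T : Type v} {K' : Type w} [Field k] [Field T] [Field K']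
  [Algebra k T] [Algebra T K'] [Algebra k K'] [IsScalarTower k T K'] [FiniteDimensional T K']

/-- If every automorphism over `T` fixes the valuation and acts trivially on residues then `Q` is
totally ramified over `T`. -/
theorem totally_ramified [IsGalois T K'] (hT : Gen.Bound.IsFF k T) (Q : _root_.FunFld.Place k K')
    [Algebra.IsSeparable k (ResidueField Q.O)]
    (hstab : ∀ σ : K' ≃ₐ[T] K', ∀ x, Q.1 (σ x) ≤ 1 ↔ Q.1 x ≤ 1)
    (htriv : ∀ σ : K' ≃ₐ[T] K', ∀ x, Q.1 x ≤ 1 → Q.1 (σ x - x) < 1) :
    ∃ R : _root_.FunFld.Place k T, FunFld.IsOverWith Q R (Module.finrank T K') := by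
  classical
  obtain ⟨R, e, he0, he⟩ := Ext.exists_place_below' hT Q
  refine ⟨R, ?_⟩
  obtain ⟨hfin, hsum⟩ := Gen.Ramification.sum_ramIdx_mul_deg (K' := K') hT R
  have huniq : ∀ Q' : _root_.FunFld.Place k K', FunFld.IsOver Q' R → Q' = Q := fun Q' hQ' => by
    obtain ⟨σ, rfl⟩ := Galois.exists_comapAut_eq ⟨e, he⟩ hQ'
    exact place_ext (SetLike.ext fun x => hstab σ x)
  have hset : hfin.toFinset = {Q} := Finset.eq_singleton_iff_unique_mem.mpr
    ⟨hfin.mem_toFinset.mpr ⟨e, he⟩, fun Q' h => huniq Q' (hfin.mem_toFinset.mp h)⟩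
  rw [hset, Finset.sum_singleton, Ext.ramIdx_eq he] at hsum
  -- the residue field does not grow
  have hmap : ∀ a : R.O, algebraMap T K' (a : T) ∈ Q.O := fun a => by
    show Q.1 _ ≤ 1
    rw [he]; exact pow_le_one₀ zero_le a.2
  let σ : R.O →ₐ[k] Q.O :=
    { ((algebraMap T K').comp R.O.subtype).codRestrict Q.O.toSubring hmap with
      commutes' := fun c => Subtype.ext (by
        show algebraMap T K' ((algebraMap k R.O c : R.O) : T) = _
        rw [coe_algebraMap_O, coe_algebraMap_O, ← IsScalarTower.algebraMap_apply]) }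
  have hσ_lt : ∀ a : R.O, Q.1 (σ a : K') < 1 ↔ R.1 (a : T) < 1 := fun a => by
    show Q.1 (algebraMap T K' (a : T)) < 1 ↔ _
    rw [he, pow_lt_one_iff_of_nonneg zero_le he0.ne']
  have hlocal : IsLocalHom σ.toRingHom := ⟨fun a ha => by
    by_contra h
    have h1 := (mem_maximalIdeal_iff R a).1 ((IsLocalRing.mem_maximalIdeal _).2 h)
    exact ((IsLocalRing.mem_maximalIdeal _).1 ((mem_maximalIdeal_iff Q _).2 ((hσ_lt a).2 h1))) ha⟩
  let φ : ResidueField R.O →ₐ[k] ResidueField Q.O :=
    { ResidueField.map σ.toRingHom with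
      commutes' := fun c => by
        show ResidueField.map σ.toRingHom (residue R.O (algebraMap k R.O c)) =
          residue Q.O (algebraMap k Q.O c)
        rw [ResidueField.map_residue]
        exact congrArg _ (σ.commutes c) }
  have hφ : ∀ a : R.O, φ (residue R.O a) = residue Q.O (σ a) := fun a => ResidueField.map_residue σ.toRingHom a
  have hsurj : Function.Surjective φ := by
    intro α
    obtain ⟨a₀, rfl⟩ := residue_surjective α
    have hmem : ∀ τ : K' ≃ₐ[T] K', Q.1 (τ a₀) ≤ 1 := fun τ => (hstab τ a₀).2 a₀.2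
    let g : K'[X] := ∏ τ : K' ≃ₐ[T] K', (X - C (τ (a₀ : K')))
    let g₀ : Q.O[X] := ∏ τ : K' ≃ₐ[T] K', (X - C ⟨τ (a₀ : K'), hmem τ⟩)
    have hg₀ : g₀.map Q.O.subtype = g := by simp [g, g₀, Polynomial.map_prod]
    have hres : g₀.map (residue Q.O) = (X - C (residue Q.O a₀)) ^ Fintype.card (K' ≃ₐ[T] K') := by
      simp only [g₀, Polynomial.map_prod, Polynomial.map_sub, map_X, map_C]
      rw [Finset.prod_eq_pow_card fun τ _ => ?_, Finset.card_univ]
      congr 2
      rw [← sub_eq_zero, ← map_sub, res_eq_zero_iff]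
      exact htriv τ a₀ a₀.2
    have hfixc : ∀ i, ∃ c : R.O, σ c = g₀.coeff i := by
      intro i
      have hco : g.coeff i ∈ (⊥ : IntermediateField T K') := by
        rw [IsGalois.mem_bot_iff_fixed]
        intro τ
        have hg : g.map (τ : K' →+* K') = g := by
          simp only [g, Polynomial.map_prod, Polynomial.map_sub, map_X, map_C]
          exact Fintype.prod_equiv (Equiv.mulLeft τ) _ _ fun ρ => rfl
        conv_rhs => rw [← hg, coeff_map]
        rfl
      obtain ⟨c, hc⟩ := IntermediateField.mem_bot.1 hco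
      have hc' : algebraMap T K' c = (g₀.coeff i : K') := by rw [hc, ← hg₀, coeff_map]; rfl
      have hcO : R.1 c ≤ 1 := by
        have h1 := (g₀.coeff i).2
        rw [← hc'] at h1
        rw [mem_O_iff, he] at h1
        exact (pow_le_one_iff_of_nonneg zero_le he0.ne').1 h1
      exact ⟨⟨c, hcO⟩, Subtype.ext hc'⟩
    choose c hc using hfixc
    let F := φ.fieldRange
    obtain ⟨gF, hgF⟩ : ∃ gF : F[X], gF.map (algebraMap F (ResidueField Q.O)) = g₀.map (residue Q.O) := by
      refine (mem_lifts _).1 ((lifts_iff_coeff_lifts _).2 fun i => ?_)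
      rw [coeff_map, ← hc i, ← hφ]
      exact ⟨⟨_, residue R.O (c i), rfl⟩, rfl⟩
    have : Algebra.IsSeparable F (ResidueField Q.O) :=
      Algebra.isSeparable_tower_top_of_isSeparable k F (ResidueField Q.O)
    set α := residue Q.O a₀
    have hsepα := Algebra.IsSeparable.isSeparable F α
    have hint : IsIntegral F α := hsepα.isIntegral
    have ha : aeval α gF = 0 := by
      rw [aeval_def, ← eval_map, hgF, hres, eval_pow, eval_sub, eval_X, eval_C, sub_self,
        zero_pow Fintype.card_ne_zero]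
    have hdvd := Polynomial.map_dvd (algebraMap F (ResidueField Q.O)) (minpoly.dvd F α ha)
    rw [hgF, hres] at hdvd
    obtain ⟨i, -, hi⟩ := (dvd_prime_pow (prime_X_sub_C α) _).1 hdvd
    have hi1 : (minpoly F α).natDegree = i := by
      rw [← natDegree_map (algebraMap F (ResidueField Q.O)), natDegree_eq_of_degree_eq
        (degree_eq_degree_of_associated hi), natDegree_pow, natDegree_X_sub_C, mul_one]
    have hsqf : Squarefree ((X - C α) ^ i) :=
      (Polynomial.Separable.squarefree (Polynomial.Separable.map (f := algebraMap F (ResidueField Q.O))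
        hsepα)).squarefree_of_dvd hi.symm.dvd
    have hile : i ≤ 1 := by
      by_contra hlt
      exact Polynomial.not_isUnit_X_sub_C α (hsqf (X - C α) (by
        rw [← pow_two]; exact pow_dvd_pow _ (by omega)))
    have hdeg1 : (minpoly F α).natDegree = 1 := by
      have := minpoly.natDegree_pos hint
      omega
    obtain ⟨b, hb⟩ := minpoly.natDegree_eq_one_iff.1 hdeg1
    obtain ⟨x, hx⟩ := b.2
    exact ⟨x, by rw [← hb]; exact hx⟩
  have hdeg : R.deg = Q.deg :=
    (LinearEquiv.ofBijective φ.toLinearMap ⟨φ.toRingHom.injective, hsurj⟩).finrank_eq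
  rw [hdeg] at hsum
  rw [← Nat.eq_of_mul_eq_mul_right (Gen.Existence.deg_pos (Gen.Ramification.isFF_of_finite hT) Q) hsum]
  exact he

end Groth.Agent.Lib.FunFld.InertiaField
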