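import Groth.Agent.Lib.FunFld.Bound
import Groth.Agent.Lib.FunFld.Hasse.Separable
import Groth.Agent.H81.FunFldGeom
import Mathlib.Algebra.Polynomial.Bivariate
import Mathlib.RingTheory.Polynomial.GaussLemma
import Mathlib.RingTheory.Polynomial.UniqueFactorization
import Mathlib.FieldTheory.PrimitiveElement
/-!
# Geometric function fields and absolutely irreducible plane models
-/

set_option autoImplicit false

namespace Groth.Agent.Lib.FunFld.PlaneModel

open Groth.Agent.Lib.FunFld
open scoped TensorProduct Polynomial.Bivariate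

universe u v
variable {k : Type u} {K : Type v} [Field k] [Field K] [Algebra k K]

theorem aeval_incl (k' : Type u) [Field k'] [Algebra k k'] (x : Fin 2 → K) (r : MvPolynomial (Fin 2) k) :
    MvPolynomial.aeval (fun i => (1 : k') ⊗ₜ[k] x i) (MvPolynomial.map (algebraMap k k') r) =
      (1 : k') ⊗ₜ[k] MvPolynomial.aeval x r := by
  rw [MvPolynomial.aeval_map_algebraMap]
  have h : (Algebra.TensorProduct.includeRight : K →ₐ[k] k' ⊗[k] K).comp (MvPolynomial.aeval x) =
      MvPolynomial.aeval (fun i => (1 : k') ⊗ₜ[k] x i) := MvPolynomial.algHom_ext fun i => by simp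
  exact (DFunLike.congr_fun h r).symm

theorem aevalAeval_eq (x y : K) (p : k[X][Y]) :
    Polynomial.aevalAeval x y p = p.eval₂ (Polynomial.aeval x : Polynomial k →ₐ[k] K).toRingHom y := by
  induction p using Polynomial.induction_on' with
  | add a b ha hb => rw [Polynomial.eval₂_add, map_add, ha, hb]
  | monomial n a =>
    rw [Polynomial.eval₂_monomial, ← Polynomial.C_mul_X_pow_eq_monomial, map_mul, map_pow]
    simp

/-- Kernel of `k'[X, Y] → k' ⊗ K`. -/
theorem ker_tensor {x : Fin 2 → K} {f : MvPolynomial (Fin 2) k}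
    (hker : RingHom.ker (MvPolynomial.aeval x : MvPolynomial (Fin 2) k →ₐ[k] K) = Ideal.span {f})
    (k' : Type u) [Field k'] [Algebra k k'] [FiniteDimensional k k'] (g : MvPolynomial (Fin 2) k') :
    MvPolynomial.aeval (fun i => (1 : k') ⊗ₜ[k] x i) g = 0 ↔
      MvPolynomial.map (algebraMap k k') f ∣ g := by
  classical
  let b := Module.finBasis k k'
  let m : MvPolynomial (Fin 2) k →+* MvPolynomial (Fin 2) k' := MvPolynomial.map (algebraMap k k')
  let ev : MvPolynomial (Fin 2) k' →ₐ[k'] k' ⊗[k] K := MvPolynomial.aeval (fun i => (1 : k') ⊗ₜ[k] x i)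
  have hev : ∀ h : MvPolynomial (Fin 2) k, ev (m h) = (1 : k') ⊗ₜ[k] MvPolynomial.aeval x h :=
    aeval_incl k' x
  -- split `g` along the basis
  have hsplit : ∃ gs : Fin (Module.finrank k k') → MvPolynomial (Fin 2) k,
      g = ∑ j, MvPolynomial.C (b j) * m (gs j) := by
    refine ⟨fun j => ∑ d ∈ g.support, MvPolynomial.monomial d (b.repr (g.coeff d) j), ?_⟩
    conv_lhs => rw [g.as_sum]
    simp only [map_sum, Finset.mul_sum]
    rw [Finset.sum_comm]
    refine Finset.sum_congr rfl fun d _ => ?_
    conv_lhs => rw [← b.sum_repr (g.coeff d), map_sum]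
    refine Finset.sum_congr rfl fun j _ => ?_
    rw [Algebra.smul_def, MvPolynomial.map_monomial, MvPolynomial.C_mul_monomial, mul_comm]
  obtain ⟨gs, hgs⟩ := hsplit
  constructor
  · intro hg
    change ev g = 0 at hg
    rw [hgs, map_sum] at hg
    have h0 : ∑ j, b j ⊗ₜ[k] MvPolynomial.aeval x (gs j) = 0 := by
      refine Eq.trans (Finset.sum_congr rfl fun j _ => ?_) hg
      rw [map_mul, hev, ← MvPolynomial.algebraMap_eq, AlgHom.commutes,
        Algebra.TensorProduct.algebraMap_apply, Algebra.TensorProduct.tmul_mul_tmul]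
      simp
    have hli := fun j => congrArg (TensorProduct.lift ((LinearMap.lsmul k K).comp (b.coord j))) h0
    rw [hgs]
    refine Finset.dvd_sum fun j _ => ?_
    have hj : MvPolynomial.aeval x (gs j) = 0 := by
      simpa [Finsupp.single_apply] using hli j
    have : gs j ∈ Ideal.span {f} := by rw [← hker]; exact hj
    exact dvd_mul_of_dvd_right (map_dvd m (Ideal.mem_span_singleton.1 this)) _
  · rintro ⟨q, rfl⟩
    show ev (m f * q) = 0
    have hf : MvPolynomial.aeval x f = 0 := by
      have : f ∈ RingHom.ker (MvPolynomial.aeval x : MvPolynomial (Fin 2) k →ₐ[k] K) := by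
        rw [hker]; exact Ideal.mem_span_singleton_self f
      exact this
    rw [map_mul, hev, hf, TensorProduct.tmul_zero, zero_mul]

/-- In a geometric extension every algebraic element is a constant. -/
theorem mem_range_of_isGeometric (hg : _root_.FunFld.IsGeometric k K) {u : K} (hu : IsIntegral k u) :
    u ∈ (algebraMap k K).range := by
  classical
  let q := minpoly k u
  haveI : Fact (Irreducible q) := ⟨minpoly.irreducible hu⟩
  let pb := AdjoinRoot.powerBasis (minpoly.ne_zero hu)
  haveI : FiniteDimensional k (AdjoinRoot q) := pb.finite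
  letI : Field (AdjoinRoot q ⊗[k] K) := (hg (AdjoinRoot q) inferInstance).toField
  let μ : AdjoinRoot q ⊗[k] K →ₐ[k] K :=
    Algebra.TensorProduct.productMap (AdjoinRoot.liftAlgHom q (Algebra.ofId k K) u (minpoly.aeval k u)) (AlgHom.id k K)
  have h1 : AdjoinRoot.root q ⊗ₜ[k] (1 : K) = (1 : AdjoinRoot q) ⊗ₜ[k] u :=
    μ.toRingHom.injective (show μ _ = μ _ by
      simp only [μ, Algebra.TensorProduct.productMap_apply_tmul, map_one, mul_one, one_mul]
      exact AdjoinRoot.liftAlgHom_root _ _ _ _)
  by_contra hne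
  have hdim : 1 < pb.dim := by
    rw [show pb.dim = q.natDegree from AdjoinRoot.powerBasis_dim _]
    refine lt_of_le_of_ne (minpoly.natDegree_pos hu) fun h => hne ?_
    exact minpoly.natDegree_eq_one_iff.1 h.symm
  have h2 := congrArg (TensorProduct.lift ((LinearMap.lsmul k K).comp (pb.basis.coord ⟨1, hdim⟩))) h1
  have c1 : pb.basis.repr (AdjoinRoot.root q) = Finsupp.single ⟨1, hdim⟩ 1 := by
    rw [← pb.basis.repr_self, pb.basis_eq_pow, AdjoinRoot.powerBasis_gen, pow_one]
  have c0 : pb.basis.repr 1 = Finsupp.single ⟨0, by omega⟩ 1 := by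
    rw [← pb.basis.repr_self, pb.basis_eq_pow, pow_zero]
  simp [c1, c0, Finsupp.single_apply] at h2

theorem aeval_equiv (x y : K) (p : k[X][Y]) :
    MvPolynomial.aeval ![x, y] (Polynomial.Bivariate.equivMvPolynomial k p) = Polynomial.aevalAeval x y p := by
  have : (MvPolynomial.aeval ![x, y]).comp (Polynomial.Bivariate.equivMvPolynomial k).toAlgHom =
      Polynomial.aevalAeval x y := by
    refine Polynomial.algHom_ext' ?_ ?_
    · exact Polynomial.algHom_ext (by simp)
    · simp
  exact DFunLike.congr_fun this p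

/-- The relations of `(x, y)` with `x` transcendental and `y` algebraic over `k(x)` are principal. -/
theorem exists_span {x y : K} (hx : Transcendental k x)
    (hy : ∃ g : k[X][Y], g ≠ 0 ∧ Polynomial.aevalAeval x y g = 0) :
    ∃ f : MvPolynomial (Fin 2) k, Irreducible f ∧
      RingHom.ker (MvPolynomial.aeval ![x, y] : MvPolynomial (Fin 2) k →ₐ[k] K) = Ideal.span {f} := by
  classical
  let e := Polynomial.Bivariate.equivMvPolynomial k
  let ev : k[X][Y] →ₐ[k] K := Polynomial.aevalAeval x y
  obtain ⟨g, hg0, hg⟩ := hy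
  -- an irreducible factor killing `(x, y)`
  obtain ⟨f, hf, hfy⟩ : ∃ f : k[X][Y], Irreducible f ∧ ev f = 0 := by
    by_contra hc
    push Not at hc
    refine absurd hg ?_
    have hgu := UniqueFactorizationMonoid.prod_normalizedFactors hg0
    obtain ⟨w, hw⟩ := hgu
    show ev g ≠ 0
    rw [← hw, map_mul, map_multiset_prod]
    refine mul_ne_zero (Multiset.prod_ne_zero fun h0 => ?_) (w.isUnit.map ev).ne_zero
    obtain ⟨f, hf, hf0⟩ := Multiset.mem_map.1 h0
    exact hc f (UniqueFactorizationMonoid.irreducible_of_normalized_factor f hf) hf0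
  have hinj : Function.Injective (Polynomial.aeval x : Polynomial k →ₐ[k] K) :=
    transcendental_iff_injective.1 hx
  have hdeg : f.natDegree ≠ 0 := by
    intro h0
    rw [Polynomial.natDegree_eq_zero] at h0
    obtain ⟨c, rfl⟩ := h0
    have : Polynomial.aeval x c = 0 := by simpa [ev] using hfy
    exact hf.ne_zero (by rw [hinj (this.trans (map_zero _).symm), map_zero])
  have hprim := hf.isPrimitive hdeg
  let F := FractionRing (Polynomial k)
  let φ : F →+* K := IsFractionRing.lift (g := (Polynomial.aeval x : Polynomial k →ₐ[k] K).toRingHom) hinj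
  letI : Algebra F K := φ.toAlgebra
  have hev : ∀ p : k[X][Y], Polynomial.aeval y (p.map (algebraMap (Polynomial k) F)) = ev p := by
    intro p
    rw [Polynomial.aeval_def, Polynomial.eval₂_map]
    have : (algebraMap F K).comp (algebraMap (Polynomial k) F) = (Polynomial.aeval x : Polynomial k →ₐ[k] K).toRingHom :=
      RingHom.ext fun r => IsFractionRing.lift_algebraMap hinj r
    rw [this]
    exact (aevalAeval_eq x y p).symm
  have hfF : Irreducible (f.map (algebraMap (Polynomial k) F)) :=
    hprim.irreducible_iff_irreducible_map_fraction_map.1 hf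
  refine ⟨e f, (MulEquiv.irreducible_iff e).2 hf, le_antisymm (fun p hp => ?_) ?_⟩
  · obtain ⟨p, rfl⟩ := e.surjective p
    rw [Ideal.mem_span_singleton]
    refine map_dvd e (hprim.dvd_of_fraction_map_dvd_fraction_map (K := F) ?_)
    have hp' : ev p = 0 := (aeval_equiv x y p).symm.trans hp
    have h1 := minpoly.dvd F y (hev p ▸ hp' : Polynomial.aeval y (p.map (algebraMap (Polynomial k) F)) = 0)
    have h2 := minpoly.dvd F y (hev f ▸ hfy : Polynomial.aeval y (f.map (algebraMap (Polynomial k) F)) = 0)
    have hyint : IsIntegral F y := IsAlgebraic.isIntegral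
      ⟨_, hfF.ne_zero, (hev f ▸ hfy : Polynomial.aeval y (f.map (algebraMap (Polynomial k) F)) = 0)⟩
    exact ((minpoly.irreducible hyint).dvd_symm hfF h2).trans h1
  · rw [Ideal.span_singleton_le_iff_mem]
    exact (aeval_equiv x y f).trans hfy

theorem forward (hK : _root_.FunFld.IsFunctionField k K) (hg : _root_.FunFld.IsGeometric k K) :
    ∃ (x y : K) (f : MvPolynomial (Fin 2) k),
        IntermediateField.adjoin k ({x, y} : Set K) = ⊤ ∧
        (∀ (k' : Type u) [Field k'] [Algebra k k'], FiniteDimensional k k' →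
          Irreducible (MvPolynomial.map (algebraMap k k') f)) ∧
        RingHom.ker (MvPolynomial.aeval ![x, y] : MvPolynomial (Fin 2) k →ₐ[k] K) = Ideal.span {f} := by
  classical
  obtain ⟨x, hsep⟩ := Hasse.Separable.exists_isSep_of_geometric hK hg
  have hx : Transcendental k x := H81.FunFldGeom.transcendental_of_isSep hK hsep
  let E := IntermediateField.adjoin k ({x} : Set K)
  haveI : FiniteDimensional E K := Bound.finiteDimensional_adjoin_transcendental hK hx
  haveI : Algebra.IsSeparable E K := hsep
  obtain ⟨y, hy⟩ := Field.exists_primitive_element E K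
  have htop : IntermediateField.adjoin k ({x, y} : Set K) = ⊤ := by
    rw [← IntermediateField.adjoin_simple_adjoin_simple, hy, IntermediateField.restrictScalars_top]
  let R₀ := Algebra.adjoin k ({x} : Set K)
  haveI : Algebra.IsAlgebraic R₀ K := by
    open scoped IntermediateField.algebraAdjoinAdjoin in exact Algebra.IsAlgebraic.trans R₀ E K
  obtain ⟨p, hp0, hp⟩ := Algebra.IsAlgebraic.isAlgebraic (R := R₀) y
  obtain ⟨g, hg'⟩ := Polynomial.map_surjective
    ((Polynomial.algEquivOfTranscendental k x hx : Polynomial k ≃ₐ[k] R₀) : Polynomial k →+* R₀)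
    (Polynomial.algEquivOfTranscendental k x hx).surjective p
  have hgy : ∃ g : k[X][Y], g ≠ 0 ∧ Polynomial.aevalAeval x y g = 0 := by
    refine ⟨g, fun h0 => hp0 (by rw [← hg', h0, Polynomial.map_zero]), ?_⟩
    rw [← hg', Polynomial.aeval_def, Polynomial.eval₂_map] at hp
    rw [← hp]
    have h3 : (algebraMap R₀ K).comp ((Polynomial.algEquivOfTranscendental k x hx : Polynomial k ≃ₐ[k] R₀) :
        Polynomial k →+* R₀) = (Polynomial.aeval x : Polynomial k →ₐ[k] K).toRingHom :=
      RingHom.ext fun r => by simp [Polynomial.algEquivOfTranscendental_coe]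
    rw [h3]
    exact aevalAeval_eq x y g
  obtain ⟨f, hf, hker⟩ := exists_span hx hgy
  refine ⟨x, y, f, htop, fun k' _ _ hfd => ?_, hker⟩
  haveI := hfd
  haveI := (hg k' hfd).isDomain
  have hne : MvPolynomial.map (algebraMap k k') f ≠ 0 := fun h =>
    hf.ne_zero (MvPolynomial.map_injective _ (algebraMap k k').injective (h.trans (map_zero _).symm))
  refine Prime.irreducible ⟨hne, fun hu => ?_, fun a b hab => ?_⟩
  · have := (ker_tensor hker k' 1).2 (isUnit_iff_dvd_one.1 hu)
    rw [map_one] at this
    exact one_ne_zero this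
  · rw [← ker_tensor hker k' (a * b), map_mul, mul_eq_zero] at hab
    exact hab.imp (ker_tensor hker k' a).1 (ker_tensor hker k' b).1

theorem exists_bivariate_zero {x y : K} {f : MvPolynomial (Fin 2) k} (hf : f ≠ 0)
    (hfy : MvPolynomial.aeval ![x, y] f = 0) :
    ∃ g : k[X][Y], g ≠ 0 ∧ Polynomial.aevalAeval x y g = 0 := by
  obtain ⟨g, rfl⟩ := (Polynomial.Bivariate.equivMvPolynomial k).surjective f
  exact ⟨g, fun h => hf (by rw [h, map_zero]), by rwa [aeval_equiv] at hfy⟩

/-- A field generated by `x` transcendental and `y` algebraic over `k(x)` is a function field. -/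
theorem finite_adjoin {x y : K} (hx : Transcendental k x)
    (hy : ∃ g : k[X][Y], g ≠ 0 ∧ Polynomial.aevalAeval x y g = 0)
    (htop : IntermediateField.adjoin k ({x, y} : Set K) = ⊤) :
    FiniteDimensional (IntermediateField.adjoin k ({x} : Set K)) K := by
  let E := IntermediateField.adjoin k ({x} : Set K)
  obtain ⟨g, hg0, hg⟩ := hy
  let j : Polynomial k →ₐ[k] E := Polynomial.aeval (⟨x, IntermediateField.mem_adjoin_simple_self k x⟩ : E)
  have hj : Function.Injective j := fun a b h => transcendental_iff_injective.1 hx (by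
    have h2 : ∀ r, Polynomial.aeval x r = E.val (j r) := fun r => by
      rw [← Polynomial.aeval_algHom_apply]
      rfl
    rw [h2, h2, h])
  have hyint : IsIntegral E y := IsAlgebraic.isIntegral ⟨g.map j.toRingHom,
    (Polynomial.map_ne_zero_iff hj).2 hg0, by
      rw [Polynomial.aeval_def, Polynomial.eval₂_map, ← hg]
      have h3 : (algebraMap E K).comp j.toRingHom = (Polynomial.aeval x : Polynomial k →ₐ[k] K).toRingHom :=
        RingHom.ext fun r => by
          show E.val (j r) = Polynomial.aeval x r
          rw [← Polynomial.aeval_algHom_apply]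
          rfl
      rw [h3]
      exact (aevalAeval_eq x y g).symm⟩
  have htop' : IntermediateField.adjoin E ({y} : Set K) = ⊤ := by
    refine (IntermediateField.restrictScalars_eq_top_iff (K := k)).1 ?_
    rw [IntermediateField.adjoin_simple_adjoin_simple, htop]
  haveI := IntermediateField.adjoin.finiteDimensional hyint
  exact Module.Finite.equiv ((IntermediateField.equivOfEq htop').trans IntermediateField.topEquiv).toLinearEquiv

theorem backward {x y : K} {f : MvPolynomial (Fin 2) k}
    (htop : IntermediateField.adjoin k ({x, y} : Set K) = ⊤)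
    (hirr : ∀ (k' : Type u) [Field k'] [Algebra k k'], FiniteDimensional k k' →
          Irreducible (MvPolynomial.map (algebraMap k k') f))
    (hker : RingHom.ker (MvPolynomial.aeval ![x, y] : MvPolynomial (Fin 2) k →ₐ[k] K) = Ideal.span {f}) :
    _root_.FunFld.IsFunctionField k K ∧ _root_.FunFld.IsGeometric k K := by
  classical
  have hf : Irreducible f := by simpa [MvPolynomial.map_id] using hirr k inferInstance
  have hfy : MvPolynomial.aeval ![x, y] f = 0 := by
    have : f ∈ RingHom.ker (MvPolynomial.aeval ![x, y] : MvPolynomial (Fin 2) k →ₐ[k] K) := by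
      rw [hker]; exact Ideal.mem_span_singleton_self f
    exact this
  have hg := exists_bivariate_zero hf.ne_zero hfy
  -- geometric
  have hgeo : _root_.FunFld.IsGeometric k K := by
    intro k' _ _ hfd
    haveI := hfd
    let b := Module.finBasis k k'
    haveI : Module.Finite K (K ⊗[k] k') := Module.Finite.base_change k K k'
    let ev := MvPolynomial.aeval (R := k') (fun i => (1 : k') ⊗ₜ[k] (![x, y] : Fin 2 → K) i)
    have hprime : Prime (MvPolynomial.map (algebraMap k k') f) :=
      UniqueFactorizationMonoid.irreducible_iff_prime.1 (hirr k' hfd)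
    have hincl : ∀ r : MvPolynomial (Fin 2) k, ev (MvPolynomial.map (algebraMap k k') r) =
        (1 : k') ⊗ₜ[k] MvPolynomial.aeval ![x, y] r := fun r =>
      aeval_incl k' ![x, y] r
    have hrange : Set.range ![x, y] = ({x, y} : Set K) := by
      rw [Matrix.range_cons_cons_empty]
    -- every element becomes polynomial after scaling
    have hscale : ∀ z : k' ⊗[k] K, ∃ s : MvPolynomial (Fin 2) k, MvPolynomial.aeval ![x, y] s ≠ 0 ∧
        ((1 : k') ⊗ₜ[k] MvPolynomial.aeval ![x, y] s) * z ∈ ev.range := by
      intro z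
      induction z using TensorProduct.induction_on with
      | zero => exact ⟨1, by simp, by rw [mul_zero]; exact zero_mem _⟩
      | tmul c a =>
        have ha : a ∈ IntermediateField.adjoin k (Set.range ![x, y]) := by
          rw [hrange, htop]
          exact IntermediateField.mem_top
        obtain ⟨r, s, rfl⟩ := IntermediateField.mem_adjoin_range_iff k _ a |>.1 ha
        by_cases hs : MvPolynomial.aeval ![x, y] s = 0
        · refine ⟨1, by simp, ?_⟩
          rw [hs, div_zero, TensorProduct.tmul_zero, mul_zero]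
          exact zero_mem _
        refine ⟨s, hs, MvPolynomial.C c * MvPolynomial.map (algebraMap k k') r, ?_⟩
        show ev _ = _
        rw [map_mul, hincl, ← MvPolynomial.algebraMap_eq, AlgHom.commutes,
          Algebra.TensorProduct.algebraMap_apply, Algebra.TensorProduct.tmul_mul_tmul,
          Algebra.TensorProduct.tmul_mul_tmul, mul_div_cancel₀ _ hs]
        simp
      | add z w hz hw =>
        obtain ⟨s, hs, hsz⟩ := hz
        obtain ⟨s', hs', hsw⟩ := hw
        refine ⟨s * s', by rw [map_mul]; exact mul_ne_zero hs hs', ?_⟩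
        rw [map_mul, show (1 : k') ⊗ₜ[k] (MvPolynomial.aeval ![x, y] s * MvPolynomial.aeval ![x, y] s') =
            ((1 : k') ⊗ₜ[k] MvPolynomial.aeval ![x, y] s) * ((1 : k') ⊗ₜ[k] MvPolynomial.aeval ![x, y] s') by
          rw [Algebra.TensorProduct.tmul_mul_tmul, one_mul], mul_add]
        refine add_mem ?_ ?_
        · rw [mul_comm ((1 : k') ⊗ₜ[k] MvPolynomial.aeval ![x, y] s), mul_assoc]
          exact mul_mem ⟨_, hincl s'⟩ hsz
        · rw [mul_assoc]
          exact mul_mem ⟨_, hincl s⟩ hsw
    haveI : Nontrivial (k' ⊗[k] K) :=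
      (Algebra.TensorProduct.includeRight_injective (R := k) (A := k') (B := K) (algebraMap k k').injective).nontrivial
    haveI : NoZeroDivisors (k' ⊗[k] K) := ⟨fun {z w} hzw => by
      obtain ⟨s, hs, a, ha⟩ := hscale z
      obtain ⟨s', hs', a', ha'⟩ := hscale w
      change ev a = _ at ha
      change ev a' = _ at ha'
      have hu : ∀ t : K, t ≠ 0 → IsUnit ((1 : k') ⊗ₜ[k] t) := fun t ht =>
        (isUnit_iff_ne_zero.2 ht).map (Algebra.TensorProduct.includeRight : K →ₐ[k] k' ⊗[k] K)
      have hab : ev (a * a') = 0 := by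
        rw [map_mul, ha, ha', mul_mul_mul_comm, hzw, mul_zero]
      rcases hprime.2.2 a a' ((ker_tensor hker k' _).1 hab) with h | h
      · exact Or.inl ((hu _ hs).mul_right_eq_zero.1 (ha ▸ (ker_tensor hker k' a).2 h))
      · exact Or.inr ((hu _ hs').mul_right_eq_zero.1 (ha' ▸ (ker_tensor hker k' a').2 h))⟩
    haveI : IsDomain (k' ⊗[k] K) := NoZeroDivisors.to_isDomain _
    haveI : IsDomain (K ⊗[k] k') := (Algebra.TensorProduct.comm k K k').toMulEquiv.isDomain_iff.2 inferInstance
    exact (Algebra.TensorProduct.comm k k' K).toMulEquiv.isField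
      (isField_of_isIntegral_of_isField' (R := K) (Field.toIsField K))
  refine ⟨⟨?_, fun z hz => mem_range_of_isGeometric hgeo hz.isIntegral⟩, hgeo⟩
  -- one of the generators is transcendental
  by_cases hx : Transcendental k x
  · exact ⟨x, hx, finite_adjoin hx hg htop⟩
  by_cases hy : Transcendental k y
  · obtain ⟨g, hg0, hg'⟩ := hg
    refine ⟨y, hy, finite_adjoin hy ⟨Polynomial.Bivariate.swap g, ?_, ?_⟩ (by rw [Set.pair_comm]; exact htop)⟩
    · exact fun h => hg0 ((map_eq_zero_iff _ (Polynomial.Bivariate.swap (R := k)).injective).1 h)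
    · rw [← hg', Polynomial.Bivariate.aevalAeval_swap]
  -- both algebraic is impossible
  exfalso
  obtain ⟨p, hp0, hp⟩ := not_not.1 hx
  obtain ⟨q, hq0, hq⟩ := not_not.1 hy
  obtain ⟨g, rfl⟩ := (Polynomial.Bivariate.equivMvPolynomial k).surjective f
  have hmem : ∀ u : k[X][Y], Polynomial.aevalAeval x y u = 0 → g ∣ u := fun u hu => by
    have : Polynomial.Bivariate.equivMvPolynomial k u ∈
        RingHom.ker (MvPolynomial.aeval ![x, y] : MvPolynomial (Fin 2) k →ₐ[k] K) :=
      (aeval_equiv x y u).trans hu
    rw [hker, Ideal.mem_span_singleton] at this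
    simpa using map_dvd (Polynomial.Bivariate.equivMvPolynomial k).symm this
  have h1 : g ∣ Polynomial.C p := hmem _ (by rw [Polynomial.aevalAeval_C]; exact hp)
  have h2 : g ∣ q.map Polynomial.C := hmem _ (by
    rw [← Polynomial.Bivariate.swap_C, Polynomial.Bivariate.aevalAeval_swap, Polynomial.aevalAeval_C]; exact hq)
  have hgd : g.natDegree = 0 := Nat.le_zero.1 ((Polynomial.natDegree_le_of_dvd h1
    (by simpa using hp0)).trans (Polynomial.natDegree_C p).le)
  obtain ⟨c, rfl⟩ := Polynomial.natDegree_eq_zero.1 hgd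
  have hcq : ∀ i, c ∣ Polynomial.C (q.coeff i) := fun i => by
    simpa [Polynomial.coeff_map] using Polynomial.C_dvd_iff_dvd_coeff _ _ |>.1 h2 i
  have hc : IsUnit c := isUnit_of_dvd_unit (hcq q.natDegree)
    (Polynomial.isUnit_C.2 (isUnit_iff_ne_zero.2 (Polynomial.leadingCoeff_ne_zero.2 hq0)))
  exact hf.not_isUnit ((hc.map Polynomial.C).map (Polynomial.Bivariate.equivMvPolynomial k))

end Groth.Agent.Lib.FunFld.PlaneModel
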