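import Groth.Prelude.Def_W4c6gradedringsgwSect
import Groth.Agent.Lib.FunFld.Gaps
import Groth.Agent.Lib.FunFld.Hasse.Wdiv
import Mathlib.RingTheory.Ideal.Quotient.Operations
import Mathlib.Algebra.MonoidAlgebra.Basic

/-! The section ring of a point. -/

namespace Groth.Agent.Lib.FunFld.SectRing

open WithZero Polynomial
open Groth.Agent.Lib.FunFld

universe u v
variable {k : Type u} {K : Type v} [Field k] [Field K] [Algebra k K]
  (P : _root_.FunFld.Place k K)

local notation "RP" => W4c6gradedringsgw.sectRing (Finsupp.single P 1 : _root_.FunFld.Divisor k K)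

theorem mem_sectRing_iff {p : K[X]} :
    p ∈ RP ↔ ∀ n : ℕ, p.coeff n ∈ _root_.FunFld.L (Finsupp.single P (n : ℤ)) :=
  forall_congr' fun n => by rw [Finsupp.smul_single, smul_eq_mul, mul_one]

theorem monomial_mem {n : ℕ} {f : K} (hf : f ∈ _root_.FunFld.L (Finsupp.single P (n : ℤ))) :
    monomial n f ∈ RP := by
  rw [mem_sectRing_iff]
  intro m
  rw [coeff_monomial]
  split_ifs with h
  · exact h ▸ hf
  · exact zero_mem _

variable {P}

theorem mem_poleOrders (hK : FunFld.IsFunctionField k K) (hP : P.deg = 1) (n : ℕ) :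
    n ∈ W4c6gradedringsgw.poleOrders P ↔ Gaps.IsPole P n := by
  rw [W4c6gradedringsgw.poleOrders, Set.mem_ofPred_eq]
  simp only [Finsupp.smul_single, smul_eq_mul, mul_one]
  rcases Nat.eq_zero_or_pos n with rfl | hn
  · refine iff_of_true ?_ (Gaps.isPole_zero P)
    rw [Nat.cast_zero, Finsupp.single_zero, Degree.ell_zero hK,
      Weil.ell_eq_zero_of_deg_neg hK (by rw [Degree.deg_single, hP]; norm_num)]
  · obtain ⟨m, rfl⟩ : ∃ m, n = m + 1 := ⟨n - 1, by omega⟩
    rw [show ((m + 1 : ℕ) : ℤ) - 1 = m by push_cast; ring]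
    have h1 := Gaps.ell_add_card hK hP m
    have h2 := Gaps.ell_add_card hK hP (m + 1)
    constructor
    · intro h
      by_contra hp
      have h3 := Finset.card_le_card (Finset.insert_subset
        ((Gaps.mem_gapsTo P).mpr ⟨⟨by omega, le_rfl⟩, hp⟩) (Gaps.gapsTo_mono P (Nat.le_succ m)))
      rw [Finset.card_insert_of_notMem (by rw [Gaps.mem_gapsTo]; omega)] at h3
      omega
    · intro hp
      have : Gaps.gapsTo P (m + 1) = Gaps.gapsTo P m :=
        le_antisymm (fun x hx => by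
          rw [Gaps.mem_gapsTo] at hx ⊢
          exact ⟨⟨hx.1.1, Nat.lt_succ_iff.mp (lt_of_le_of_ne hx.1.2 fun e => hx.2 (e ▸ hp))⟩, hx.2⟩)
          (Gaps.gapsTo_mono P (Nat.le_succ m))
      rw [this] at h2
      omega

theorem not_isPole_one (hK : FunFld.IsFunctionField k K) (hP : P.deg = 1)
    (hg : 1 ≤ _root_.FunFld.genus k K) : ¬ Gaps.IsPole P 1 := fun h => by
  have hall : ∀ m, Gaps.IsPole P m := fun m => by
    induction m with
    | zero => exact Gaps.isPole_zero P
    | succ m ih => exact Gaps.isPole_add P ih h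
  have h1 := Gaps.card_eq_genus hK hP (n := 2 * _root_.FunFld.genus k K) (by omega)
  rw [Finset.eq_empty_of_forall_notMem (s := Gaps.gapsTo P _)
    fun m hm => ((Gaps.mem_gapsTo P).mp hm).2 (hall m), Finset.card_empty] at h1
  omega

theorem L_one (hK : FunFld.IsFunctionField k K) (hP : P.deg = 1)
    (hg : 1 ≤ _root_.FunFld.genus k K) {f : K}
    (hf : f ∈ _root_.FunFld.L (Finsupp.single P 1)) : ∃ c : k, algebraMap k K c = f := by
  have h := (Gaps.L_eq_iff P 1).mpr (not_isPole_one hK hP hg)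
  rw [Nat.cast_one] at h
  rw [h, sub_self, Finsupp.single_zero, Degree.L_zero hK, Submodule.one_eq_range] at hf
  exact hf

variable {t : K} {ψ : K →ₐ[k] LaurentSeries k}

theorem val_mul_pow_le (ht : P.1 t = exp (-1)) {f : K} {n : ℕ}
    (hf : f ∈ _root_.FunFld.L (Finsupp.single P (n : ℤ))) : P.1 (f * t ^ n) ≤ 1 := by
  rw [map_mul, map_pow, ht, ← exp_nsmul, nsmul_eq_mul, mul_neg, mul_one]
  refine (mul_le_mul_left ((Gaps.mem_L_single P).mp hf).1 _).trans ?_
  rw [← exp_add, add_neg_cancel, exp_zero]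

/-- The inclusion of the valuation ring. -/
def inclO (P : _root_.FunFld.Place k K) : P.O →ₐ[k] K :=
  { P.O.subtype with commutes' := fun _ => rfl }

/-- The inclusion of polynomials over the valuation ring. -/
noncomputable abbrev iota (P : _root_.FunFld.Place k K) : (P.O)[X] →ₐ[k] K[X] :=
  Polynomial.mapAlgHom (inclO P)

theorem iota_injective (P : _root_.FunFld.Place k K) : Function.Injective (iota P) :=
  Polynomial.map_injective _ Subtype.val_injective

/-- Substitution `T ↦ tT`. -/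
noncomputable abbrev substK (P : _root_.FunFld.Place k K) (t : K) :
    W4c6gradedringsgw.sectRing (Finsupp.single P 1 : _root_.FunFld.Divisor k K) →ₐ[k] K[X] :=
  ((Polynomial.aeval (R := K) (C t * X)).restrictScalars k).comp
    (W4c6gradedringsgw.sectRing (Finsupp.single P 1 : _root_.FunFld.Divisor k K)).val

theorem substK_mem (ht : P.1 t = exp (-1)) (p : RP) : substK P t p ∈ (iota P).range := by
  have hl : substK P t p ∈ Polynomial.lifts P.O.subtype := by
    rw [Polynomial.lifts_iff_coeff_lifts]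
    intro n
    refine ⟨⟨_, val_mul_pow_le ht ((mem_sectRing_iff P).mp p.2 n)⟩, ?_⟩
    exact (Polynomial.comp_C_mul_X_coeff (p := (p : K[X]))).symm
  obtain ⟨q, hq⟩ := (Polynomial.mem_lifts _).mp hl
  exact ⟨q, hq⟩

/-- Substitution `T ↦ tT`, with coefficients in the valuation ring. -/
noncomputable def subst (ht : P.1 t = exp (-1)) : RP →ₐ[k] (P.O)[X] :=
  (AlgEquiv.ofInjective (iota P) (iota_injective P)).symm.toAlgHom.comp
    ((substK P t).codRestrict (iota P).range (substK_mem ht))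

theorem map_subst (ht : P.1 t = exp (-1)) (p : RP) :
    Polynomial.map (inclO P).toRingHom (subst ht p) = (p : K[X]).comp (C t * X) :=
  congrArg Subtype.val ((AlgEquiv.ofInjective (iota P) (iota_injective P)).apply_symm_apply
    ⟨substK P t p, substK_mem ht p⟩)

/-- The leading coefficients of a section. -/
noncomputable def lead (ht : P.1 t = exp (-1)) (hψ : LocRes.IsExpansionAt P.1 ψ) : RP →ₐ[k] k[X] :=
  (Polynomial.mapAlgHom (Res.Coef.resHom hψ)).comp (subst ht)

theorem coeff_lead (ht : P.1 t = exp (-1)) (hψ : LocRes.IsExpansionAt P.1 ψ) (p : RP) (n : ℕ) :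
    (lead ht hψ p).coeff n = (ψ ((p : K[X]).coeff n * t ^ n)).coeff 0 := by
  have h := congrArg (fun q : K[X] => q.coeff n) (map_subst ht p)
  simp only [Polynomial.coeff_map, Polynomial.comp_C_mul_X_coeff] at h
  change (Polynomial.map (Res.Coef.resHom hψ).toRingHom (subst ht p)).coeff n = _
  rw [Polynomial.coeff_map]
  change (ψ (((subst ht p).coeff n : P.O) : K)).coeff 0 = _
  rw [← h]
  rfl

theorem coeff_lead_eq_zero_iff (ht : P.1 t = exp (-1)) (hψ : LocRes.IsExpansionAt P.1 ψ) (p : RP)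
    (n : ℕ) : (lead ht hψ p).coeff n = 0 ↔
      (p : K[X]).coeff n ∈ _root_.FunFld.L (Finsupp.single P ((n : ℤ) - 1)) := by
  have hn := (mem_sectRing_iff P).mp p.2 n
  have hle := val_mul_pow_le ht hn
  rw [coeff_lead]
  refine (Res.Coef.resHom_eq_zero_iff hψ ⟨_, hle⟩).trans ?_
  change P.1 ((p : K[X]).coeff n * t ^ n) < 1 ↔ _
  rw [Gaps.mem_L_single, and_iff_left ((Gaps.mem_L_single P).mp hn).2, map_mul, map_pow, ht,
    ← exp_nsmul, nsmul_eq_mul, mul_neg, mul_one]
  generalize P.1 ((p : K[X]).coeff n) = x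
  rcases eq_or_ne x 0 with rfl | hx
  · simp
  · rw [← exp_log hx, ← exp_add, ← exp_zero, exp_lt_exp, exp_le_exp]
    omega

theorem isPole_of_coeff_lead_ne_zero (ht : P.1 t = exp (-1)) (hψ : LocRes.IsExpansionAt P.1 ψ)
    (p : RP) {n : ℕ} (h : (lead ht hψ p).coeff n ≠ 0) : Gaps.IsPole P n := by
  by_contra hp
  refine h ((coeff_lead_eq_zero_iff ht hψ p n).mpr ?_)
  rw [← (Gaps.L_eq_iff P n).mpr hp]
  exact (mem_sectRing_iff P).mp p.2 n

theorem exists_lead_eq_monomial (ht : P.1 t = exp (-1)) (hψ : LocRes.IsExpansionAt P.1 ψ) {n : ℕ}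
    (hn : Gaps.IsPole P n) (c : k) :
    ∃ f ∈ _root_.FunFld.L (Finsupp.single P (n : ℤ)), ∃ hf : monomial n f ∈ RP,
      lead ht hψ ⟨monomial n f, hf⟩ = monomial n c := by
  obtain ⟨f, hf, hf'⟩ := hn
  have hfL : f ∈ _root_.FunFld.L (Finsupp.single P (n : ℤ)) := (Gaps.mem_L_single P).mpr ⟨hf.le, hf'⟩
  have hne : (lead ht hψ ⟨_, monomial_mem P hfL⟩).coeff n ≠ 0 := fun h => by
    have := (coeff_lead_eq_zero_iff ht hψ _ n).mp h
    rw [coeff_monomial, if_pos rfl, Gaps.mem_L_single, hf, exp_le_exp] at this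
    omega
  set d := (lead ht hψ ⟨_, monomial_mem P hfL⟩).coeff n with hd
  have hcf : (c / d) • f ∈ _root_.FunFld.L (Finsupp.single P (n : ℤ)) := Submodule.smul_mem _ _ hfL
  refine ⟨_, hcf, monomial_mem P hcf, ?_⟩
  have heq : (⟨_, monomial_mem P hcf⟩ : RP) = (c / d) • (⟨_, monomial_mem P hfL⟩ : RP) :=
    Subtype.ext (smul_monomial _ _ _).symm
  rw [heq, map_smul]
  ext m
  rw [coeff_smul, coeff_monomial, smul_eq_mul]
  split_ifs with h
  · subst h; exact div_mul_cancel₀ c hne
  · rw [(coeff_lead_eq_zero_iff ht hψ _ m).mpr (by rw [coeff_monomial, if_neg h]; exact zero_mem _),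
      mul_zero]

theorem lead_eq_zero_imp (hK : FunFld.IsFunctionField k K) (hP : P.deg = 1) (ht : P.1 t = exp (-1))
    (hψ : LocRes.IsExpansionAt P.1 ψ) {p : RP} (h : lead ht hψ p = 0) :
    ∃ q : RP, (p : K[X]) = X * (q : K[X]) := by
  have hz : ∀ n : ℕ, (p : K[X]).coeff n ∈ _root_.FunFld.L (Finsupp.single P ((n : ℤ) - 1)) :=
    fun n => (coeff_lead_eq_zero_iff ht hψ p n).mp (by rw [h, coeff_zero])
  have h0 : (p : K[X]).coeff 0 = 0 := by
    have := hz 0
    rwa [Nat.cast_zero, Degree.L_eq_bot_of_deg_neg hK (by rw [Degree.deg_single, hP]; norm_num),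
      Submodule.mem_bot] at this
  refine ⟨⟨(p : K[X]).divX, (mem_sectRing_iff P).mpr fun n => ?_⟩, ?_⟩
  · have := hz (n + 1)
    rw [Nat.cast_add, Nat.cast_one, add_sub_cancel_right] at this
    rwa [coeff_divX]
  · conv_lhs => rw [← X_mul_divX_add (p : K[X]), h0, map_zero, add_zero]

theorem C_mul_X_mem (c : k) : C (algebraMap k K c) * X ∈ RP := by
  rw [C_mul_X_eq_monomial]
  refine monomial_mem P ((Gaps.mem_L_single P).mpr ⟨?_, fun Q _ => Q.2.1 c⟩)
  refine (P.2.1 c).trans ?_
  rw [← exp_zero, exp_le_exp]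
  norm_num

end Groth.Agent.Lib.FunFld.SectRing
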